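import Mathlib

/-!
# Bruhat normal forms bound the order of a group with `SL₂`-like relations
-/

set_option autoImplicit false

namespace CfsgLib.SLPres

variable {G : Type*} [Group G] {F : Type*} [Field F]

theorem zpow_conj_phi (φ : F → G) (h : G) (ν : F) (hν : ν ≠ 0)
    (hh : ∀ t, h * φ t * h⁻¹ = φ (ν * t)) (k : ℤ) :
    ∀ t, h ^ k * φ t * (h ^ k)⁻¹ = φ (ν ^ k * t) := by
  induction k with
  | zero => simp
  | succ n ih =>
    intro t
    rw [add_comm, zpow_add, zpow_one, mul_inv_rev, zpow_add₀ hν, zpow_one, mul_assoc ν, ← hh, ← ih]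
    group
  | pred n ih =>
    intro t
    rw [show (-(n : ℤ) - 1) = -1 + -(n : ℤ) by ring, zpow_add, zpow_neg_one, mul_inv_rev,
      zpow_add₀ hν, zpow_neg_one, mul_assoc ν⁻¹]
    have e := hh (ν⁻¹ * (ν ^ (-(n : ℤ)) * t))
    rw [← mul_assoc ν ν⁻¹, mul_inv_cancel₀ hν, one_mul, ← ih] at e
    calc h⁻¹ * h ^ (-(n : ℤ)) * φ t * ((h ^ (-(n : ℤ)))⁻¹ * h⁻¹⁻¹)
        = h⁻¹ * (h ^ (-(n : ℤ)) * φ t * (h ^ (-(n : ℤ)))⁻¹) * h := by group
      _ = _ := by rw [← e]; group

theorem zpow_conj_inverted {h w : G} (hw : w * h * w⁻¹ = h⁻¹) (k : ℤ) :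
    w * h ^ k = h ^ (-k) * w := by
  have : w * h ^ k * w⁻¹ = h ^ (-k) := by rw [← conj_zpow, hw, inv_zpow, zpow_neg]
  rw [← this]; group

/-- Spreading one relation along an orbit of `h`. -/
theorem rel_orbit (φ : F → G) (h w : G) (ν : F) (hν : ν ≠ 0)
    (hh : ∀ t, h * φ t * h⁻¹ = φ (ν * t)) (hw : w * h * w⁻¹ = h⁻¹) {s c d : F} {k : ℤ}
    (hrel : w * φ s * w = φ c * h ^ k * w * φ d) (i : ℤ) :
    w * φ (ν ^ i * s) * w = φ (ν ^ (-i) * c) * h ^ (k - 2 * i) * w * φ (ν ^ (-i) * d) := by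
  have hc := zpow_conj_phi φ h ν hν hh
  have hwz := zpow_conj_inverted hw
  have e1 : w * (h ^ i * φ s * (h ^ i)⁻¹) * w = h ^ (-i) * (w * φ s * w) * h ^ i := by
    calc w * (h ^ i * φ s * (h ^ i)⁻¹) * w = (w * h ^ i) * φ s * (h ^ (-i) * w) := by group
      _ = h ^ (-i) * w * φ s * (w * h ^ i) := by
          rw [hwz i, ← hwz i]
      _ = _ := by group
  rw [← hc i s, e1, hrel, ← hc (-i) c, ← hc (-i) d]
  calc h ^ (-i) * (φ c * h ^ k * w * φ d) * h ^ i
      = h ^ (-i) * φ c * (h ^ (-i))⁻¹ * h ^ (-i) * h ^ k * (w * h ^ (i : ℤ)) *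
          (h ^ (-i) * φ d * (h ^ (-i))⁻¹) := by group
    _ = _ := by rw [hwz i]; group

/-- The normal form count. -/
theorem card_le [Fintype F] (u h w : G) (φ : F → G) (ν : F) (hν : ν ≠ 0) (N : ℕ) (hN : 0 < N)
    (hgen : Subgroup.closure ({u, h, w} : Set G) = ⊤)
    (hadd : ∀ s t, φ (s + t) = φ s * φ t) (hu : φ 1 = u)
    (hh : ∀ t, h * φ t * h⁻¹ = φ (ν * t)) (hhN : h ^ N = 1)
    (hw : w * h * w⁻¹ = h⁻¹) (hw2 : ∃ i : ℤ, w * w = h ^ i)
    (hrel : ∀ t : F, t ≠ 0 → ∃ (c d : F) (k : ℤ), w * φ t * w = φ c * h ^ k * w * φ d) :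
    Finite G ∧ Nat.card G ≤ N * Fintype.card F * (1 + Fintype.card F) := by
  classical
  let form : ℤ → F → Option F → G := fun i a o => h ^ i * φ a * o.elim 1 fun b => w * φ b
  have h0 : φ 0 = 1 := by
    have := hadd 0 0
    rw [add_zero] at this
    exact left_eq_mul.mp this
  have hneg : ∀ t, φ (-t) = (φ t)⁻¹ := fun t => by
    refine (inv_eq_of_mul_eq_one_right ?_).symm
    rw [← hadd, add_neg_cancel, h0]
  have hmove : ∀ (k : ℤ) (a : F), φ a * h ^ k = h ^ k * φ (ν ^ (-k) * a) := by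
    intro k a
    rw [← zpow_conj_phi φ h ν hν hh (-k) a]; group
  obtain ⟨i₀, hi₀⟩ := hw2
  let S : Set G := {g | ∃ i a o, g = form i a o}
  -- right multiplication by the three kinds of letters
  have Sφ : ∀ g ∈ S, ∀ t, g * φ t ∈ S := by
    rintro _ ⟨i, a, o, rfl⟩ t
    cases o with
    | none => exact ⟨i, a + t, none, by simp [form, hadd, mul_assoc]⟩
    | some b => exact ⟨i, a, some (b + t), by simp [form, hadd, mul_assoc]⟩
  have Sh : ∀ g ∈ S, ∀ k : ℤ, g * h ^ k ∈ S := by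
    rintro _ ⟨i, a, o, rfl⟩ k
    cases o with
    | none =>
      refine ⟨i + k, ν ^ (-k) * a, none, ?_⟩
      simp only [form, Option.elim_none, mul_one]
      rw [mul_assoc, hmove, ← mul_assoc, ← zpow_add]
    | some b =>
      refine ⟨i + -k, ν ^ (- -k) * a, some (ν ^ (-k) * b), ?_⟩
      simp only [form, Option.elim_some]
      rw [mul_assoc, mul_assoc w, hmove, ← mul_assoc w, zpow_conj_inverted hw, mul_assoc]
      simp only [mul_assoc]
      rw [← mul_assoc (φ a) (h ^ (-k)), hmove (-k), zpow_add]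
      simp only [mul_assoc]
  have Sw : ∀ g ∈ S, g * w ∈ S := by
    rintro _ ⟨i, a, o, rfl⟩
    cases o with
    | none => exact ⟨i, a, some 0, by simp [form, h0]⟩
    | some b =>
      by_cases hb : b = 0
      · subst hb
        simp only [form, Option.elim_some, h0, mul_one]
        rw [mul_assoc, hi₀]
        exact Sh _ ⟨i, a, none, by simp [form]⟩ i₀
      · obtain ⟨c, d, k, hk⟩ := hrel b hb
        have e : form i a (some b) * w = h ^ i * φ (a + c) * h ^ k * w * φ d := by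
          simp only [form, Option.elim_some]
          rw [mul_assoc, hk, hadd]; group
        rw [e]
        refine Sφ _ ?_ d
        have e2 : h ^ i * φ (a + c) * h ^ k = h ^ (i + k) * φ (ν ^ (-k) * (a + c)) := by
          rw [mul_assoc, hmove, ← mul_assoc, ← zpow_add]
        exact ⟨i + k, ν ^ (-k) * (a + c), some 0, by simp only [form, Option.elim_some, h0, mul_one]; rw [e2]⟩
  have hall : ∀ g : G, g ∈ S := by
    intro g
    have hg : g ∈ Subgroup.closure ({u, h, w} : Set G) := by rw [hgen]; trivial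
    induction hg using Subgroup.closure_induction_right with
    | one => exact ⟨0, 0, none, by simp [form, h0]⟩
    | mul_right x _ y hy ih =>
      rcases hy with e | e | e <;> rw [e]
      · rw [← hu]; exact Sφ _ ih 1
      · simpa using Sh _ ih 1
      · exact Sw _ ih
    | mul_inv_cancel x _ y hy ih =>
      rcases hy with e | e | e <;> rw [e]
      · rw [← hu, ← hneg]; exact Sφ _ ih _
      · have := Sh _ ih (-1); rwa [zpow_neg_one] at this
      · rw [show w⁻¹ = w * h ^ (-i₀) by rw [zpow_neg, ← hi₀]; group, ← mul_assoc]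
        exact Sh _ (Sw _ ih) _
  let f : Fin N × F × Option F → G := fun x => form (x.1 : ℕ) x.2.1 x.2.2
  have hf : Function.Surjective f := by
    intro g
    obtain ⟨i, a, o, rfl⟩ := hall g
    have hpos : (0 : ℤ) < N := by exact_mod_cast hN
    refine ⟨(⟨(i % N).toNat, by have := Int.emod_lt_of_pos i hpos; omega⟩, a, o), ?_⟩
    simp only [f, form]
    congr 2
    rw [Int.toNat_of_nonneg (Int.emod_nonneg i hpos.ne')]
    conv_rhs => rw [← Int.emod_add_mul_ediv i N, zpow_add, zpow_mul, zpow_natCast, hhN, one_zpow,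
      mul_one]
  haveI : Finite G := Finite.of_surjective f hf
  refine ⟨inferInstance, le_trans (Nat.card_le_card_of_surjective f hf) ?_⟩
  rw [Nat.card_prod, Nat.card_prod, Finite.card_option, Nat.card_eq_fintype_card,
    Nat.card_eq_fintype_card, Fintype.card_fin]
  exact le_of_eq (by ring)

end CfsgLib.SLPres
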