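import Cfsg.Agent.Lib.Schur.SLRank
import Cfsg.Agent.S2426

/-!
# The Steinberg relations present `SL_n` over a finite field
-/

set_option autoImplicit false
set_option linter.unusedSectionVars false

namespace CfsgLib.SLPres.Steinberg

open Matrix
open CfsgLib.Schur.SLFam (tv coe_tv tv_def tv_add tv_comm tv_rel wt dg coe_wt coe_dg)
open scoped MatrixGroups commutatorElement

variable {K : Type*} [Field K] {G : Type*} [Group G] {ι : Type*}

/-- The Steinberg relations. -/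
structure St (Y : ι → ι → K → G) : Prop where
  add : ∀ i j, i ≠ j → ∀ s t, Y i j (s + t) = Y i j s * Y i j t
  comm : ∀ i j k l, i ≠ j → k ≠ l → j ≠ k → i ≠ l → ∀ s t, Commute (Y i j s) (Y k l t)
  rel : ∀ i j k, i ≠ j → j ≠ k → i ≠ k → ∀ s t, ⁅Y i j s, Y j k t⁆ = Y i k (s * t)

variable {Y : ι → ι → K → G}

theorem St.zero (R : St Y) {i j : ι} (h : i ≠ j) : Y i j 0 = 1 := by
  have h1 := R.add i j h 0 0
  rwa [add_zero, left_eq_mul] at h1

theorem St.neg (R : St Y) {i j : ι} (h : i ≠ j) (t : K) : Y i j (-t) = (Y i j t)⁻¹ :=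
  eq_inv_of_mul_eq_one_left (by rw [← R.add i j h, neg_add_cancel, R.zero h])

theorem St.comp (R : St Y) {κ : Type*} {v : κ → ι} (hv : Function.Injective v) :
    St (fun a b => Y (v a) (v b)) where
  add a b h := R.add _ _ (hv.ne h)
  comm a b c d h1 h2 h3 h4 := R.comm _ _ _ _ (hv.ne h1) (hv.ne h2) (hv.ne h3) (hv.ne h4)
  rel a b c h1 h2 h3 := R.rel _ _ _ (hv.ne h1) (hv.ne h2) (hv.ne h3)

/-- The Weyl element. -/
def W (Y : ι → ι → K → G) (i j : ι) (t : K) : G := Y i j t * Y j i (-t⁻¹) * Y i j t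

theorem St.W_neg (R : St Y) {i j : ι} (h : i ≠ j) (t : K) : (W Y i j t)⁻¹ = W Y i j (-t) := by
  simp only [W, inv_neg, neg_neg, _root_.mul_inv_rev, ← R.neg h, ← R.neg (Ne.symm h), mul_assoc]

variable [DecidableEq ι]

/-- Conjugation acts monomially. -/
def Act (Y : ι → ι → K → G) (g : G) (π : Equiv.Perm ι) (u : ι → K) : Prop :=
  ∀ a b, a ≠ b → ∀ s, g * Y a b s * g⁻¹ = Y (π a) (π b) (u a * s / u b)

theorem Act.mul {g g' : G} {π π' : Equiv.Perm ι} {u u' : ι → K} (h : Act Y g π u) (h' : Act Y g' π' u') :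
    Act Y (g * g') (π * π') (fun a => u (π' a) * u' a) := fun a b hab s => by
  calc g * g' * Y a b s * (g * g')⁻¹ = g * (g' * Y a b s * g'⁻¹) * g⁻¹ := by group
    _ = _ := by
      rw [h' a b hab, h _ _ (π'.injective.ne hab)]
      simp only [Equiv.Perm.mul_apply]
      congr 1
      field_simp

theorem Act.congr {g : G} {π π' : Equiv.Perm ι} {u u' : ι → K} (h : Act Y g π u) (hπ : ∀ a, π a = π' a)
    (hu : ∀ a, u a = u' a) : Act Y g π' u' := fun a b hab s => by
  rw [h a b hab, hπ, hπ, hu, hu]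

theorem Act.W_conj {g : G} {π : Equiv.Perm ι} {u : ι → K} (h : Act Y g π u) {a b : ι} (hab : a ≠ b) (s : K) :
    g * W Y a b s * g⁻¹ = W Y (π a) (π b) (u a * s / u b) := by
  rw [W, show g * (Y a b s * Y b a (-s⁻¹) * Y a b s) * g⁻¹ =
    (g * Y a b s * g⁻¹) * (g * Y b a (-s⁻¹) * g⁻¹) * (g * Y a b s * g⁻¹) by group, h a b hab,
    h b a hab.symm, W]
  congr 3
  simp [div_eq_mul_inv, mul_comm, mul_left_comm, mul_assoc]

section Conj

variable (R : St Y) {i j k : ι} (hij : i ≠ j) (hik : i ≠ k) (hjk : j ≠ k) (t : K) (ht : t ≠ 0)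
include R hij hik hjk

theorem left_conj (s u : K) : Y i j s * Y j k u * (Y i j s)⁻¹ = Y i k (s * u) * Y j k u := by
  rw [← R.rel i j k hij hjk hik, commutatorElement_def]; group

theorem right_conj (s u : K) : Y j k u * Y i j s * (Y j k u)⁻¹ = Y i k (-(s * u)) * Y i j s := by
  rw [R.neg hik, ← R.rel i j k hij hjk hik, commutatorElement_def]; group

include ht

theorem W_fst (u : K) : W Y i j t * Y i k u * (W Y i j t)⁻¹ = Y j k (-(t⁻¹ * u)) := by
  have c1 := (R.comm i j i k hij hik hij.symm hik t u).eq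
  have c2 := R.comm j k i k hjk hik hik.symm hjk (-(t⁻¹ * u)) u
  rw [show W Y i j t * Y i k u * (W Y i j t)⁻¹ =
    Y i j t * (Y j i (-t⁻¹) * ((Y i j t * Y i k u) * (Y i j t)⁻¹) * (Y j i (-t⁻¹))⁻¹) * (Y i j t)⁻¹ by
      rw [W]; group, c1, mul_inv_cancel_right, left_conj R hij.symm hjk hik,
    show Y i j t * (Y j k (-t⁻¹ * u) * Y i k u) * (Y i j t)⁻¹ =
      (Y i j t * Y j k (-t⁻¹ * u) * (Y i j t)⁻¹) * ((Y i j t * Y i k u) * (Y i j t)⁻¹) by group,
    c1, mul_inv_cancel_right, left_conj R hij hik hjk, show t * (-t⁻¹ * u) = -u by field_simp,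
    show -t⁻¹ * u = -(t⁻¹ * u) by ring, mul_assoc, c2.eq, ← mul_assoc, ← R.add i k hik, neg_add_cancel,
    R.zero hik, one_mul]

theorem W_snd (u : K) : W Y i j t * Y j k u * (W Y i j t)⁻¹ = Y i k (t * u) := by
  have c1 := (R.comm j i j k hij.symm hjk hij hjk (-t⁻¹) u).eq
  have c2 := R.comm i k j k hik hjk hjk.symm hik (t * u) u
  have c3 := (R.comm i j i k hij hik hij.symm hik t (t * u)).eq
  rw [show W Y i j t * Y j k u * (W Y i j t)⁻¹ =
    Y i j t * (Y j i (-t⁻¹) * (Y i j t * Y j k u * (Y i j t)⁻¹) * (Y j i (-t⁻¹))⁻¹) * (Y i j t)⁻¹ by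
      rw [W]; group, left_conj R hij hik hjk,
    show Y j i (-t⁻¹) * (Y i k (t * u) * Y j k u) * (Y j i (-t⁻¹))⁻¹ =
      (Y j i (-t⁻¹) * Y i k (t * u) * (Y j i (-t⁻¹))⁻¹) * ((Y j i (-t⁻¹) * Y j k u) * (Y j i (-t⁻¹))⁻¹) by group,
    c1, mul_inv_cancel_right, left_conj R hij.symm hjk hik, show -t⁻¹ * (t * u) = -u by field_simp,
    mul_assoc (Y j k (-u)), c2.eq, ← mul_assoc (Y j k (-u)), ← R.add j k hjk, neg_add_cancel, R.zero hjk,
    one_mul, c3, mul_inv_cancel_right]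

theorem W_fst' (u : K) : W Y i j t * Y k i u * (W Y i j t)⁻¹ = Y k j (-(t * u)) := by
  have c1 := (R.comm j i k i hij.symm hik.symm hik hij.symm (-t⁻¹) u).eq
  have c2 := R.comm k j k i hjk.symm hik.symm hjk hik.symm (-(t * u)) u
  have c3 := (R.comm i j k j hij hjk.symm hjk hij t (-(t * u))).eq
  rw [show W Y i j t * Y k i u * (W Y i j t)⁻¹ =
    Y i j t * (Y j i (-t⁻¹) * (Y i j t * Y k i u * (Y i j t)⁻¹) * (Y j i (-t⁻¹))⁻¹) * (Y i j t)⁻¹ by
      rw [W]; group, right_conj R hik.symm hjk.symm hij, show -(u * t) = -(t * u) by ring,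
    show Y j i (-t⁻¹) * (Y k j (-(t * u)) * Y k i u) * (Y j i (-t⁻¹))⁻¹ =
      (Y j i (-t⁻¹) * Y k j (-(t * u)) * (Y j i (-t⁻¹))⁻¹) * ((Y j i (-t⁻¹) * Y k i u) * (Y j i (-t⁻¹))⁻¹) by group,
    c1, mul_inv_cancel_right, right_conj R hjk.symm hik.symm hij.symm,
    show -(-(t * u) * -t⁻¹) = -u by field_simp, mul_assoc (Y k i (-u)), c2.eq, ← mul_assoc (Y k i (-u)),
    ← R.add k i hik.symm, neg_add_cancel, R.zero hik.symm, one_mul, c3, mul_inv_cancel_right]

theorem W_snd' (u : K) : W Y i j t * Y k j u * (W Y i j t)⁻¹ = Y k i (t⁻¹ * u) := by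
  have c1 := (R.comm i j k j hij hjk.symm hjk hij t u).eq
  have c2 := R.comm k i k j hik.symm hjk.symm hik hjk.symm (t⁻¹ * u) u
  rw [show W Y i j t * Y k j u * (W Y i j t)⁻¹ =
    Y i j t * (Y j i (-t⁻¹) * ((Y i j t * Y k j u) * (Y i j t)⁻¹) * (Y j i (-t⁻¹))⁻¹) * (Y i j t)⁻¹ by
      rw [W]; group, c1, mul_inv_cancel_right, right_conj R hjk.symm hik.symm hij.symm,
    show -(u * -t⁻¹) = t⁻¹ * u by ring,
    show Y i j t * (Y k i (t⁻¹ * u) * Y k j u) * (Y i j t)⁻¹ =
      (Y i j t * Y k i (t⁻¹ * u) * (Y i j t)⁻¹) * ((Y i j t * Y k j u) * (Y i j t)⁻¹) by group,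
    c1, mul_inv_cancel_right, right_conj R hik.symm hjk.symm hij, show -(t⁻¹ * u * t) = -u by field_simp,
    mul_assoc (Y k j (-u)), c2.eq, ← mul_assoc (Y k j (-u)), ← R.add k j hjk.symm, neg_add_cancel,
    R.zero hjk.symm, one_mul]

theorem W_pair (u : K) : W Y i j t * Y i j u * (W Y i j t)⁻¹ = Y j i (-(t⁻¹ ^ 2 * u)) ∧
    W Y i j t * Y j i u * (W Y i j t)⁻¹ = Y i j (-(t ^ 2 * u)) := by
  have e : ∀ a b g : G, g * ⁅a, b⁆ * g⁻¹ = ⁅g * a * g⁻¹, g * b * g⁻¹⁆ := fun a b g => by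
    simp only [commutatorElement_def]; group
  constructor
  · rw [show Y i j u = ⁅Y i k u, Y k j 1⁆ by rw [R.rel i k j hik hjk.symm hij, mul_one], e,
      W_fst R hij hik hjk t ht, W_snd' R hij hik hjk t ht, R.rel j k i hjk hik.symm hij.symm]
    congr 1; ring
  · rw [show Y j i u = ⁅Y j k u, Y k i 1⁆ by rw [R.rel j k i hjk hik.symm hij.symm, mul_one], e,
      W_snd R hij hik hjk t ht, W_fst' R hij hik hjk t ht, R.rel i k j hik hjk.symm hij]
    congr 1; ring

end Conj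

/-- The scalars of a Weyl element. -/
def wu (i j : ι) (t : K) : ι → K := fun a => if a = i then -t⁻¹ else if a = j then t else 1

theorem act_W (R : St Y) (h3 : ∀ i j : ι, ∃ k, k ≠ i ∧ k ≠ j) {i j : ι} (hij : i ≠ j) (t : K) (ht : t ≠ 0) :
    Act Y (W Y i j t) (Equiv.swap i j) (wu i j t) := by
  intro a b hab s
  obtain ⟨k, hki, hkj⟩ := h3 i j
  rcases eq_or_ne a i with rfl | hai
  · rcases eq_or_ne b j with rfl | hbj
    · rw [(W_pair R hij hki.symm hkj.symm t ht s).1, Equiv.swap_apply_left, Equiv.swap_apply_right]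
      congr 1
      simp [wu, hij.symm]
      field_simp
    · rw [W_fst R hij hab hbj.symm t ht, Equiv.swap_apply_left, Equiv.swap_apply_of_ne_of_ne hab.symm hbj]
      congr 1
      simp [wu, hab.symm, hbj]
  rcases eq_or_ne a j with rfl | haj
  · rcases eq_or_ne b i with rfl | hbi
    · rw [(W_pair R hij hki.symm hkj.symm t ht s).2, Equiv.swap_apply_left, Equiv.swap_apply_right]
      congr 1
      simp [wu, hij.symm]
      field_simp
    · rw [W_snd R hij hbi.symm hab t ht, Equiv.swap_apply_right, Equiv.swap_apply_of_ne_of_ne hbi hab.symm]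
      congr 1
      simp [wu, hij.symm, hbi, hab.symm]
  rcases eq_or_ne b i with rfl | hbi
  · rw [W_fst' R hij hai.symm haj.symm t ht, Equiv.swap_apply_left, Equiv.swap_apply_of_ne_of_ne hai haj]
    congr 1
    simp [wu, hai, haj]
    field_simp
  rcases eq_or_ne b j with rfl | hbj
  · rw [W_snd' R hij hai.symm haj.symm t ht, Equiv.swap_apply_right, Equiv.swap_apply_of_ne_of_ne hai haj]
    congr 1
    simp [wu, hai, haj, hij.symm]
    field_simp
  rw [Equiv.swap_apply_of_ne_of_ne hai haj, Equiv.swap_apply_of_ne_of_ne hbi hbj]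
  simp only [wu, hai, haj, hbi, hbj, if_false, one_mul, div_one]
  have h1 : ∀ v, Commute (Y i j v) (Y a b s) := fun v => R.comm i j a b hij hab haj.symm hbi.symm v s
  have h2 : ∀ v, Commute (Y j i v) (Y a b s) := fun v => R.comm j i a b hij.symm hab hai.symm hbj.symm v s
  rw [show W Y i j t * Y a b s = Y a b s * W Y i j t from
    (((h1 t).mul_left (h2 _)).mul_left (h1 t)).eq, mul_inv_cancel_right]

section SLTwo

variable [Finite K]

theorem exists_two (R : St Y) (h3 : ∀ i j : ι, ∃ k, k ≠ i ∧ k ≠ j) {i j : ι} (hij : i ≠ j) :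
    ∃ θ : SL(2, K) →* G, (∀ t, θ (tv 0 1 t) = Y i j t) ∧ ∀ t, θ (tv 1 0 t) = Y j i t := by
  obtain ⟨e, het, hef⟩ := Cfsg.Agent.S2426.main K
  obtain ⟨k, hki, hkj⟩ := h3 i j
  let f : Bool × K → G := fun x => bif x.1 then Y i j x.2 else Y j i x.2
  have hh : ∀ r ∈ (({g : FreeGroup (Bool × K) | ∃ (b : Bool) (t u : K), g = FreeGroup.of (b, t) * FreeGroup.of (b, u) * (FreeGroup.of (b, t + u))⁻¹} ∪
          {g | ∃ (b : Bool) (t u : K), t ≠ 0 ∧
            g = (FreeGroup.of (b, t) * FreeGroup.of (!b, -t⁻¹) * FreeGroup.of (b, t)) * FreeGroup.of (b, u) *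
                  (FreeGroup.of (b, t) * FreeGroup.of (!b, -t⁻¹) * FreeGroup.of (b, t))⁻¹ * (FreeGroup.of (!b, -(t⁻¹ ^ 2 * u)))⁻¹}) : Set (FreeGroup (Bool × K))),
      FreeGroup.lift f r = 1 := by
    rintro r (⟨b, t, u, rfl⟩ | ⟨b, t, u, ht, rfl⟩)
    · cases b
      · simp [f, R.add j i hij.symm]
      · simp [f, R.add i j hij]
    · simp only [map_mul, map_inv, FreeGroup.lift_apply_of, mul_inv_eq_one]
      cases b
      · exact (W_pair R hij.symm hkj.symm hki.symm t ht u).1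
      · exact (W_pair R hij hki.symm hkj.symm t ht u).1
  refine ⟨(PresentedGroup.toGroup hh).comp e.symm.toMonoidHom, fun t => ?_, fun t => ?_⟩
  · have h : e.symm (tv 0 1 t) = PresentedGroup.of (true, t) := by
      rw [MulEquiv.symm_apply_eq]
      apply Subtype.ext
      rw [het, coe_tv (by decide)]
      ext a b
      fin_cases a <;> fin_cases b <;> simp [Matrix.one_apply]
    show PresentedGroup.toGroup hh (e.symm (tv 0 1 t)) = _
    rw [h, PresentedGroup.toGroup.of]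
    rfl
  · have h : e.symm (tv 1 0 t) = PresentedGroup.of (false, t) := by
      rw [MulEquiv.symm_apply_eq]
      apply Subtype.ext
      rw [hef, coe_tv (by decide)]
      ext a b
      fin_cases a <;> fin_cases b <;> simp [Matrix.one_apply]
    show PresentedGroup.toGroup hh (e.symm (tv 1 0 t)) = _
    rw [h, PresentedGroup.toGroup.of]
    rfl

end SLTwo

section Three

variable [Fintype K]

theorem three_third : ∀ i j : Fin 3, ∃ k, k ≠ i ∧ k ≠ j := by decide

set_option maxHeartbeats 2000000 in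
/-- The relations of Steinberg bound the order by that of `SL₃`. -/
theorem card_three {Y : Fin 3 → Fin 3 → K → G} (R : St Y)
    (hgenY : Subgroup.closure {g | ∃ i j, i ≠ j ∧ ∃ t, g = Y i j t} = ⊤) :
    Finite G ∧ Nat.card G ≤ Nat.card SL(3, K) := by
  classical
  obtain ⟨θa, ha01, ha10⟩ := exists_two R three_third (show (0 : Fin 3) ≠ 1 by decide)
  obtain ⟨θb, hb01, hb10⟩ := exists_two R three_third (show (1 : Fin 3) ≠ 2 by decide)
  have hwa : ∀ t, θa (wt t) = W Y 0 1 t := fun t => by simp only [wt, W, map_mul, ha01, ha10]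
  have hwb : ∀ t, θb (wt t) = W Y 1 2 t := fun t => by simp only [wt, W, map_mul, hb01, hb10]
  obtain ⟨p, hpc⟩ := CharP.exists K
  haveI : Fact p.Prime := ⟨CharP.char_is_prime K p⟩
  letI := ZMod.algebra K p
  obtain ⟨μ, hμ, hμq, hord, hgen⟩ := CfsgLib.SLPres.exists_primitive (F := K)
  obtain ⟨e, he⟩ := hgen (-1) (by simp)
  have hone : (1 : K) ≠ 0 := one_ne_zero
  have hm1 : (-1 : K) ≠ 0 := neg_ne_zero.2 one_ne_zero
  have hA : ∀ u : K, u ≠ 0 → Act Y (θa (dg u)) 1 ![u, u⁻¹, 1] := fun u hu => by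
    rw [dg, map_mul, hwa, hwa]
    refine ((act_W R three_third (by decide) u hu).mul (act_W R three_third (by decide) (-1) hm1)).congr
      (fun a => by simp) fun a => ?_
    fin_cases a <;> simp [wu, Equiv.swap_apply_def]
  have hB : ∀ u : K, u ≠ 0 → Act Y (θb (dg u)) 1 ![1, u, u⁻¹] := fun u hu => by
    rw [dg, map_mul, hwb, hwb]
    refine ((act_W R three_third (by decide) u hu).mul (act_W R three_third (by decide) (-1) hm1)).congr
      (fun a => by simp) fun a => ?_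
    fin_cases a <;> simp [wu, Equiv.swap_apply_def]
  set a : G := θa (wt 1) with ha
  set b : G := θb (wt 1) with hb
  have hma : Act Y a (Equiv.swap 0 1) ![-1, 1, 1] := by
    rw [ha, hwa]
    refine (act_W R three_third (by decide) 1 hone).congr (fun _ => rfl) fun x => ?_
    fin_cases x <;> simp [wu]
  have hmb : Act Y b (Equiv.swap 1 2) ![1, -1, 1] := by
    rw [hb, hwb]
    refine (act_W R three_third (by decide) 1 hone).congr (fun _ => rfl) fun x => ?_
    fin_cases x <;> simp [wu]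
  have hBA : ∀ u v : K, u ≠ 0 → v ≠ 0 → θb (dg v) * θa (wt u) * (θb (dg v))⁻¹ = θa (wt (v⁻¹ * u)) := by
    intro u v _ hv
    rw [hwa, hwa, (hB v hv).W_conj (by decide)]
    simp [div_eq_mul_inv, mul_comm]
  have hAB : ∀ u v : K, u ≠ 0 → v ≠ 0 → θa (dg v) * θb (wt u) * (θa (dg v))⁻¹ = θb (wt (v⁻¹ * u)) := by
    intro u v _ hv
    rw [hwb, hwb, (hA v hv).W_conj (by decide)]
    simp [div_eq_mul_inv, mul_comm]
  have hdd : ∀ u v : K, u ≠ 0 → v ≠ 0 → wt (v⁻¹ * u) * wt (-v⁻¹) = dg u := by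
    intro u v hu hv
    apply Subtype.ext
    rw [Matrix.SpecialLinearGroup.coe_mul, coe_wt (mul_ne_zero (inv_ne_zero hv) hu),
      coe_wt (neg_ne_zero.2 (inv_ne_zero hv)), coe_dg hu]
    ext i j
    fin_cases i <;> fin_cases j <;> simp [Matrix.mul_apply, Fin.sum_univ_two] <;> field_simp
  have hcomm : ∀ u v : K, u ≠ 0 → v ≠ 0 → θb (dg v) * θa (dg u) * (θb (dg v))⁻¹ = θa (dg u) := by
    intro u v hu hv
    rw [show θa (dg u) = θa (wt u) * θa (wt (-1)) from map_mul θa _ _,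
      show θb (dg v) * (θa (wt u) * θa (wt (-1))) * (θb (dg v))⁻¹ =
        (θb (dg v) * θa (wt u) * (θb (dg v))⁻¹) * (θb (dg v) * θa (wt (-1)) * (θb (dg v))⁻¹) by group,
      hBA u v hu hv, hBA (-1) v hm1 hv, ← map_mul, ← map_mul, mul_neg_one, hdd u v hu hv]
    rfl
  have hcomm' : ∀ u v : K, u ≠ 0 → v ≠ 0 → θa (dg u) * θb (dg v) = θb (dg v) * θa (dg u) := fun u v hu hv =>
    ((mul_inv_eq_iff_eq_mul).1 (hcomm u v hu hv)).symm
  have hWW : ∀ u : K, u ≠ 0 → wt 1 * (wt (u⁻¹ * 1))⁻¹ = dg u := by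
    intro u hu
    rw [mul_inv_eq_iff_eq_mul]
    apply Subtype.ext
    rw [Matrix.SpecialLinearGroup.coe_mul, mul_one, coe_wt hone, coe_wt (inv_ne_zero hu), coe_dg hu]
    ext i j
    fin_cases i <;> fin_cases j <;> simp [Matrix.mul_apply, Fin.sum_univ_two, hu]
  have hbA : ∀ u : K, u ≠ 0 → b * θa (dg u) * b⁻¹ = θb (dg u) * θa (dg u) := fun u hu => by
    rw [show b * θa (dg u) * b⁻¹ = b * (θa (dg u) * b * (θa (dg u))⁻¹)⁻¹ * θa (dg u) by group,
      hb, hAB 1 u hone hu, ← map_inv, ← map_mul, hWW u hu]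
  have haB : ∀ u : K, u ≠ 0 → a * θb (dg u) * a⁻¹ = θa (dg u) * θb (dg u) := fun u hu => by
    rw [show a * θb (dg u) * a⁻¹ = a * (θb (dg u) * a * (θb (dg u))⁻¹)⁻¹ * θb (dg u) by group,
      ha, hBA 1 u hone hu, ← map_inv, ← map_mul, hWW u hu]
  have hwsq : wt (1 : K) * wt 1 = dg (-1) := by
    apply Subtype.ext
    rw [Matrix.SpecialLinearGroup.coe_mul, coe_wt hone, coe_dg hm1]
    ext i j
    fin_cases i <;> fin_cases j <;> simp [Matrix.mul_apply, Fin.sum_univ_two]
  have hasq : a * a = θa (dg (-1)) := by rw [ha, ← map_mul, hwsq]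
  have hbsq : b * b = θb (dg (-1)) := by rw [hb, ← map_mul, hwsq]
  have hab : ∀ u : K, u ≠ 0 → a⁻¹ * θb (dg u) * a = θa (dg u) * θb (dg u) := fun u hu => by
    rw [← haB u hu, show a⁻¹ * θb (dg u) * a = a⁻¹ * (θb (dg u) * (a * a)) * a⁻¹ by group,
      hasq, ← hcomm' (-1) u hm1 hu, ← hasq]
    group
  have haa : ∀ u : K, u ≠ 0 → a * θa (dg u) * a⁻¹ = (θa (dg u))⁻¹ := fun u hu => by
    rw [ha, ← map_inv, ← map_mul, ← map_mul, ← map_inv]
    congr 1
    rw [mul_inv_eq_iff_eq_mul, eq_inv_mul_iff_mul_eq]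
    apply Subtype.ext
    simp only [Matrix.SpecialLinearGroup.coe_mul, coe_wt hone, coe_dg hu]
    ext i j
    fin_cases i <;> fin_cases j <;> simp [Matrix.mul_apply, Fin.sum_univ_two, hu]
  have hbraid : a * b * a = b * a * b := by
    have e : a * b * a * (a * b)⁻¹ = b := by
      conv_rhs => rw [hb, hwb]
      have := ((hma.mul hmb).W_conj (show (0 : Fin 3) ≠ 1 by decide) 1)
      rw [← hwa, ← ha] at this
      rw [this]
      simp [Equiv.swap_apply_def]
    calc a * b * a = (a * b * a * (a * b)⁻¹) * (a * b) := by group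
      _ = b * a * b := by rw [e, mul_assoc]
  have hAA : θa (dg (-1 : K)) * θa (dg (-1)) = 1 := by
    rw [← map_mul, show dg (-1 : K) * dg (-1) = 1 from ?_, map_one]
    apply Subtype.ext
    rw [Matrix.SpecialLinearGroup.coe_mul, coe_dg hm1]
    ext i j
    fin_cases i <;> fin_cases j <;> simp [Matrix.mul_apply, Fin.sum_univ_two]
  have hBB : θb (dg (-1 : K)) * θb (dg (-1)) = 1 := by
    rw [← map_mul, show dg (-1 : K) * dg (-1) = 1 from ?_, map_one]
    apply Subtype.ext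
    rw [Matrix.SpecialLinearGroup.coe_mul, coe_dg hm1]
    ext i j
    fin_cases i <;> fin_cases j <;> simp [Matrix.mul_apply, Fin.sum_univ_two]
  have hsix : (a * b * a) * (a * b * a) = 1 := by
    have e1 : b * θa (dg (-1)) * b = θa (dg (-1)) := by
      rw [show b * θa (dg (-1)) * b = (b * θa (dg (-1)) * b⁻¹) * (b * b) by group, hbA _ hm1, hbsq,
        mul_assoc, hcomm' _ _ hm1 hm1, ← mul_assoc, hBB, one_mul]
    calc (a * b * a) * (a * b * a) = a * (b * (a * a) * b) * a := by group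
      _ = a * θa (dg (-1)) * a := by rw [hasq, e1]
      _ = a * (a * a) * a := by rw [hasq]
      _ = (a * a) * (a * a) := by group
      _ = 1 := by rw [hasq, hAA]
  set c : G := a⁻¹ * b⁻¹ with hc
  have hmc : Act Y c (finRotate 3) 1 := by
    rw [hc, ha, hb, hwa, hwb, R.W_neg (by decide), R.W_neg (by decide)]
    refine ((act_W R three_third (by decide) (-1) hm1).mul (act_W R three_third (by decide) (-1) hm1)).congr
      (fun x => ?_) fun x => ?_
    · fin_cases x <;> simp [Equiv.swap_apply_def]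
    · fin_cases x <;> simp [wu, Equiv.swap_apply_def]
  have hkk : c * θa (dg μ) * c⁻¹ = θb (dg μ) := by
    rw [dg, map_mul, map_mul, show c * (θa (wt μ) * θa (wt (-1))) * c⁻¹ =
      (c * θa (wt μ) * c⁻¹) * (c * θa (wt (-1)) * c⁻¹) by group, hwa, hwa, hwb, hwb,
      hmc.W_conj (by decide), hmc.W_conj (by decide)]
    simp
  have haa' : a⁻¹ * θa (dg μ) * a = (θa (dg μ))⁻¹ := by
    have h := haa μ hμ
    rw [mul_inv_eq_iff_eq_mul] at h
    rw [mul_assoc, inv_mul_eq_iff_eq_mul]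
    calc θa (dg μ) * a = θa (dg μ) * (a * θa (dg μ)) * (θa (dg μ))⁻¹ := by group
      _ = θa (dg μ) * ((θa (dg μ))⁻¹ * a) * (θa (dg μ))⁻¹ := by rw [h]
      _ = a * (θa (dg μ))⁻¹ := by group
  have hkc : c * θb (dg μ) * c⁻¹ = (θb (dg μ))⁻¹ * (θa (dg μ))⁻¹ := by
    have hbb : b⁻¹ * θb (dg μ) * b = (θb (dg μ))⁻¹ := by
      rw [hb, ← map_inv, ← map_mul, ← map_mul, ← map_inv]
      congr 1
      rw [mul_assoc, inv_mul_eq_iff_eq_mul, ← mul_left_inj (dg μ), mul_assoc, mul_assoc,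
        inv_mul_cancel, mul_one]
      apply Subtype.ext
      simp only [Matrix.SpecialLinearGroup.coe_mul, coe_wt hone, coe_dg hμ]
      ext i j
      fin_cases i <;> fin_cases j <;> simp [Matrix.mul_apply, Fin.sum_univ_two, hμ]
    rw [hc, show a⁻¹ * b⁻¹ * θb (dg μ) * (a⁻¹ * b⁻¹)⁻¹ = a⁻¹ * (b⁻¹ * θb (dg μ) * b) * a by group,
      hbb, show a⁻¹ * (θb (dg μ))⁻¹ * a = (a⁻¹ * θb (dg μ) * a)⁻¹ by group, hab μ hμ, _root_.mul_inv_rev]
  have hdpow : θa (dg μ) ^ e = θa (dg (-1)) := by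
    rw [← map_pow]
    congr 1
    have hp : ∀ n : ℕ, dg μ ^ n = dg (μ ^ n) := by
      intro n
      induction n with
      | zero =>
        apply Subtype.ext
        rw [pow_zero, pow_zero, Matrix.SpecialLinearGroup.coe_one, coe_dg hone]
        ext i j
        fin_cases i <;> fin_cases j <;> simp [Matrix.one_apply]
      | succ n ih =>
        apply Subtype.ext
        rw [pow_succ, ih, Matrix.SpecialLinearGroup.coe_mul, coe_dg (pow_ne_zero _ hμ), coe_dg hμ,
          coe_dg (pow_ne_zero _ hμ)]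
        ext i j
        fin_cases i <;> fin_cases j <;> simp [Matrix.mul_apply, Fin.sum_univ_two, pow_succ, mul_comm]
    rw [hp, ← he]
  have hc12 : ∀ t, c * Y 0 1 t * c⁻¹ = Y 1 2 t := fun t => by simpa using hmc 0 1 (by decide) t
  have D : CfsgLib.SLPres.ThreeData (Y 0 1 1) (θa (dg μ)) a c (Y 0 1) μ e := by
    refine ⟨hμ, hgen, he.symm, ⟨R.add 0 1 (by decide), rfl, fun t => ?_⟩, fun t => ?_, ?_, ?_, ?_, ?_, ?_, ?_, ?_,
      fun i _ => ?_⟩
    · have h := hB μ hμ 0 1 (by decide) (μ * t)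
      have h' : θb (dg μ) * Y 0 1 (μ * t) * (θb (dg μ))⁻¹ = Y 0 1 t := by simpa [hμ] using h
      rw [hkk, inv_inv, ← h']
      group
    · have h := hA μ hμ 0 1 (by decide) t
      simpa [mul_comm, mul_left_comm] using h
    · rw [hkk]
      exact (Commute.inv_right (hcomm' μ μ hμ hμ))
    · exact haa μ hμ
    · rw [hasq, hdpow]
    · rw [hdpow, ← hasq, show Y 0 1 1 = θa (tv 0 1 1) from (ha01 1).symm,
        show Y 0 1 (-1) = θa (tv 0 1 (-1)) from (ha01 (-1)).symm, ha, ← map_mul, ← map_mul, ← map_mul,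
        ← map_mul, ← map_mul, ← map_mul]
      congr 1
      apply Subtype.ext
      simp only [Matrix.SpecialLinearGroup.coe_mul, coe_wt hone, ne_eq, Fin.reduceEq, not_false_eq_true, coe_tv]
      ext i j
      fin_cases i <;> fin_cases j <;>
        simp [Matrix.mul_apply, Matrix.vecMul, dotProduct, Fin.sum_univ_two, Matrix.one_apply]
    · have h6 : (b * a) * (b * a) * (b * a) = 1 := by
        rw [← hsix]
        calc b * a * (b * a) * (b * a) = (b * a * b) * (a * b * a) := by group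
          _ = _ := by rw [← hbraid]
      rw [hc, show a⁻¹ * b⁻¹ * (a⁻¹ * b⁻¹) * (a⁻¹ * b⁻¹) = ((b * a) * (b * a) * (b * a))⁻¹ by group, h6, inv_one]
    · rw [hdpow, ← hasq, hc]
      calc a * (a⁻¹ * b⁻¹) * a⁻¹ = b⁻¹ * a⁻¹ * ((a * b * a) * (a * b * a)) := by rw [hsix]; group
        _ = _ := by group
    · rw [hkk, show c * c * θa (dg μ) * (c * c)⁻¹ = c * (c * θa (dg μ) * c⁻¹) * c⁻¹ by group, hkk, hkc,
        ← (Commute.inv_inv (hcomm' μ μ hμ hμ)).eq]
    · have h2 : ∀ t, c * c * Y 1 0 t * (c * c)⁻¹ = Y 0 2 t := fun t => by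
        simpa using (hmc.mul hmc) 1 0 (by decide) t
      have h1 : a * Y 0 1 (-μ ^ i) * a⁻¹ = Y 1 0 (μ ^ i) := by
        simpa using hma 0 1 (by decide) (-μ ^ i)
      have hr : Y 0 2 (μ ^ i) = ⁅Y 0 1 1, Y 1 2 (μ ^ i)⁆ := by
        rw [R.rel 0 1 2 (by decide) (by decide) (by decide), one_mul]
      rw [hc12, h1, h2, hr, commutatorElement_def]
      group
  have hcl : Subgroup.closure ({Y 0 1 1, θa (dg μ), a, c} : Set G) = ⊤ := by
    rw [eq_top_iff, ← hgenY, Subgroup.closure_le]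
    set S := Subgroup.closure ({Y 0 1 1, θa (dg μ), a, c} : Set G) with hS
    have hu : Y 0 1 1 ∈ S := Subgroup.subset_closure (Or.inl rfl)
    have hh : θa (dg μ) ∈ S := Subgroup.subset_closure (Or.inr (Or.inl rfl))
    have haS : a ∈ S := Subgroup.subset_closure (Or.inr (Or.inr (Or.inl rfl)))
    have hcS : c ∈ S := Subgroup.subset_closure (Or.inr (Or.inr (Or.inr rfl)))
    have hscale : ∀ t, Y 0 1 t ∈ S → Y 0 1 (μ * μ * t) ∈ S := fun t ht => by
      rw [← D.scale]; exact mul_mem (mul_mem hh ht) (inv_mem hh)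
    have h01 : ∀ t, Y 0 1 t ∈ S := by
      intro t
      obtain ⟨P, rfl⟩ := CfsgLib.SLPres.exists_poly_sq p hgen t
      let A : AddSubgroup K :=
        { carrier := {t | Y 0 1 t ∈ S}
          add_mem' := fun {x y} hx hy => by
            show Y 0 1 (x + y) ∈ S
            rw [R.add 0 1 (by decide)]; exact mul_mem hx hy
          zero_mem' := by
            show Y 0 1 0 ∈ S
            rw [R.zero (by decide)]; exact one_mem S
          neg_mem' := fun {x} hx => by
            show Y 0 1 (-x) ∈ S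
            rw [R.neg (by decide)]
            exact inv_mem hx }
      show Polynomial.aeval (μ * μ) P ∈ A
      induction P using Polynomial.induction_on' with
      | add P Q hP hQ => rw [map_add]; exact add_mem hP hQ
      | monomial n r =>
        rw [Polynomial.aeval_monomial, ← Algebra.smul_def, ← ZMod.natCast_zmod_val r, Nat.cast_smul_eq_nsmul]
        refine nsmul_mem ?_ _
        induction n with
        | zero => rw [pow_zero]; exact hu
        | succ n ih => rw [pow_succ']; exact hscale _ ih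
    have hcm : ∀ i j : Fin 3, i ≠ j → (∀ t, Y i j t ∈ S) → ∀ t, Y (finRotate 3 i) (finRotate 3 j) t ∈ S :=
      fun i j hij h t => by
      have := hmc i j hij t
      simp only [Pi.one_apply, one_mul, div_one] at this
      rw [← this]
      exact mul_mem (mul_mem hcS (h t)) (inv_mem hcS)
    have h10 : ∀ t, Y 1 0 t ∈ S := fun t => by
      have := hma 0 1 (by decide) (-t)
      simp at this
      rw [← this]
      exact mul_mem (mul_mem haS (h01 _)) (inv_mem haS)
    have h12 : ∀ t, Y 1 2 t ∈ S := hcm 0 1 (by decide) h01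
    have h20 : ∀ t, Y 2 0 t ∈ S := hcm 1 2 (by decide) h12
    have h21 : ∀ t, Y 2 1 t ∈ S := hcm 1 0 (by decide) h10
    have h02 : ∀ t, Y 0 2 t ∈ S := hcm 2 1 (by decide) h21
    rintro _ ⟨i, j, hij, t, rfl⟩
    fin_cases i <;> fin_cases j
    all_goals first | exact absurd rfl hij | apply h01 | apply h12 | apply h20 | apply h10 | apply h21 | apply h02
  obtain ⟨hfin, hle⟩ := D.card_le_three p (CfsgLib.SLPres.exists_poly_sq p hgen) hcl
  refine ⟨hfin, hle.trans (le_of_eq ?_)⟩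
  have h := CfsgLib.Classical.sub_one_mul_card_SL (F := K) (n := 3) (by omega)
  have hq : 1 < Fintype.card K := Fintype.one_lt_card
  refine (Nat.eq_of_mul_eq_mul_left (show 0 < Fintype.card K - 1 by omega) ?_).symm
  rw [h, Fin.prod_univ_three]
  obtain ⟨m, hm⟩ := Nat.exists_eq_add_of_le (show 1 ≤ Fintype.card K by omega)
  rw [hm, Fin.val_zero, Fin.val_one, Fin.val_two, pow_zero, pow_one, Nat.add_sub_cancel_left]
  have e1 : (1 + m) ^ 3 - 1 = m * (m * m + 3 * m + 3) := by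
    rw [show (1 + m) ^ 3 = 1 + m * (m * m + 3 * m + 3) by ring, Nat.add_sub_cancel_left]
  have e2 : (1 + m) ^ 3 - (1 + m) = (1 + m) * (m * (m + 2)) := by
    rw [show (1 + m) ^ 3 = (1 + m) + (1 + m) * (m * (m + 2)) by ring, Nat.add_sub_cancel_left]
  have e3 : (1 + m) ^ 3 - (1 + m) ^ 2 = (1 + m) ^ 2 * m := by
    rw [show (1 + m) ^ 3 = (1 + m) ^ 2 + (1 + m) ^ 2 * m by ring, Nat.add_sub_cancel_left]
  rw [e1, e2, e3]
  ring

end Three

section Presented

variable (ι K) in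
/-- The relators. -/
abbrev rels : Set (FreeGroup ({ij : ι × ι // ij.1 ≠ ij.2} × K)) :=
  {g : FreeGroup ({ij : ι × ι // ij.1 ≠ ij.2} × K) | ∃ (a : {ij : ι × ι // ij.1 ≠ ij.2}) (t u : K),
      g = FreeGroup.of (a, t) * FreeGroup.of (a, u) * (FreeGroup.of (a, t + u))⁻¹} ∪
    {g | ∃ (a b : {ij : ι × ι // ij.1 ≠ ij.2}) (t u : K), a.1.1 ≠ b.1.2 ∧ a.1.2 ≠ b.1.1 ∧
      g = FreeGroup.of (a, t) * FreeGroup.of (b, u) * (FreeGroup.of (a, t))⁻¹ * (FreeGroup.of (b, u))⁻¹} ∪
    {g | ∃ (a b : {ij : ι × ι // ij.1 ≠ ij.2}) (h : a.1.1 ≠ b.1.2) (t u : K), a.1.2 = b.1.1 ∧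
      g = FreeGroup.of (a, t) * FreeGroup.of (b, u) * (FreeGroup.of (a, t))⁻¹ * (FreeGroup.of (b, u))⁻¹ *
        (FreeGroup.of (⟨(a.1.1, b.1.2), h⟩, t * u))⁻¹}

variable (ι K) in
/-- The canonical root elements of the presented group. -/
def gen (i j : ι) (t : K) : PresentedGroup (rels K ι) :=
  if h : i ≠ j then PresentedGroup.of (⟨(i, j), h⟩, t) else 1

theorem gen_of (i j : ι) (h : i ≠ j) (t : K) :
    gen K ι i j t = PresentedGroup.of (⟨(i, j), h⟩, t) := dif_pos h

theorem gen_St : St (gen K ι) := by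
  have hr : ∀ r ∈ rels K ι, PresentedGroup.mk (rels K ι) r = 1 := fun r hr => PresentedGroup.one_of_mem hr
  refine ⟨fun i j h s t => ?_, fun i j k l hij hkl hjk hil s t => ?_, fun i j k hij hjk hik s t => ?_⟩
  · have := hr _ (Or.inl (Or.inl ⟨⟨(i, j), h⟩, s, t, rfl⟩))
    simp only [map_mul, map_inv] at this
    simp only [gen_of i j h]
    exact (mul_inv_eq_one.mp this).symm
  · have := hr _ (Or.inl (Or.inr ⟨⟨(i, j), hij⟩, ⟨(k, l), hkl⟩, s, t, hil, hjk, rfl⟩))
    simp only [map_mul, map_inv] at this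
    rw [gen_of i j hij, gen_of k l hkl]
    exact commutatorElement_eq_one_iff_mul_comm.mp (by rw [commutatorElement_def]; exact this)
  · have := hr _ (Or.inr ⟨⟨(i, j), hij⟩, ⟨(j, k), hjk⟩, hik, s, t, rfl, rfl⟩)
    simp only [map_mul, map_inv] at this
    rw [gen_of i j hij, gen_of j k hjk, gen_of i k hik, commutatorElement_def]
    exact mul_inv_eq_one.mp this

theorem gen_top : Subgroup.closure {g | ∃ i j, i ≠ j ∧ ∃ t, g = gen K ι i j t} = ⊤ := by
  rw [eq_top_iff, ← PresentedGroup.closure_range_of (rels K ι), Subgroup.closure_le]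
  rintro _ ⟨⟨⟨⟨i, j⟩, h⟩, t⟩, rfl⟩
  exact Subgroup.subset_closure ⟨i, j, h, t, (gen_of i j h t).symm⟩

theorem lift_rels {Y : ι → ι → K → G} (R : St Y) : ∀ r ∈ rels K ι,
    FreeGroup.lift (fun x : {ij : ι × ι // ij.1 ≠ ij.2} × K => Y x.1.1.1 x.1.1.2 x.2) r = 1 := by
  rintro r ((⟨⟨⟨i, j⟩, h⟩, t, u, rfl⟩ | ⟨⟨⟨i, j⟩, h⟩, ⟨⟨k, l⟩, h'⟩, t, u, hil, hjk, rfl⟩) |
    ⟨⟨⟨i, j⟩, h⟩, ⟨⟨k, l⟩, h'⟩, hil, t, u, hjk, rfl⟩)
  · simp only [map_mul, map_inv, FreeGroup.lift_apply_of]
    rw [R.add i j h, mul_inv_cancel]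
  · simp only [map_mul, map_inv, FreeGroup.lift_apply_of]
    rw [← commutatorElement_def, commutatorElement_eq_one_iff_mul_comm]
    exact R.comm i j k l h h' hjk hil t u
  · simp only [map_mul, map_inv, FreeGroup.lift_apply_of]
    simp only at hjk
    subst hjk
    rw [← commutatorElement_def, R.rel i j l h h' hil, mul_inv_cancel]

variable [Fintype ι]

theorem tv_St : St (tv (F := K) (ι := ι)) where
  add _ _ h := tv_add h
  comm _ _ _ _ h1 h2 h3 h4 := tv_comm h1 h2 h3 h4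
  rel _ _ _ h1 h2 h3 := tv_rel h1 h2 h3

theorem iso_of_card [Finite K] [Nontrivial ι] (hfin : Finite (PresentedGroup (rels K ι)))
    (hc : Nat.card (PresentedGroup (rels K ι)) ≤ Nat.card (Matrix.SpecialLinearGroup ι K)) :
    ∃ e : PresentedGroup (rels K ι) ≃* Matrix.SpecialLinearGroup ι K,
      ∀ (a : {ij : ι × ι // ij.1 ≠ ij.2}) (t : K), e (PresentedGroup.of (a, t)) = tv a.1.1 a.1.2 t := by
  let π := PresentedGroup.toGroup (lift_rels (tv_St (K := K) (ι := ι)))
  have hs : Function.Surjective π := by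
    rw [← MonoidHom.range_eq_top]
    refine CfsgLib.Classical.eq_top_of_transvection_mem _ fun i j hij c => ?_
    exact ⟨PresentedGroup.of (⟨(i, j), hij⟩, c), by
      rw [← tv_def hij]; exact PresentedGroup.toGroup.of (lift_rels (tv_St (K := K) (ι := ι)))⟩
  exact ⟨MulEquiv.ofBijective π ((Nat.bijective_iff_surjective_and_card π).mpr
    ⟨hs, le_antisymm hc (Nat.card_le_card_of_surjective π hs)⟩), fun a t => PresentedGroup.toGroup.of (lift_rels (tv_St (K := K) (ι := ι)))⟩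

end Presented

/-- Any triple of indices gives an image of `SL₃`. -/
theorem exists_three [Finite K] {Y : Fin 3 → Fin 3 → K → G} (R : St Y) :
    ∃ θ : SL(3, K) →* G, ∀ a b, a ≠ b → ∀ t, θ (tv a b t) = Y a b t := by
  haveI := Fintype.ofFinite K
  obtain ⟨hf, hc⟩ := card_three (gen_St (K := K) (ι := Fin 3)) gen_top
  obtain ⟨e, he⟩ := iso_of_card hf hc
  refine ⟨(PresentedGroup.toGroup (lift_rels R)).comp e.symm.toMonoidHom, fun a b hab t => ?_⟩
  have h := he ⟨(a, b), hab⟩ t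
  show PresentedGroup.toGroup (lift_rels R) (e.symm (tv a b t)) = _
  rw [← h, e.symm_apply_apply, PresentedGroup.toGroup.of]

/-- The presentation. -/
theorem presentation [Finite K] (n : ℕ) (hn : 3 ≤ n) :
    ∃ e : PresentedGroup (rels K (Fin n)) ≃* SL(n, K),
      ∀ (a : {ij : Fin n × Fin n // ij.1 ≠ ij.2}) (t : K), e (PresentedGroup.of (a, t)) = tv a.1.1 a.1.2 t := by
  classical
  haveI := Fintype.ofFinite K
  haveI : Nontrivial (Fin n) := Fin.nontrivial_iff_two_le.2 (by omega)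
  have R := gen_St (K := K) (ι := Fin n)
  have RF : CfsgLib.SLPres.RootFam (F := K) (gen K (Fin n)) := by
    refine ⟨fun v hv => ?_, fun i j k l hij hkl _ hil hjk _ s t => R.comm i j k l hij hkl hjk hil s t, fun i j => ?_⟩
    · obtain ⟨θ, hθ⟩ := exists_three (R.comp hv)
      exact ⟨θ, fun a b hab t => hθ a b hab t⟩
    · obtain ⟨k, -, hk⟩ := Finset.exists_mem_notMem_of_card_lt_card (t := (Finset.univ : Finset (Fin n))) (s := {i, j})
        (lt_of_le_of_lt Finset.card_le_two (by rw [Finset.card_univ, Fintype.card_fin]; omega))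
      simp only [Finset.mem_insert, Finset.mem_singleton, not_or] at hk
      exact ⟨k, hk⟩
  obtain ⟨hf, hc⟩ := RF.card_le gen_top
  rw [Fintype.card_fin] at hc
  exact iso_of_card hf hc

end CfsgLib.SLPres.Steinberg
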