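import Mathlib

/-!
# Field data for the presentations: generators and consecutive squares
-/

set_option autoImplicit false

namespace CfsgLib.SLPres

open Polynomial

variable {F : Type*} [Field F] [Fintype F]

theorem exists_primitive : ∃ μ : F, μ ≠ 0 ∧ μ ^ (Fintype.card F - 1) = 1 ∧
    (∀ i, μ ^ i = 1 → Fintype.card F - 1 ∣ i) ∧ ∀ t : F, t ≠ 0 → ∃ i : ℕ, t = μ ^ i := by
  classical
  obtain ⟨g, hg⟩ := IsCyclic.exists_monoid_generator (α := Fˣ)
  refine ⟨g, g.ne_zero, FiniteField.pow_card_sub_one_eq_one (g : F) g.ne_zero, fun i hi => ?_,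
    fun t ht => ?_⟩
  · have h1 : orderOf g = Fintype.card F - 1 := by
      rw [orderOf_eq_card_of_forall_mem_zpowers (fun x => ?_), Nat.card_eq_fintype_card,
        Fintype.card_units]
      obtain ⟨n, hn⟩ := hg x
      exact ⟨n, by simpa using hn⟩
    rw [← h1]
    exact orderOf_dvd_of_pow_eq_one (Units.ext (by simpa using hi))
  · obtain ⟨i, hi⟩ := hg (Units.mk0 t ht)
    exact ⟨i, by have := congrArg Units.val hi; simpa using this.symm⟩

variable (p : ℕ) [Fact p.Prime] [Algebra (ZMod p) F]

/-- The square of a primitive element generates the field over the prime field. -/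
theorem exists_poly_sq {μ : F} (hgen : ∀ t : F, t ≠ 0 → ∃ i : ℕ, t = μ ^ i) (t : F) :
    ∃ f : (ZMod p)[X], aeval (μ * μ) f = t := by
  haveI : CharP F p := charP_of_injective_algebraMap (algebraMap (ZMod p) F).injective p
  have hsq : ∀ s : F, ∃ f : (ZMod p)[X], aeval (μ * μ) f = s * s := by
    intro s
    by_cases hs : s = 0
    · exact ⟨0, by simp [hs]⟩
    · obtain ⟨i, rfl⟩ := hgen s hs
      exact ⟨X ^ i, by rw [map_pow, aeval_X, mul_pow]⟩
  rcases (Fact.out : p.Prime).eq_two_or_odd with h2 | h2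
  · subst h2
    obtain ⟨s, hs⟩ := frobeniusEquiv F 2 |>.surjective t
    obtain ⟨f, hf⟩ := hsq s
    exact ⟨f, by rw [hf, ← hs, frobeniusEquiv_apply, frobenius_def, pow_two]⟩
  · obtain ⟨f, hf⟩ := hsq (t + 1)
    obtain ⟨g, hg⟩ := hsq (t - 1)
    refine ⟨C ((4 : ZMod p)⁻¹) * (f - g), ?_⟩
    have h4 : (4 : ZMod p) ≠ 0 := by
      intro h0
      have h0' : ((4 : ℕ) : ZMod p) = 0 := by exact_mod_cast h0
      rw [ZMod.natCast_eq_zero_iff] at h0'
      have h22 : p ∣ 2 * 2 := h0'
      rcases (Fact.out : p.Prime).dvd_mul.mp h22 with h' | h' <;>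
        · have := (Nat.prime_dvd_prime_iff_eq Fact.out Nat.prime_two).mp h'
          omega
    rw [map_mul, aeval_C, map_sub, hf, hg, map_inv₀]
    have h4' : algebraMap (ZMod p) F 4 ≠ 0 := (_root_.map_ne_zero _).mpr h4
    rw [map_ofNat] at h4' ⊢
    field_simp
    ring

theorem exists_consecutive_squares (hp2 : p ≠ 2) {n : ℕ} (hq : Fintype.card F = p ^ n) (hn : 3 ≤ n) :
    ∃ y r : F, r ≠ 0 ∧ y ≠ 0 ∧ (∃ s, y = s * s) ∧ y + 1 = r * r ∧
      ∀ t : F, ∃ f : (ZMod p)[X], aeval y f = t := by
  classical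
  haveI : CharP F p := charP_of_injective_algebraMap (algebraMap (ZMod p) F).injective p
  have hp3 : 3 ≤ p := by have := (Fact.out : p.Prime).two_le; omega
  have h2 : (2 : F) ≠ 0 := Ring.two_ne_zero (by rw [ringChar.eq F p]; exact hp2)
  set m := n / 2 with hm
  let bad : Finset F := (Finset.Icc 1 m).biUnion fun d => Finset.univ.filter fun y : F => y ^ p ^ d = y
  have hroots : ∀ d ∈ Finset.Icc 1 m,
      (Finset.univ.filter fun y : F => y ^ p ^ d = y).card ≤ p ^ d := by
    intro d hd
    have h1 : 1 < p ^ d := Nat.one_lt_pow (by have := (Finset.mem_Icc.mp hd).1; omega) (by omega)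
    calc _ ≤ ((X ^ p ^ d - X : F[X]).roots.toFinset).card := by
          refine Finset.card_le_card fun y hy => ?_
          rw [Multiset.mem_toFinset, mem_roots (FiniteField.X_pow_card_sub_X_ne_zero F h1)]
          simp [(Finset.mem_filter.mp hy).2]
      _ ≤ _ := le_trans (Multiset.toFinset_card_le _) (le_trans (card_roots' _)
          (le_of_eq (FiniteField.X_pow_card_sub_X_natDegree_eq F h1)))
  have hsum : ∀ j : ℕ, 2 * ∑ d ∈ Finset.Icc 1 j, p ^ d ≤ 3 * p ^ j := by
    intro j
    induction j with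
    | zero => simp
    | succ k ih =>
      rw [Finset.sum_Icc_succ_top (by omega)]
      have : 3 * p ^ k ≤ p ^ (k + 1) := by
        rw [pow_succ']; exact Nat.mul_le_mul_right _ hp3
      omega
  have hbad : 2 * bad.card ≤ 3 * p ^ m := le_trans
    (Nat.mul_le_mul_left _ (le_trans Finset.card_biUnion_le (Finset.sum_le_sum hroots))) (hsum m)
  let val : F → F := fun s => ((s * s - 1) / (2 * s)) ^ 2
  let zs : Finset F := Finset.univ.filter fun s : F => s = 0 ∨ s ^ 4 = 1
  let bs : Finset F := bad.biUnion fun y =>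
    Finset.univ.filter fun s : F => s ^ 4 - (4 * y + 2) * s ^ 2 + 1 = 0
  have hzs : zs.card ≤ 5 := by
    refine le_trans (Finset.card_le_card (t := insert 0 ((X ^ 4 - C 1 : F[X]).roots.toFinset)) ?_) ?_
    · intro s hs
      rcases (Finset.mem_filter.mp hs).2 with rfl | h
      · simp
      · refine Finset.mem_insert_of_mem ?_
        rw [Multiset.mem_toFinset, mem_roots (X_pow_sub_C_ne_zero (by norm_num) 1)]
        simp [h]
    · refine le_trans (Finset.card_insert_le _ _) ?_
      have := le_trans (Multiset.toFinset_card_le _) (card_roots' (X ^ 4 - C 1 : F[X]))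
      rw [natDegree_X_pow_sub_C] at this
      omega
  have hbs : bs.card ≤ 4 * bad.card := by
    refine le_trans Finset.card_biUnion_le (le_trans (Finset.sum_le_card_nsmul _ _ 4 fun y _ => ?_)
      (le_of_eq (by rw [smul_eq_mul, mul_comm])))
    set P : F[X] := X ^ 4 - C (4 * y + 2) * X ^ 2 + C 1 with hP
    have hdeg : P.natDegree ≤ 4 := by
      rw [hP]; compute_degree
    have hP0 : P ≠ 0 := fun h0 => by
      have : P.coeff 4 = 1 := by
        rw [hP, coeff_add, coeff_sub, coeff_C_mul, coeff_X_pow, coeff_X_pow, coeff_C]; simp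
      rw [h0, coeff_zero] at this
      exact zero_ne_one this
    refine le_trans (Finset.card_le_card (t := P.roots.toFinset) fun s hs => ?_)
      (le_trans (Multiset.toFinset_card_le _) (le_trans (card_roots' _) hdeg))
    rw [Multiset.mem_toFinset, mem_roots hP0]
    simpa [hP] using (Finset.mem_filter.mp hs).2
  obtain ⟨s, -, hs⟩ := Finset.exists_mem_notMem_of_card_lt_card (s := zs ∪ bs) (t := Finset.univ) (by
    rw [Finset.card_univ, hq]
    refine lt_of_le_of_lt (Finset.card_union_le _ _) ?_
    have h9 : 9 * p ^ m ≤ p ^ n := by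
      calc 9 * p ^ m ≤ p ^ (n - m) * p ^ m := Nat.mul_le_mul_right _
            (le_trans (Nat.mul_le_mul hp3 hp3) (by
              rw [← pow_two]; exact Nat.pow_le_pow_right (by omega) (by omega)))
        _ = p ^ n := by rw [← pow_add, Nat.sub_add_cancel (by omega)]
    have hpm : 3 ≤ p ^ m := le_trans hp3 (Nat.le_self_pow (by omega) p)
    omega)
  rw [Finset.mem_union, not_or] at hs
  obtain ⟨hz, hb⟩ := hs
  simp only [zs, Finset.mem_filter, Finset.mem_univ, true_and, not_or] at hz
  obtain ⟨hs0, hs4⟩ := hz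
  have hm1 : s * s - 1 ≠ 0 := fun h => hs4 (by linear_combination (s * s + 1) * h)
  have hp1 : s * s + 1 ≠ 0 := fun h => hs4 (by linear_combination (s * s - 1) * h)
  refine ⟨val s, (s * s + 1) / (2 * s), div_ne_zero hp1 (mul_ne_zero h2 hs0),
    pow_ne_zero _ (div_ne_zero hm1 (mul_ne_zero h2 hs0)), ⟨(s * s - 1) / (2 * s), sq _⟩,
    by simp only [val]; field_simp; ring, ?_⟩
  by_contra hne
  push Not at hne
  obtain ⟨t, ht⟩ := hne
  set K := IntermediateField.adjoin (ZMod p) ({val s} : Set F) with hK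
  have hKne : K ≠ ⊤ := by
    intro htop
    have htK : t ∈ K := by rw [htop]; trivial
    have : IsIntegral (ZMod p) (val s) := IsIntegral.of_finite _ _
    rw [hK, ← IntermediateField.mem_toSubalgebra,
      IntermediateField.adjoin_simple_toSubalgebra_of_isAlgebraic this.isAlgebraic,
      Algebra.adjoin_singleton_eq_range_aeval] at htK
    obtain ⟨f, hf⟩ := htK
    exact ht f hf
  set d := Module.finrank (ZMod p) K
  have hFn : Module.finrank (ZMod p) F = n := by
    have := Module.card_eq_pow_finrank (K := ZMod p) (V := F)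
    rw [hq, ZMod.card] at this
    exact (Nat.pow_right_injective (Fact.out : p.Prime).two_le this).symm
  have hdvd : d ∣ n := hFn ▸ ⟨_, (Module.finrank_mul_finrank (ZMod p) K F).symm⟩
  have hdlt : d < n := by
    refine lt_of_le_of_ne (Nat.le_of_dvd (by omega) hdvd) fun e => hKne ?_
    exact IntermediateField.eq_of_le_of_finrank_eq le_top
      (by rw [IntermediateField.finrank_top', hFn]; exact e)
  have hd1 : 1 ≤ d := Module.finrank_pos
  have hdm : d ≤ m := by
    obtain ⟨c, hc⟩ := hdvd
    rcases c with _ | _ | c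
    · omega
    · omega
    · rw [hm, Nat.le_div_iff_mul_le two_pos, hc]
      exact Nat.mul_le_mul_left _ (by omega)
  have hfix : val s ^ p ^ d = val s := by
    haveI : Fintype K := Fintype.ofFinite K
    have := FiniteField.pow_card (⟨val s, IntermediateField.mem_adjoin_simple_self _ _⟩ : K)
    rw [Module.card_eq_pow_finrank (K := ZMod p), ZMod.card] at this
    exact congrArg Subtype.val this
  refine hb (Finset.mem_biUnion.mpr ⟨val s, Finset.mem_biUnion.mpr
    ⟨d, Finset.mem_Icc.mpr ⟨hd1, hdm⟩, by simpa using hfix⟩, ?_⟩)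
  simp only [Finset.mem_filter, Finset.mem_univ, true_and, val]
  field_simp
  ring

end CfsgLib.SLPres
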