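import Cfsg.Agent.Lib.Classical.Card

/-!
# Root families of type `A` bound the order by that of `SL_n`
-/

set_option autoImplicit false

namespace CfsgLib.SLPres

open scoped MatrixGroups Pointwise

variable {F : Type*} [Field F]

/-- The root elements of `SL₃`, extended by `1` on the diagonal. -/
def tr3 (a b : Fin 3) (t : F) : SL(3, F) :=
  if h : a = b then 1 else Matrix.SpecialLinearGroup.transvection h t

@[simp] theorem coe_tr3 (a b : Fin 3) (h : a ≠ b) (t : F) :
    (tr3 a b t : Matrix (Fin 3) (Fin 3) F) = 1 + Matrix.single a b t := by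
  rw [tr3, dif_neg h, Matrix.SpecialLinearGroup.transvection_coe]

variable {G ι : Type*} [Group G]

/-- A family of root groups of type `A`: every triple is an image of `SL₃`, disjoint roots commute. -/
structure RootFam (X : ι → ι → F → G) : Prop where
  triple : ∀ v : Fin 3 → ι, Function.Injective v →
    ∃ θ : SL(3, F) →* G, ∀ a b, a ≠ b → ∀ t, θ (tr3 a b t) = X (v a) (v b) t
  disj : ∀ i j k l, i ≠ j → k ≠ l → i ≠ k → i ≠ l → j ≠ k → j ≠ l →
    ∀ s t, Commute (X i j s) (X k l t)
  third : ∀ i j : ι, ∃ k, k ≠ i ∧ k ≠ j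

/-- The monomial element of a root pair. -/
def wel (X : ι → ι → F → G) (i j : ι) (a : F) : G := X i j a * X j i (-a⁻¹) * X i j a

/-- The torus element of a root pair. -/
def hel (X : ι → ι → F → G) (i j : ι) (a : F) : G := wel X i j a * wel X i j (-1)

theorem map_wel {H : Type*} [Group H] (θ : H →* G) (Y : Fin 3 → Fin 3 → F → H) (X : ι → ι → F → G)
    (v : Fin 3 → ι) (hv : ∀ a b, a ≠ b → ∀ t, θ (Y a b t) = X (v a) (v b) t) (a b : Fin 3)
    (hab : a ≠ b) (c : F) : θ (wel Y a b c) = wel X (v a) (v b) c := by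
  rw [wel, wel, map_mul, map_mul, hv a b hab, hv b a hab.symm]

theorem map_hel {H : Type*} [Group H] (θ : H →* G) (Y : Fin 3 → Fin 3 → F → H) (X : ι → ι → F → G)
    (v : Fin 3 → ι) (hv : ∀ a b, a ≠ b → ∀ t, θ (Y a b t) = X (v a) (v b) t) (a b : Fin 3)
    (hab : a ≠ b) (c : F) : θ (hel Y a b c) = hel X (v a) (v b) c := by
  rw [hel, hel, map_mul, map_wel θ Y X v hv a b hab, map_wel θ Y X v hv a b hab]

section Identities

/-- The explicit monomial matrix. -/
theorem wel_zero_one (c : F) (hc : c ≠ 0) :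
    (wel tr3 0 1 c : SL(3, F)).1 = !![0, c, 0; -c⁻¹, 0, 0; 0, 0, 1] := by
  simp only [wel, Matrix.SpecialLinearGroup.coe_mul, ne_eq, zero_ne_one, not_false_eq_true, coe_tr3,
    one_ne_zero]
  ext i j; fin_cases i <;> fin_cases j <;> simp [Matrix.mul_apply, Fin.sum_univ_three, Matrix.one_apply, hc]

theorem wel_one_two (c : F) (hc : c ≠ 0) :
    (wel tr3 1 2 c : SL(3, F)).1 = !![1, 0, 0; 0, 0, c; 0, -c⁻¹, 0] := by
  simp only [wel, Matrix.SpecialLinearGroup.coe_mul, ne_eq, Fin.reduceEq, not_false_eq_true, coe_tr3]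
  ext i j; fin_cases i <;> fin_cases j <;> simp [Matrix.mul_apply, Fin.sum_univ_three, Matrix.one_apply, hc]

theorem wel_zero_two (c : F) (hc : c ≠ 0) :
    (wel tr3 0 2 c : SL(3, F)).1 = !![0, 0, c; 0, 1, 0; -c⁻¹, 0, 0] := by
  simp only [wel, Matrix.SpecialLinearGroup.coe_mul, ne_eq, Fin.reduceEq, not_false_eq_true, coe_tr3]
  ext i j; fin_cases i <;> fin_cases j <;> simp [Matrix.mul_apply, Fin.sum_univ_three, Matrix.one_apply, hc]

theorem hel_zero_one (c : F) (hc : c ≠ 0) :
    (hel tr3 0 1 c : SL(3, F)).1 = !![c, 0, 0; 0, c⁻¹, 0; 0, 0, 1] := by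
  rw [hel, Matrix.SpecialLinearGroup.coe_mul, wel_zero_one c hc, wel_zero_one (-1) (by simp)]
  simp

theorem hel_one_two (c : F) (hc : c ≠ 0) :
    (hel tr3 1 2 c : SL(3, F)).1 = !![1, 0, 0; 0, c, 0; 0, 0, c⁻¹] := by
  rw [hel, Matrix.SpecialLinearGroup.coe_mul, wel_one_two c hc, wel_one_two (-1) (by simp)]
  simp

theorem hel_zero_two (c : F) (hc : c ≠ 0) :
    (hel tr3 0 2 c : SL(3, F)).1 = !![c, 0, 0; 0, 1, 0; 0, 0, c⁻¹] := by
  rw [hel, Matrix.SpecialLinearGroup.coe_mul, wel_zero_two c hc, wel_zero_two (-1) (by simp)]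
  simp

end Identities

namespace RootFam

variable {X : ι → ι → F → G} (R : RootFam X)

include R

/-- Evaluate on a triple of distinct indices. -/
theorem tri {i j k : ι} (hij : i ≠ j) (hik : i ≠ k) (hjk : j ≠ k) :
    ∃ θ : SL(3, F) →* G, ∀ a b, a ≠ b → ∀ t, θ (tr3 a b t) = X (![i, j, k] a) (![i, j, k] b) t := by
  refine R.triple _ ?_
  intro a b h
  fin_cases a <;> fin_cases b <;> simp_all [eq_comm]

theorem add {i j : ι} (hij : i ≠ j) (s t : F) : X i j (s + t) = X i j s * X i j t := by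
  obtain ⟨k, hki, hkj⟩ := R.third i j
  obtain ⟨θ, hθ⟩ := R.tri hij hki.symm hkj.symm
  have e : (tr3 0 1 (s + t) : SL(3, F)) = tr3 0 1 s * tr3 0 1 t := by
    apply Subtype.ext
    simp only [Matrix.SpecialLinearGroup.coe_mul, ne_eq, zero_ne_one, not_false_eq_true, coe_tr3]
    ext a b; fin_cases a <;> fin_cases b <;> simp [Matrix.mul_apply, Fin.sum_univ_three, Matrix.one_apply, add_comm]
  have := congrArg θ e
  rwa [map_mul, hθ 0 1 (by decide), hθ 0 1 (by decide), hθ 0 1 (by decide)] at this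

theorem zero {i j : ι} (hij : i ≠ j) : X i j 0 = 1 := by
  have := R.add hij 0 0
  rw [add_zero] at this
  exact left_eq_mul.mp this

theorem neg {i j : ι} (hij : i ≠ j) (t : F) : X i j (-t) = (X i j t)⁻¹ := by
  refine (inv_eq_of_mul_eq_one_right ?_).symm
  rw [← R.add hij, add_neg_cancel, R.zero hij]

theorem comm_row {i j k : ι} (hij : i ≠ j) (hik : i ≠ k) (s t : F) :
    Commute (X i j s) (X i k t) := by
  by_cases hjk : j = k
  · subst hjk; rw [Commute, SemiconjBy, ← R.add hij, add_comm, R.add hij]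
  obtain ⟨θ, hθ⟩ := R.tri hij hik hjk
  have e : (tr3 0 1 s : SL(3, F)) * tr3 0 2 t = tr3 0 2 t * tr3 0 1 s := by
    apply Subtype.ext
    simp only [Matrix.SpecialLinearGroup.coe_mul, ne_eq, Fin.reduceEq, not_false_eq_true, coe_tr3]
    ext a b; fin_cases a <;> fin_cases b <;> simp [Matrix.mul_apply, Fin.sum_univ_three, Matrix.one_apply]
  have := congrArg θ e
  rwa [map_mul, map_mul, hθ 0 1 (by decide), hθ 0 2 (by decide)] at this

theorem comm_col {i j k : ι} (hik : i ≠ k) (hjk : j ≠ k) (s t : F) :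
    Commute (X i k s) (X j k t) := by
  by_cases hij : i = j
  · subst hij; rw [Commute, SemiconjBy, ← R.add hik, add_comm, R.add hik]
  obtain ⟨θ, hθ⟩ := R.tri hij hik hjk
  have e : (tr3 0 2 s : SL(3, F)) * tr3 1 2 t = tr3 1 2 t * tr3 0 2 s := by
    apply Subtype.ext
    simp only [Matrix.SpecialLinearGroup.coe_mul, ne_eq, Fin.reduceEq, not_false_eq_true, coe_tr3]
    ext a b; fin_cases a <;> fin_cases b <;> simp [Matrix.mul_apply, Fin.sum_univ_three, Matrix.one_apply]
  have := congrArg θ e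
  rwa [map_mul, map_mul, hθ 0 2 (by decide), hθ 1 2 (by decide)] at this

theorem conj_up {i j k : ι} (hij : i ≠ j) (hik : i ≠ k) (hjk : j ≠ k) (s t : F) :
    X i j s * X j k t * (X i j s)⁻¹ = X i k (s * t) * X j k t ∧
      X j k t * X i j s = X i j s * X i k (-(s * t)) * X j k t := by
  obtain ⟨θ, hθ⟩ := R.tri hij hik hjk
  have e1 : (tr3 0 1 s : SL(3, F)) * tr3 1 2 t = tr3 0 2 (s * t) * tr3 1 2 t * tr3 0 1 s := by
    apply Subtype.ext
    simp only [Matrix.SpecialLinearGroup.coe_mul, ne_eq, Fin.reduceEq, not_false_eq_true, coe_tr3]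
    ext a b; fin_cases a <;> fin_cases b <;> simp [Matrix.mul_apply, Fin.sum_univ_three, Matrix.one_apply]
  have e2 : (tr3 1 2 t : SL(3, F)) * tr3 0 1 s = tr3 0 1 s * tr3 0 2 (-(s * t)) * tr3 1 2 t := by
    apply Subtype.ext
    simp only [Matrix.SpecialLinearGroup.coe_mul, ne_eq, Fin.reduceEq, not_false_eq_true, coe_tr3]
    ext a b; fin_cases a <;> fin_cases b <;> simp [Matrix.mul_apply, Fin.sum_univ_three, Matrix.one_apply]
  have h1 := congrArg θ e1
  have h2 := congrArg θ e2
  simp only [map_mul, hθ 0 1 (by decide), hθ 1 2 (by decide), hθ 0 2 (by decide)] at h1 h2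
  exact ⟨mul_inv_eq_iff_eq_mul.mpr h1, h2⟩

/-- The monomial element exchanges the roots through a third index. -/
theorem wel_facts {i l m : ι} (hil : i ≠ l) (him : i ≠ m) (hlm : l ≠ m) (t : F) :
    wel X l m 1 * X i l t * (wel X l m 1)⁻¹ = X i m (-t) ∧
      wel X l m 1 * X i m t * (wel X l m 1)⁻¹ = X i l t ∧
      wel X l m 1 * X l i t * (wel X l m 1)⁻¹ = X m i (-t⁻¹⁻¹) := by
  obtain ⟨θ, hθ⟩ := R.tri hil him hlm
  have w := map_wel θ tr3 X _ hθ 1 2 (by decide) (1 : F)
  have e : (wel tr3 1 2 1 : SL(3, F)) * tr3 0 1 t = tr3 0 2 (-t) * wel tr3 1 2 1 ∧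
      (wel tr3 1 2 1 : SL(3, F)) * tr3 0 2 t = tr3 0 1 t * wel tr3 1 2 1 ∧
      (wel tr3 1 2 1 : SL(3, F)) * tr3 1 0 t = tr3 2 0 (-t) * wel tr3 1 2 1 := by
    refine ⟨?_, ?_, ?_⟩ <;>
    · apply Subtype.ext
      simp only [Matrix.SpecialLinearGroup.coe_mul, ne_eq, Fin.reduceEq, not_false_eq_true, coe_tr3,
        wel_one_two _ (one_ne_zero : (1 : F) ≠ 0)]
      ext a b; fin_cases a <;> fin_cases b <;> simp [Matrix.mul_apply, Fin.sum_univ_three, Matrix.one_apply]
  obtain ⟨e1, e2, e3⟩ := e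
  have h1 := congrArg θ e1
  have h2 := congrArg θ e2
  have h3 := congrArg θ e3
  simp only [map_mul, w, hθ 0 1 (by decide), hθ 0 2 (by decide), hθ 1 0 (by decide),
    hθ 2 0 (by decide)] at h1 h2 h3
  rw [inv_inv]
  exact ⟨mul_inv_eq_iff_eq_mul.mpr h1, mul_inv_eq_iff_eq_mul.mpr h2, mul_inv_eq_iff_eq_mul.mpr h3⟩

/-- What one needs inside a single root pair. -/
theorem pair_facts {l m : ι} (hlm : l ≠ m) :
    (∀ t, wel X l m 1 * X l m t * (wel X l m 1)⁻¹ = X m l (-t)) ∧
      wel X l m 1 * wel X l m 1 = hel X l m (-1) ∧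
      (∀ c, c ≠ 0 → wel X l m 1 * X l m c * wel X l m 1 =
        X l m (-c⁻¹) * hel X l m (-c⁻¹) * wel X l m 1 * X l m (-c⁻¹)) ∧
      hel X l m 1 = 1 ∧
      (∀ a b, a ≠ 0 → b ≠ 0 → hel X l m a * hel X l m b = hel X l m (a * b)) ∧
      ∀ a t, a ≠ 0 → hel X l m a * X l m t * (hel X l m a)⁻¹ = X l m (a * a * t) := by
  obtain ⟨k, hkl, hkm⟩ := R.third l m
  obtain ⟨θ, hθ⟩ := R.tri hlm hkl.symm hkm.symm
  have w := map_wel θ tr3 X _ hθ 0 1 (by decide) (1 : F)
  have hh := map_hel θ tr3 X _ hθ 0 1 (by decide)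
  have h01 := hθ 0 1 (by decide)
  have h10 := hθ 1 0 (by decide)
  refine ⟨fun t => ?_, ?_, fun c hc => ?_, ?_, fun a b ha hb => ?_, fun a t ha => ?_⟩
  · have e : (wel tr3 0 1 1 : SL(3, F)) * tr3 0 1 t = tr3 1 0 (-t) * wel tr3 0 1 1 := by
      apply Subtype.ext
      simp only [Matrix.SpecialLinearGroup.coe_mul, ne_eq, Fin.reduceEq, not_false_eq_true, coe_tr3,
        wel_zero_one _ (one_ne_zero : (1 : F) ≠ 0)]
      ext a b; fin_cases a <;> fin_cases b <;> simp [Matrix.mul_apply, Fin.sum_univ_three, Matrix.one_apply]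
    have := congrArg θ e
    rw [map_mul, map_mul, w, h01, h10] at this
    exact mul_inv_eq_iff_eq_mul.mpr this
  · have e : (wel tr3 0 1 1 : SL(3, F)) * wel tr3 0 1 1 = hel tr3 0 1 (-1) := by
      apply Subtype.ext
      rw [Matrix.SpecialLinearGroup.coe_mul, wel_zero_one _ (one_ne_zero : (1 : F) ≠ 0),
        hel_zero_one _ (by simp)]
      simp
    have := congrArg θ e
    rwa [map_mul, w, hh] at this
  · have hc' : -c⁻¹ ≠ 0 := by simpa using hc
    have e : (wel tr3 0 1 1 : SL(3, F)) * tr3 0 1 c * wel tr3 0 1 1 =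
        tr3 0 1 (-c⁻¹) * hel tr3 0 1 (-c⁻¹) * wel tr3 0 1 1 * tr3 0 1 (-c⁻¹) := by
      apply Subtype.ext
      simp only [Matrix.SpecialLinearGroup.coe_mul, ne_eq, Fin.reduceEq, not_false_eq_true, coe_tr3,
        wel_zero_one _ (one_ne_zero : (1 : F) ≠ 0), hel_zero_one _ hc']
      ext a b; fin_cases a <;> fin_cases b <;>
        simp [Matrix.mul_apply, Matrix.vecMul, dotProduct, Fin.sum_univ_three, Matrix.one_apply, hc]
    have := congrArg θ e
    simpa only [map_mul, w, h01, hh, Matrix.cons_val_zero, Matrix.cons_val_one] using this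
  · have e : (hel tr3 0 1 1 : SL(3, F)) = 1 := by
      apply Subtype.ext
      rw [hel_zero_one _ one_ne_zero]
      ext a b; fin_cases a <;> fin_cases b <;> simp
    have := congrArg θ e
    rwa [hh, map_one] at this
  · have e : (hel tr3 0 1 a : SL(3, F)) * hel tr3 0 1 b = hel tr3 0 1 (a * b) := by
      apply Subtype.ext
      rw [Matrix.SpecialLinearGroup.coe_mul, hel_zero_one _ ha, hel_zero_one _ hb,
        hel_zero_one _ (mul_ne_zero ha hb)]
      simp [mul_comm]
    have := congrArg θ e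
    rwa [map_mul, hh, hh, hh] at this
  · have e : (hel tr3 0 1 a : SL(3, F)) * tr3 0 1 t = tr3 0 1 (a * a * t) * hel tr3 0 1 a := by
      apply Subtype.ext
      simp only [Matrix.SpecialLinearGroup.coe_mul, ne_eq, Fin.reduceEq, not_false_eq_true, coe_tr3,
        hel_zero_one _ ha]
      ext x y; fin_cases x <;> fin_cases y <;>
        simp [Matrix.mul_apply, Fin.sum_univ_three, Matrix.one_apply] <;> field_simp
    have := congrArg θ e
    rw [map_mul, map_mul, hh, h01, h01] at this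
    exact mul_inv_eq_iff_eq_mul.mpr this

/-- Torus elements scale the roots through a third index. -/
theorem hel_facts {i l m : ι} (hil : i ≠ l) (him : i ≠ m) (hlm : l ≠ m) (a : F) (ha : a ≠ 0) (t : F) :
    hel X l m a * X i m t * (hel X l m a)⁻¹ = X i m (a * t) ∧
      hel X l m a * X i l t * (hel X l m a)⁻¹ = X i l (a⁻¹ * t) ∧
      hel X l m a * X l i t * (hel X l m a)⁻¹ = X l i (a * t) ∧
      wel X l m 1 * hel X i l a * (wel X l m 1)⁻¹ = hel X i l a * hel X l m a ∧
      hel X i l a * X l m t * (hel X i l a)⁻¹ = X l m (a⁻¹ * t) := by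
  obtain ⟨θ, hθ⟩ := R.tri hil him hlm
  have w := map_wel θ tr3 X _ hθ 1 2 (by decide) (1 : F)
  have h12 := map_hel θ tr3 X _ hθ 1 2 (by decide) a
  have h01 := map_hel θ tr3 X _ hθ 0 1 (by decide) a
  have e : (hel tr3 1 2 a : SL(3, F)) * tr3 0 2 t = tr3 0 2 (a * t) * hel tr3 1 2 a ∧
      (hel tr3 1 2 a : SL(3, F)) * tr3 0 1 t = tr3 0 1 (a⁻¹ * t) * hel tr3 1 2 a ∧
      (hel tr3 1 2 a : SL(3, F)) * tr3 1 0 t = tr3 1 0 (a * t) * hel tr3 1 2 a ∧
      (wel tr3 1 2 1 : SL(3, F)) * hel tr3 0 1 a = hel tr3 0 1 a * hel tr3 1 2 a * wel tr3 1 2 1 ∧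
      (hel tr3 0 1 a : SL(3, F)) * tr3 1 2 t = tr3 1 2 (a⁻¹ * t) * hel tr3 0 1 a := by
    refine ⟨?_, ?_, ?_, ?_, ?_⟩ <;>
    · apply Subtype.ext
      simp only [Matrix.SpecialLinearGroup.coe_mul, ne_eq, Fin.reduceEq, not_false_eq_true, coe_tr3,
        wel_one_two _ (one_ne_zero : (1 : F) ≠ 0), hel_one_two _ ha, hel_zero_one _ ha]
      ext x y; fin_cases x <;> fin_cases y <;>
        simp [Matrix.mul_apply, Fin.sum_univ_three, Matrix.one_apply, ha] <;> field_simp
  obtain ⟨e1, e2, e3, e4, e5⟩ := e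
  have f1 := congrArg θ e1
  have f2 := congrArg θ e2
  have f3 := congrArg θ e3
  have f4 := congrArg θ e4
  have f5 := congrArg θ e5
  simp only [map_mul, w, h12, h01, hθ 0 1 (by decide), hθ 0 2 (by decide), hθ 1 0 (by decide),
    hθ 1 2 (by decide)] at f1 f2 f3 f4 f5
  exact ⟨mul_inv_eq_iff_eq_mul.mpr f1, mul_inv_eq_iff_eq_mul.mpr f2, mul_inv_eq_iff_eq_mul.mpr f3,
    mul_inv_eq_iff_eq_mul.mpr f4, mul_inv_eq_iff_eq_mul.mpr f5⟩

theorem braid {i l m : ι} (hil : i ≠ l) (him : i ≠ m) (hlm : l ≠ m) (c c' : F) :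
    wel X l m 1 * X l m c * wel X i l 1 * X i l c' * wel X l m 1 =
      wel X i l 1 * wel X l m 1 * (wel X i l 1 * X i l c * X i m c') := by
  obtain ⟨θ, hθ⟩ := R.tri hil him hlm
  have w12 := map_wel θ tr3 X _ hθ 1 2 (by decide) (1 : F)
  have w01 := map_wel θ tr3 X _ hθ 0 1 (by decide) (1 : F)
  have e : (wel tr3 1 2 1 : SL(3, F)) * tr3 1 2 c * wel tr3 0 1 1 * tr3 0 1 c' * wel tr3 1 2 1 =
      wel tr3 0 1 1 * wel tr3 1 2 1 * (wel tr3 0 1 1 * tr3 0 1 c * tr3 0 2 c') := by
    apply Subtype.ext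
    simp only [Matrix.SpecialLinearGroup.coe_mul, ne_eq, Fin.reduceEq, not_false_eq_true, coe_tr3,
      wel_zero_one _ (one_ne_zero : (1 : F) ≠ 0), wel_one_two _ (one_ne_zero : (1 : F) ≠ 0)]
    ext x y; fin_cases x <;> fin_cases y <;>
      simp [Matrix.mul_apply, Matrix.vecMul, dotProduct, Fin.sum_univ_three, Matrix.one_apply]
  have := congrArg θ e
  simpa only [map_mul, w01, w12, hθ 0 1 (by decide), hθ 0 2 (by decide), hθ 1 2 (by decide),
    Matrix.cons_val_zero, Matrix.cons_val_one, Matrix.cons_val] using this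

end RootFam

/-- The subgroup generated by the roots inside a list of indices. -/
def rootSub (X : ι → ι → F → G) (S : List ι) : Subgroup G :=
  Subgroup.closure {g | ∃ i ∈ S, ∃ j ∈ S, i ≠ j ∧ ∃ t, g = X i j t}

/-- The column at `m` over the indices in `S`. -/
def colSub (X : ι → ι → F → G) (S : List ι) (m : ι) : Subgroup G :=
  Subgroup.closure {g | ∃ i ∈ S, ∃ t, g = X i m t}

theorem mem_rootSub {X : ι → ι → F → G} {S : List ι} {i j : ι} (hi : i ∈ S) (hj : j ∈ S) (hij : i ≠ j)
    (t : F) : X i j t ∈ rootSub X S :=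
  Subgroup.subset_closure ⟨i, hi, j, hj, hij, t, rfl⟩

theorem mem_colSub {X : ι → ι → F → G} {S : List ι} {i m : ι} (hi : i ∈ S) (t : F) :
    X i m t ∈ colSub X S m := Subgroup.subset_closure ⟨i, hi, t, rfl⟩

theorem rootSub_mono {X : ι → ι → F → G} {S T : List ι} (h : S ⊆ T) : rootSub X S ≤ rootSub X T :=
  Subgroup.closure_mono fun _ ⟨i, hi, j, hj, r⟩ => ⟨i, h hi, j, h hj, r⟩

theorem wel_mem {X : ι → ι → F → G} {S : List ι} {i j : ι} (hi : i ∈ S) (hj : j ∈ S) (hij : i ≠ j)
    (a : F) : wel X i j a ∈ rootSub X S :=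
  mul_mem (mul_mem (mem_rootSub hi hj hij a) (mem_rootSub hj hi hij.symm _)) (mem_rootSub hi hj hij a)

theorem hel_mem {X : ι → ι → F → G} {S : List ι} {i j : ι} (hi : i ∈ S) (hj : j ∈ S) (hij : i ≠ j)
    (a : F) : hel X i j a ∈ rootSub X S :=
  mul_mem (wel_mem hi hj hij a) (wel_mem hi hj hij _)

/-- A closure commutes with what its generators commute with. -/
theorem commute_of_closure {s : Set G} {x g : G} (hs : ∀ y ∈ s, Commute y x) (hg : g ∈ Subgroup.closure s) :
    Commute g x := by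
  have : Subgroup.closure s ≤ Subgroup.centralizer {x} := by
    rw [Subgroup.closure_le]
    intro y hy
    rw [SetLike.mem_coe, Subgroup.mem_centralizer_singleton_iff]
    exact hs y hy
  exact Subgroup.mem_centralizer_singleton_iff.mp (this hg)

variable [Fintype F]

/-- The parabolic subgroup at the new index `m`, with its torus direction towards `l`. -/
def parSub (X : ι → ι → F → G) (S : List ι) (l m : ι) : Subgroup G :=
  (Subgroup.closure {g | ∃ a : F, a ≠ 0 ∧ g = hel X l m a} ⊔ rootSub X S) ⊔ colSub X S m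

theorem card_sup_le (A B : Subgroup G) (h : A ≤ Subgroup.normalizer (B : Set G)) [Finite A] [Finite B] :
    Finite ↥(A ⊔ B) ∧ Nat.card ↥(A ⊔ B) ≤ Nat.card A * Nat.card B := by
  have hx : ∀ x : ↥(A ⊔ B), ∃ a : A, ∃ b : B, (x : G) = a * b := by
    rintro ⟨x, hx⟩
    rw [← SetLike.mem_coe, Subgroup.coe_mul_of_left_le_normalizer_right A B h] at hx
    obtain ⟨a, ha, b, hb, rfl⟩ := Set.mem_mul.mp hx
    exact ⟨⟨a, ha⟩, ⟨b, hb⟩, rfl⟩
  choose fa fb hf using hx
  have hj : Function.Injective fun x => (fa x, fb x) := fun x y e => by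
    simp only [Prod.mk.injEq] at e
    exact Subtype.ext (by rw [hf x, hf y, e.1, e.2])
  exact ⟨Finite.of_injective _ hj, (Nat.card_le_card_of_injective _ hj).trans_eq (Nat.card_prod _ _)⟩

theorem le_normalizer_of_conj {A B : Subgroup G} [Finite B] (sA : Set G) (hA : A = Subgroup.closure sA)
    (h : ∀ a ∈ sA, ∀ b ∈ B, a * b * a⁻¹ ∈ B) : A ≤ Subgroup.normalizer (B : Set G) := by
  rw [hA, Subgroup.closure_le]
  intro a ha
  rw [SetLike.mem_coe, Subgroup.mem_normalizer_iff]
  let f : B → B := fun b => ⟨a * b * a⁻¹, h a ha b b.2⟩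
  have hf : Function.Surjective f := Finite.surjective_of_injective fun x y e =>
    Subtype.ext (mul_left_cancel (mul_right_cancel (congrArg Subtype.val e :)))
  intro x
  refine ⟨h a ha x, fun hx => ?_⟩
  obtain ⟨y, hy⟩ := hf ⟨_, hx⟩
  have : (y : G) = x := mul_left_cancel (mul_right_cancel (congrArg Subtype.val hy :))
  exact this ▸ y.2

namespace RootFam

variable {X : ι → ι → F → G} (R : RootFam X)

include R

theorem colSub_card (S : List ι) (m : ι) (hm : m ∉ S) :
    Finite (colSub X S m) ∧ Nat.card (colSub X S m) ≤ Fintype.card F ^ S.length := by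
  classical
  induction S with
  | nil =>
    have : colSub X ([] : List ι) m = ⊥ := by simp [colSub]
    rw [this]
    exact ⟨inferInstance, by simp⟩
  | cons i S ih =>
    obtain ⟨hfin, hc⟩ := ih fun h => hm (List.mem_cons_of_mem _ h)
    have him : i ≠ m := fun h => hm (h ▸ List.mem_cons_self ..)
    let A : Subgroup G :=
      { carrier := Set.range fun t => X i m t
        one_mem' := ⟨0, R.zero him⟩
        mul_mem' := by rintro _ _ ⟨s, rfl⟩ ⟨t, rfl⟩; exact ⟨s + t, R.add him s t⟩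
        inv_mem' := by rintro _ ⟨s, rfl⟩; exact ⟨-s, R.neg him s⟩ }
    haveI : Finite A := Finite.Set.finite_range fun t => X i m t
    have hA : Nat.card A ≤ Fintype.card F := by
      rw [← Nat.card_eq_fintype_card]
      exact Nat.card_le_card_of_surjective (fun t => (⟨X i m t, t, rfl⟩ : A))
        fun x => by obtain ⟨t, ht⟩ := x.2; exact ⟨t, Subtype.ext ht⟩
    have hle : colSub X (i :: S) m ≤ A ⊔ colSub X S m := by
      rw [colSub, Subgroup.closure_le]
      rintro _ ⟨j, hj, t, rfl⟩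
      rcases List.mem_cons.mp hj with rfl | hj
      · exact Subgroup.mem_sup_left ⟨t, rfl⟩
      · exact Subgroup.mem_sup_right (mem_colSub hj t)
    have hnorm : A ≤ Subgroup.normalizer (colSub X S m : Set G) := by
      refine le_normalizer_of_conj (A : Set G) (Subgroup.closure_eq A).symm ?_
      rintro _ ⟨s, rfl⟩ b hb
      have hc : Commute b (X i m s) := commute_of_closure
        (fun y hy => by
          obtain ⟨j, hj, t, rfl⟩ := hy
          exact R.comm_col (fun h => hm (by rw [← h]; exact List.mem_cons_of_mem _ hj)) him t s) hb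
      rwa [← hc.eq, mul_inv_cancel_right]
    obtain ⟨hf2, hc2⟩ := card_sup_le A (colSub X S m) hnorm
    refine ⟨Finite.of_injective _ (Subgroup.inclusion_injective hle), ?_⟩
    refine (Nat.card_le_card_of_injective _ (Subgroup.inclusion_injective hle)).trans (hc2.trans ?_)
    rw [List.length_cons, pow_succ']
    exact Nat.mul_le_mul hA hc

theorem col_conj (S : List ι) (m : ι) (hm : m ∉ S) {g : G} (hg : g ∈ rootSub X S) :
    ∀ b ∈ colSub X S m, g * b * g⁻¹ ∈ colSub X S m := by
  have hcol := (R.colSub_card S m hm).1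
  have hle : rootSub X S ≤ Subgroup.normalizer (colSub X S m : Set G) := by
    refine le_normalizer_of_conj _ rfl ?_
    rintro _ ⟨i, hi, j, hj, hij, t, rfl⟩ b hb
    have hmi : ∀ k ∈ S, k ≠ m := fun k hk h => hm (h ▸ hk)
    have hgen : colSub X S m ≤ (colSub X S m).comap (MulAut.conj (X i j t)).toMonoidHom := by
      rw [colSub, Subgroup.closure_le]
      rintro _ ⟨k, hk, s, rfl⟩
      show X i j t * X k m s * (X i j t)⁻¹ ∈ colSub X S m
      by_cases hjk : j = k
      · subst hjk
        rw [(R.conj_up hij (hmi i hi) (hmi j hj) t s).1]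
        exact mul_mem (mem_colSub hi _) (mem_colSub hk _)
      · by_cases hik : i = k
        · subst hik
          rw [(R.comm_row hij (hmi i hi) t s).eq, mul_inv_cancel_right]
          exact mem_colSub hk _
        · rw [(R.disj i j k m hij (hmi k hk) hik (hmi i hi) hjk (hmi j hj) t s).eq, mul_inv_cancel_right]
          exact mem_colSub hk _
    exact hgen hb
  intro b hb
  exact (Subgroup.mem_normalizer_iff.mp (hle hg) b).mp hb

theorem torus_card {l m : ι} (hlm : l ≠ m) :
    Finite (Subgroup.closure {g | ∃ a : F, a ≠ 0 ∧ g = hel X l m a}) ∧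
      Nat.card (Subgroup.closure {g | ∃ a : F, a ≠ 0 ∧ g = hel X l m a}) ≤ Fintype.card F - 1 := by
  classical
  obtain ⟨-, -, -, hone, hmul, -⟩ := R.pair_facts hlm
  let φ : Fˣ →* G :=
    { toFun := fun a => hel X l m (a : F)
      map_one' := hone
      map_mul' := fun a b => (hmul _ _ a.ne_zero b.ne_zero).symm }
  have hle : Subgroup.closure {g | ∃ a : F, a ≠ 0 ∧ g = hel X l m a} ≤ φ.range := by
    rw [Subgroup.closure_le]
    rintro _ ⟨a, ha, rfl⟩
    exact ⟨Units.mk0 a ha, rfl⟩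
  haveI : Finite φ.range := Finite.Set.finite_range φ
  refine ⟨Finite.of_injective _ (Subgroup.inclusion_injective hle), ?_⟩
  refine (Nat.card_le_card_of_injective _ (Subgroup.inclusion_injective hle)).trans ?_
  refine (Nat.card_le_card_of_surjective _ φ.rangeRestrict_surjective).trans ?_
  rw [Nat.card_units, Nat.card_eq_fintype_card]

/-- Conjugation by the torus direction. -/
theorem torus_conj (S : List ι) (l m : ι) (hl : l ∈ S) (hm : m ∉ S) (a : F) (ha : a ≠ 0) :
    (∀ x ∈ rootSub X S, hel X l m a * x * (hel X l m a)⁻¹ ∈ rootSub X S) ∧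
      ∀ x ∈ colSub X S m, hel X l m a * x * (hel X l m a)⁻¹ ∈ colSub X S m := by
  have hlm : l ≠ m := fun h => hm (h ▸ hl)
  have hmi : ∀ k ∈ S, k ≠ m := fun k hk h => hm (h ▸ hk)
  obtain ⟨-, -, -, -, -, hsc⟩ := R.pair_facts hlm
  constructor
  · intro x hx
    have hgen : rootSub X S ≤ (rootSub X S).comap (MulAut.conj (hel X l m a)).toMonoidHom := by
      rw [rootSub, Subgroup.closure_le]
      rintro _ ⟨i, hi, j, hj, hij, t, rfl⟩
      show hel X l m a * X i j t * (hel X l m a)⁻¹ ∈ rootSub X S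
      by_cases hil : i = l
      · subst hil
        rw [(R.hel_facts hij.symm (hmi j hj) hlm a ha t).2.2.1]
        exact mem_rootSub hi hj hij _
      · by_cases hjl : j = l
        · subst hjl
          rw [(R.hel_facts hij (hmi i hi) hlm a ha t).2.1]
          exact mem_rootSub hi hj hij _
        · have h1 : ∀ s, Commute (X l m s) (X i j t) := fun s =>
            R.disj l m i j hlm hij (Ne.symm hil) (Ne.symm hjl) (hmi i hi).symm (hmi j hj).symm s t
          have h2 : ∀ s, Commute (X m l s) (X i j t) := fun s =>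
            R.disj m l i j hlm.symm hij (hmi i hi).symm (hmi j hj).symm (Ne.symm hil) (Ne.symm hjl) s t
          have hc : Commute (hel X l m a) (X i j t) :=
            (((h1 _).mul_left (h2 _)).mul_left (h1 _)).mul_left (((h1 _).mul_left (h2 _)).mul_left (h1 _))
          rw [hc.eq, mul_inv_cancel_right]
          exact mem_rootSub hi hj hij _
    exact hgen hx
  · intro x hx
    have hgen : colSub X S m ≤ (colSub X S m).comap (MulAut.conj (hel X l m a)).toMonoidHom := by
      rw [colSub, Subgroup.closure_le]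
      rintro _ ⟨i, hi, t, rfl⟩
      show hel X l m a * X i m t * (hel X l m a)⁻¹ ∈ colSub X S m
      by_cases hil : i = l
      · subst hil; rw [hsc a t ha]; exact mem_colSub hi _
      · rw [(R.hel_facts hil (hmi i hi) hlm a ha t).1]; exact mem_colSub hi _
    exact hgen hx

theorem parSub_card (S : List ι) (l m : ι) (hl : l ∈ S) (hm : m ∉ S) [Finite (rootSub X S)] :
    Finite (parSub X S l m) ∧ Nat.card (parSub X S l m) ≤
      (Fintype.card F - 1) * Nat.card (rootSub X S) * Fintype.card F ^ S.length := by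
  have hlm : l ≠ m := fun h => hm (h ▸ hl)
  obtain ⟨hVf, hVc⟩ := R.colSub_card S m hm
  obtain ⟨hTf, hTc⟩ := R.torus_card (X := X) hlm
  haveI := hVf
  haveI := hTf
  set T := Subgroup.closure {g | ∃ a : F, a ≠ 0 ∧ g = hel X l m a} with hT
  have h1 : T ≤ Subgroup.normalizer (rootSub X S : Set G) :=
    le_normalizer_of_conj _ hT (by rintro _ ⟨a, ha, rfl⟩; exact (R.torus_conj S l m hl hm a ha).1)
  obtain ⟨hf1, hc1⟩ := card_sup_le T (rootSub X S) h1
  haveI := hf1
  have h2 : T ⊔ rootSub X S ≤ Subgroup.normalizer (colSub X S m : Set G) := by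
    refine sup_le (le_normalizer_of_conj _ hT (by
      rintro _ ⟨a, ha, rfl⟩; exact (R.torus_conj S l m hl hm a ha).2)) ?_
    exact le_normalizer_of_conj _ (Subgroup.closure_eq _).symm (fun g hg => R.col_conj S m hm hg)
  obtain ⟨hf2, hc2⟩ := card_sup_le (T ⊔ rootSub X S) (colSub X S m) h2
  exact ⟨hf2, hc2.trans (Nat.mul_le_mul (hc1.trans (Nat.mul_le_mul_right _ hTc)) hVc)⟩

/-- The generators of the parabolic subgroup one index below. -/
def lowGens (X : ι → ι → F → G) (rest : List ι) (l : ι) : Set G :=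
  {g | ∃ i ∈ rest, ∃ j ∈ rest, i ≠ j ∧ ∃ t, g = X i j t} ∪ {g | ∃ i ∈ rest, ∃ t, g = X i l t} ∪
    {g | ∃ i ∈ rest, ∃ a : F, a ≠ 0 ∧ g = hel X i l a}

set_option maxHeartbeats 1200000 in
/-- One step: from representatives one index below to representatives at the new index. -/
theorem reps_step (rest : List ι) (l m : ι) (hnd : (m :: l :: rest).Nodup)
    [Finite (rootSub X (l :: rest))] (Rs : Finset G)
    (hcard : Rs.card * (Fintype.card F - 1) + 1 ≤ Fintype.card F ^ (rest.length + 1))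
    (hdec : ∀ g ∈ rootSub X (l :: rest), ∃ r ∈ Rs, ∃ q ∈ Subgroup.closure (lowGens X rest l), g = q * r)
    (hshape : ∀ r ∈ Rs, r ∈ rootSub X (l :: rest) ∧ (r = 1 ∨ ∃ l' ∈ rest, ∃ c,
      ∃ g ∈ rootSub X rest, r = wel X l' l 1 * X l' l c * g)) :
    ∃ Rs' : Finset G, Rs'.card * (Fintype.card F - 1) + 1 ≤ Fintype.card F ^ (rest.length + 2) ∧
      (∀ r ∈ Rs', r ∈ rootSub X (m :: l :: rest) ∧ (r = 1 ∨ ∃ c, ∃ g ∈ rootSub X (l :: rest),
        r = wel X l m 1 * X l m c * g)) ∧
      ∀ g ∈ rootSub X (m :: l :: rest), ∃ q ∈ parSub X (l :: rest) l m, ∃ r ∈ Rs', g = q * r := by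
  classical
  obtain ⟨hm, hnd'⟩ := List.nodup_cons.mp hnd
  obtain ⟨hl, -⟩ := List.nodup_cons.mp hnd'
  have hlm : l ≠ m := fun h => hm (h ▸ List.mem_cons_self ..)
  have hrl : ∀ i ∈ rest, i ≠ l := fun i hi h => hl (h ▸ hi)
  have hrm : ∀ i ∈ rest, i ≠ m := fun i hi h => hm (List.mem_cons_of_mem _ (h ▸ hi))
  obtain ⟨pflip, psq, pbru, pone, pmul, psc⟩ := R.pair_facts hlm
  set Q := parSub X (l :: rest) l m with hQdef
  set s := wel X l m 1 with hs
  have hQH : ∀ x ∈ rootSub X (l :: rest), x ∈ Q := fun x hx =>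
    Subgroup.mem_sup_left (Subgroup.mem_sup_right hx)
  have hQV : ∀ x ∈ colSub X (l :: rest) m, x ∈ Q := fun x hx => Subgroup.mem_sup_right hx
  have hQT : ∀ a : F, a ≠ 0 → hel X l m a ∈ Q := fun a ha =>
    Subgroup.mem_sup_left (Subgroup.mem_sup_left (Subgroup.subset_closure ⟨a, ha, rfl⟩))
  let Rs' : Finset G := insert 1 ((Finset.univ ×ˢ Rs).image fun x : F × G => s * X l m x.1 * x.2)
  have hone : (1 : G) ∈ Rs' := Finset.mem_insert_self ..
  have hsr : ∀ c, ∀ r ∈ Rs, s * X l m c * r ∈ Rs' := fun c r hr => Finset.mem_insert_of_mem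
    (Finset.mem_image.mpr ⟨(c, r), by simp [hr], rfl⟩)
  -- moving the lower parabolic subgroup through a new representative
  have move : ∀ v ∈ Subgroup.closure (lowGens X rest l ∪ {g | ∃ i ∈ l :: rest, ∃ t, g = X i m t}),
      ∀ c, ∃ q ∈ Q, ∃ c', s * X l m c * v = q * (s * X l m c') := by
    intro v hv
    have gij : ∀ i ∈ rest, ∀ j ∈ rest, i ≠ j → ∀ t c,
        ∃ q ∈ Q, ∃ c', s * X l m c * X i j t = q * (s * X l m c') := by
      intro i hi j hj hij t c
      refine ⟨_, hQH _ (mem_rootSub (List.mem_cons_of_mem _ hi) (List.mem_cons_of_mem _ hj) hij t), c, ?_⟩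
      have h1 : ∀ u, Commute (X l m u) (X i j t) := fun u =>
        R.disj l m i j hlm hij (hrl i hi).symm (hrl j hj).symm (hrm i hi).symm (hrm j hj).symm u t
      have h2 : ∀ u, Commute (X m l u) (X i j t) := fun u =>
        R.disj m l i j hlm.symm hij (hrm i hi).symm (hrm j hj).symm (hrl i hi).symm (hrl j hj).symm u t
      exact ((((h1 _).mul_left (h2 _)).mul_left (h1 _)).mul_left (h1 c)).eq
    have gil : ∀ i ∈ rest, ∀ t c, ∃ q ∈ Q, ∃ c', s * X l m c * X i l t = q * (s * X l m c') := by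
      intro i hi t c
      have hi' := List.mem_cons_of_mem l hi
      obtain ⟨w1, w2, -⟩ := R.wel_facts (hrl i hi) (hrm i hi) hlm t
      obtain ⟨-, w3, -⟩ := R.wel_facts (hrl i hi) (hrm i hi) hlm (-(t * c))
      refine ⟨X i m (-t) * X i l (-(t * c)),
        mul_mem (hQV _ (mem_colSub hi' _)) (hQH _ (mem_rootSub hi' (List.mem_cons_self ..) (hrl i hi) _)), c, ?_⟩
      rw [mul_assoc s, (R.conj_up (hrl i hi) (hrm i hi) hlm t c).2, ← w1, ← w3]
      simp only [hs]
      group
    have gim : ∀ i ∈ l :: rest, ∀ t c, ∃ q ∈ Q, ∃ c', s * X l m c * X i m t = q * (s * X l m c') := by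
      intro i hi t c
      rcases List.mem_cons.mp hi with rfl | hi'
      · exact ⟨1, one_mem _, c + t, by rw [one_mul, R.add hlm, mul_assoc]⟩
      · obtain ⟨-, w2, -⟩ := R.wel_facts (hrl i hi') (hrm i hi') hlm t
        refine ⟨X i l t, hQH _ (mem_rootSub hi (List.mem_cons_self ..) (hrl i hi') _), c, ?_⟩
        rw [mul_assoc s, (R.comm_col hlm (hrm i hi') c t).eq, ← w2]
        simp only [hs]
        group
    have ghel : ∀ i ∈ rest, ∀ a : F, a ≠ 0 → ∀ c,
        ∃ q ∈ Q, ∃ c', s * X l m c * hel X i l a = q * (s * X l m c') := by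
      intro i hi a ha c
      obtain ⟨-, -, -, h4, h5⟩ := R.hel_facts (hrl i hi) (hrm i hi) hlm a ha (a * c)
      rw [← mul_assoc a⁻¹, inv_mul_cancel₀ ha, one_mul] at h5
      refine ⟨hel X i l a * hel X l m a,
        mul_mem (hQH _ (hel_mem (List.mem_cons_of_mem _ hi) (List.mem_cons_self ..) (hrl i hi) a)) (hQT a ha),
        a * c, ?_⟩
      rw [← h4, ← h5]
      simp only [hs]
      group
    induction hv using Subgroup.closure_induction'' with
    | mem x hx =>
      rcases hx with ((⟨i, hi, j, hj, hij, t, rfl⟩ | ⟨i, hi, t, rfl⟩) | ⟨i, hi, a, ha, rfl⟩) |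
        ⟨i, hi, t, rfl⟩
      exacts [gij i hi j hj hij t, gil i hi t, ghel i hi a ha, gim i hi t]
    | inv_mem x hx =>
      rcases hx with ((⟨i, hi, j, hj, hij, t, rfl⟩ | ⟨i, hi, t, rfl⟩) | ⟨i, hi, a, ha, rfl⟩) |
        ⟨i, hi, t, rfl⟩
      · rw [← R.neg hij]; exact gij i hi j hj hij _
      · rw [← R.neg (hrl i hi)]; exact gil i hi _
      · obtain ⟨-, -, -, h1, h2, -⟩ := R.pair_facts (hrl i hi)
        have : (hel X i l a)⁻¹ = hel X i l a⁻¹ := by
          rw [inv_eq_iff_mul_eq_one, h2 a a⁻¹ ha (inv_ne_zero ha), mul_inv_cancel₀ ha, h1]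
        rw [this]; exact ghel i hi _ (inv_ne_zero ha)
      · rw [← R.neg (show i ≠ m from fun h => hm (h ▸ hi))]; exact gim i hi _
    | one => exact fun c => ⟨1, one_mem _, c, by group⟩
    | mul x y _ _ ix iy =>
      intro c
      obtain ⟨q, hq, c', h1⟩ := ix c
      obtain ⟨q', hq', c'', h2⟩ := iy c'
      exact ⟨q * q', mul_mem hq hq', c'', by rw [← mul_assoc, h1, mul_assoc q, h2, mul_assoc]⟩
  -- the set covered by the cosets
  set W : Set G := {y | ∃ q ∈ Q, ∃ r ∈ Rs', y = q * r} with hW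
  have hQW : ∀ q ∈ Q, ∀ y ∈ W, q * y ∈ W := by
    rintro q hq _ ⟨q', hq', r, hr, rfl⟩
    exact ⟨q * q', mul_mem hq hq', r, hr, by rw [mul_assoc]⟩
  have lemA : ∀ c, ∀ g ∈ rootSub X (l :: rest), s * X l m c * g ∈ W := by
    intro c g hg
    obtain ⟨r, hr, q', hq', rfl⟩ := hdec g hg
    obtain ⟨q, hq, c', h⟩ := move q' (Subgroup.closure_mono Set.subset_union_left hq') c
    exact ⟨q, hq, _, hsr c' r hr, by rw [← mul_assoc, h, mul_assoc]⟩
  have lemB : ∀ c, ∀ v ∈ colSub X (l :: rest) m, ∀ g ∈ rootSub X (l :: rest),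
      s * X l m c * (v * g) ∈ W := by
    intro c v hv g hg
    obtain ⟨q, hq, c', h⟩ := move v (Subgroup.closure_mono Set.subset_union_right hv) c
    rw [← mul_assoc, h, mul_assoc q]
    exact hQW q hq _ (lemA c' g hg)
  have hWfin : W.Finite := by
    haveI := (R.parSub_card (l :: rest) l m (List.mem_cons_self ..) hm).1
    refine ((Set.toFinite (Q : Set G)).mul Rs'.finite_toSet).subset ?_
    rintro _ ⟨q, hq, r, hr, rfl⟩
    exact Set.mul_mem_mul hq hr
  let P : Subgroup G :=
    { carrier := {g | ∀ y ∈ W, y * g ∈ W}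
      one_mem' := fun y hy => by rwa [mul_one]
      mul_mem' := fun {a b} ha hb y hy => by rw [← mul_assoc]; exact hb _ (ha y hy)
      inv_mem' := fun {g} hg y hy => by
        haveI := hWfin.to_subtype
        let f : W → W := fun z => ⟨z * g, hg z z.2⟩
        obtain ⟨z, hz⟩ := Finite.surjective_of_injective (f := f)
          (fun a b e => Subtype.ext (mul_right_cancel (congrArg Subtype.val e))) ⟨y, hy⟩
        rw [← show (z : G) * g = y from congrArg Subtype.val hz, mul_inv_cancel_right]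
        exact z.2 }
  have hP : ∀ x, (∀ r ∈ Rs', r * x ∈ W) → x ∈ P := by
    rintro x h _ ⟨q, hq, r, hr, rfl⟩
    rw [mul_assoc]
    exact hQW q hq _ (h r hr)
  have hcases : ∀ r ∈ Rs', r = 1 ∨ ∃ c, ∃ r' ∈ Rs, r = s * X l m c * r' := by
    intro r hr
    simp only [Rs', Finset.mem_insert, Finset.mem_image, Finset.mem_product, Finset.mem_univ,
      true_and] at hr
    rcases hr with h | ⟨⟨c, r'⟩, hr', h⟩
    exacts [Or.inl h, Or.inr ⟨c, r', hr', h.symm⟩]
  have hH : rootSub X (l :: rest) ≤ P := by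
    intro x hx
    refine hP x fun r hr => ?_
    rcases hcases r hr with rfl | ⟨c, r', hr', rfl⟩
    · exact ⟨x, hQH x hx, 1, hone, by group⟩
    · rw [mul_assoc]; exact lemA c _ (mul_mem (hshape r' hr').1 hx)
  have hV : colSub X (l :: rest) m ≤ P := by
    intro x hx
    refine hP x fun r hr => ?_
    rcases hcases r hr with rfl | ⟨c, r', hr', rfl⟩
    · exact ⟨x, hQV x hx, 1, hone, by group⟩
    · have := lemB c _ (R.col_conj (l :: rest) m hm (hshape r' hr').1 x hx) _ (hshape r' hr').1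
      rw [mul_assoc]
      simpa [mul_assoc] using this
  have hS : s ∈ P := by
    refine hP s fun r hr => ?_
    rcases hcases r hr with rfl | ⟨c, r', hr', rfl⟩
    · have := lemA 0 1 (one_mem _)
      simpa [R.zero hlm] using this
    · rcases (hshape r' hr').2 with rfl | ⟨l', hl', c', g, hg, rfl⟩
      · rw [mul_one]
        by_cases hc : c = 0
        · subst hc
          rw [R.zero hlm, mul_one, psq]
          exact ⟨_, hQT (-1) (by simp), 1, hone, by group⟩
        · have hc' : -c⁻¹ ≠ 0 := by simpa using hc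
          rw [pbru c hc, mul_assoc, mul_assoc]
          refine hQW _ (hQV _ (mem_colSub (List.mem_cons_self ..) _)) _ (hQW _ (hQT _ hc') _ ?_)
          simpa using lemA (-c⁻¹) 1 (one_mem _)
      · have hl2 : l' ∈ l :: rest := List.mem_cons_of_mem _ hl'
        have hll := hrl l' hl'
        have hgs : Commute g s := commute_of_closure (fun y hy => by
          obtain ⟨i, hi, j, hj, hij, t, rfl⟩ := hy
          have h1 : ∀ u, Commute (X i j t) (X l m u) := fun u =>
            R.disj i j l m hij hlm (hrl i hi) (hrm i hi) (hrl j hj) (hrm j hj) t u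
          have h2 : ∀ u, Commute (X i j t) (X m l u) := fun u =>
            R.disj i j m l hij hlm.symm (hrm i hi) (hrl i hi) (hrm j hj) (hrl j hj) t u
          exact ((h1 _).mul_right (h2 _)).mul_right (h1 _)) hg
        set g1 := wel X l' l 1 * X l' l c with hg1d
        have hg1 : g1 ∈ rootSub X (l :: rest) :=
          mul_mem (wel_mem hl2 (List.mem_cons_self ..) hll 1)
            (mem_rootSub hl2 (List.mem_cons_self ..) hll c)
        have hv := R.col_conj (l :: rest) m hm hg1 _ (mem_colSub (m := m) hl2 c')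
        have hg' := mul_mem hg1 (rootSub_mono (List.subset_cons_self l rest) hg)
        have := hQW _ (hQH _ (wel_mem hl2 (List.mem_cons_self ..) hll 1)) _ (lemB 0 _ hv _ hg')
        rw [R.zero hlm, mul_one] at this
        rw [show s * X l m c * (wel X l' l 1 * X l' l c' * g) * s =
          (s * X l m c * wel X l' l 1 * X l' l c' * s) * g by
            calc _ = s * X l m c * wel X l' l 1 * X l' l c' * (g * s) := by group
              _ = _ := by rw [hgs.eq]; group,
          R.braid hll (hrm l' hl') hlm c c']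
        simpa [hg1d, mul_assoc] using this
  have hsS : s ∈ rootSub X (m :: l :: rest) :=
    wel_mem (List.mem_cons_of_mem _ (List.mem_cons_self ..)) (List.mem_cons_self ..) hlm 1
  have hgen : rootSub X (m :: l :: rest) ≤ P := by
    rw [rootSub, Subgroup.closure_le]
    rintro _ ⟨i, hi, j, hj, hij, t, rfl⟩
    rcases List.mem_cons.mp hi with rfl | hi2
    · rcases List.mem_cons.mp hj with rfl | hj2
      · exact absurd rfl hij
      rcases List.mem_cons.mp hj2 with rfl | hj'
      · have := pflip (-t)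
        rw [neg_neg] at this
        rw [← this]
        exact mul_mem (mul_mem hS (hV (mem_colSub (List.mem_cons_self ..) _))) (inv_mem hS)
      · obtain ⟨-, -, w3⟩ := R.wel_facts (hrl j hj') (hrm j hj') hlm (-t)
        rw [inv_inv, neg_neg] at w3
        rw [← w3]
        exact mul_mem (mul_mem hS (hH (mem_rootSub (List.mem_cons_self ..) hj2 (hrl j hj').symm _)))
          (inv_mem hS)
    · rcases List.mem_cons.mp hj with rfl | hj2
      · exact hV (mem_colSub hi2 t)
      · exact hH (mem_rootSub hi2 hj2 hij t)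
  refine ⟨Rs', ?_, fun r hr => ?_, fun g hg => ?_⟩
  · have h0 : (((Finset.univ : Finset F) ×ˢ Rs).image fun x : F × G => s * X l m x.1 * x.2).card ≤
        Fintype.card F * Rs.card := by
      refine Finset.card_image_le.trans_eq ?_
      rw [Finset.card_product, Finset.card_univ]
    have h1 : Rs'.card ≤ Fintype.card F * Rs.card + 1 :=
      (Finset.card_insert_le _ _).trans (Nat.add_le_add_right h0 1)
    have hq := Fintype.one_lt_card (α := F)
    have h2 := Nat.mul_le_mul_left (Fintype.card F) hcard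
    rw [← pow_succ', show rest.length + 1 + 1 = rest.length + 2 by omega] at h2
    have h3 := Nat.mul_le_mul_right (Fintype.card F - 1) h1
    rw [add_mul, one_mul, mul_assoc] at h3
    rw [mul_add, mul_one] at h2
    omega
  · rcases hcases r hr with rfl | ⟨c, r', hr', rfl⟩
    · exact ⟨one_mem _, Or.inl rfl⟩
    · refine ⟨mul_mem (mul_mem hsS (mem_rootSub (List.mem_cons_of_mem _ (List.mem_cons_self ..))
        (List.mem_cons_self ..) hlm c)) (rootSub_mono (List.subset_cons_self _ _) (hshape r' hr').1),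
        Or.inr ⟨c, r', (hshape r' hr').1, rfl⟩⟩
  · have := hgen hg 1 ⟨1, one_mem _, 1, hone, by group⟩
    rwa [one_mul] at this

/-- The step of the count. -/
theorem reps_card_le (S : List ι) (l m : ι) (hm : m ∉ S) (hl : l ∈ S) [Finite (rootSub X S)]
    (Rs : Finset G) (N : ℕ) (hN : Nat.card (rootSub X S) ≤ N)
    (hcard : Rs.card * (Fintype.card F - 1) + 1 ≤ Fintype.card F ^ (S.length + 1))
    (hdec : ∀ g ∈ rootSub X (m :: S), ∃ q ∈ parSub X S l m, ∃ r ∈ Rs, g = q * r) :
    Finite (rootSub X (m :: S)) ∧ Nat.card (rootSub X (m :: S)) ≤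
      N * Fintype.card F ^ S.length * (Fintype.card F ^ (S.length + 1) - 1) := by
  obtain ⟨hfin, hc⟩ := R.parSub_card S l m hl hm
  haveI := hfin
  choose fq hfq fr hfr hf using hdec
  let f : rootSub X (m :: S) → parSub X S l m × Rs :=
    fun x => (⟨fq x x.2, hfq x x.2⟩, ⟨fr x x.2, hfr x x.2⟩)
  have hj : Function.Injective f := fun x y e => by
    simp only [f, Prod.mk.injEq, Subtype.mk.injEq] at e
    exact Subtype.ext (by rw [hf x x.2, hf y y.2, e.1, e.2])
  refine ⟨Finite.of_injective _ hj, ?_⟩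
  have h1 := Nat.card_le_card_of_injective _ hj
  rw [Nat.card_prod, Nat.card_eq_finsetCard] at h1
  refine h1.trans ((Nat.mul_le_mul_right _ hc).trans ?_)
  calc (Fintype.card F - 1) * Nat.card (rootSub X S) * Fintype.card F ^ S.length * Rs.card
      = Nat.card (rootSub X S) * Fintype.card F ^ S.length * (Rs.card * (Fintype.card F - 1)) := by ring
    _ ≤ _ := Nat.mul_le_mul (Nat.mul_le_mul_right _ hN) (by omega)

/-- The root elements of a list generate at most as much as `SL` of that size. -/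
theorem card_root_reps : ∀ (rest : List ι) (l : ι), (l :: rest).Nodup →
    ∃ Rs : Finset G, Rs.card * (Fintype.card F - 1) + 1 ≤ Fintype.card F ^ (rest.length + 1) ∧
      (∀ g ∈ rootSub X (l :: rest), ∃ r ∈ Rs, ∃ q ∈ Subgroup.closure (lowGens X rest l), g = q * r) ∧
      (∀ r ∈ Rs, r ∈ rootSub X (l :: rest) ∧ (r = 1 ∨ ∃ l' ∈ rest, ∃ c,
        ∃ g ∈ rootSub X rest, r = wel X l' l 1 * X l' l c * g)) ∧
      Finite (rootSub X (l :: rest)) ∧
      Nat.card (rootSub X (l :: rest)) ≤ Nat.card SL(rest.length + 1, F) := by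
  intro rest
  induction rest with
  | nil =>
    intro l _
    have hbot : rootSub X [l] = ⊥ := by
      rw [rootSub, Subgroup.closure_eq_bot_iff]
      rintro _ ⟨i, hi, j, hj, hij, -⟩
      exact absurd ((List.mem_singleton.mp hi).trans (List.mem_singleton.mp hj).symm) hij
    refine ⟨{1}, ?_, fun g hg => ⟨1, Finset.mem_singleton_self 1, 1, one_mem _, ?_⟩, fun r hr => ?_, ?_⟩
    · have := Fintype.one_lt_card (α := F)
      simp only [Finset.card_singleton, List.length_nil, zero_add, pow_one]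
      omega
    · rw [hbot, Subgroup.mem_bot] at hg
      rw [hg, mul_one]
    · rw [Finset.mem_singleton] at hr
      subst hr
      exact ⟨one_mem _, Or.inl rfl⟩
    · rw [hbot]
      exact ⟨inferInstance, by rw [Subgroup.card_bot]; exact Nat.one_le_iff_ne_zero.mpr Nat.card_pos.ne'⟩
  | cons l' rest ih =>
    intro l hnd
    obtain ⟨Rs, hcard, hdec, hshape, hfin, hN⟩ := ih l' (List.nodup_cons.mp hnd).2
    haveI := hfin
    obtain ⟨Rs', hcard', hshape', hdec'⟩ := R.reps_step rest l' l hnd Rs hcard hdec hshape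
    have hl : l ∉ l' :: rest := (List.nodup_cons.mp hnd).1
    obtain ⟨hfin', hcnt⟩ := R.reps_card_le (l' :: rest) l' l hl (List.mem_cons_self ..) Rs' _ hN hcard' hdec'
    refine ⟨Rs', hcard', fun g hg => ?_, fun r hr => ⟨(hshape' r hr).1, ?_⟩, hfin', hcnt.trans_eq ?_⟩
    · obtain ⟨q, hq, r, hr, rfl⟩ := hdec' g hg
      refine ⟨r, hr, q, ?_, rfl⟩
      have hle : parSub X (l' :: rest) l' l ≤ Subgroup.closure (lowGens X (l' :: rest) l) := by
        refine sup_le (sup_le ?_ ?_) ?_
        · refine Subgroup.closure_mono ?_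
          rintro _ ⟨a, ha, rfl⟩
          exact Or.inr ⟨l', List.mem_cons_self .., a, ha, rfl⟩
        · exact Subgroup.closure_mono fun x hx => Or.inl (Or.inl hx)
        · exact Subgroup.closure_mono fun x hx => Or.inl (Or.inr hx)
      exact hle hq
    · rcases (hshape' r hr).2 with h | ⟨c, g, hg, h⟩
      · exact Or.inl h
      · exact Or.inr ⟨l', List.mem_cons_self .., c, g, hg, h⟩
    · have hq := Fintype.one_lt_card (α := F)
      have e1 := Classical.sub_one_mul_card_SL (F := F) (n := rest.length + 1) (by omega)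
      have e2 := Classical.sub_one_mul_card_SL (F := F) (n := rest.length + 2) (by omega)
      refine Nat.eq_of_mul_eq_mul_left (by omega : 0 < Fintype.card F - 1) ?_
      simp only [List.length_cons]
      refine Eq.trans ?_ e2.symm
      rw [Fin.prod_univ_succ, ← mul_assoc, ← mul_assoc, e1]
      simp only [Fin.val_zero, pow_zero, Fin.val_succ]
      have : ∀ i : Fin (rest.length + 1), Fintype.card F ^ (rest.length + 2) - Fintype.card F ^ ((i : ℕ) + 1) =
          Fintype.card F * (Fintype.card F ^ (rest.length + 1) - Fintype.card F ^ (i : ℕ)) := fun i => by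
        rw [Nat.mul_sub, ← pow_succ', ← pow_succ']
      rw [Finset.prod_congr rfl fun i _ => this i, Finset.prod_mul_distrib, Finset.prod_const,
        Finset.card_univ, Fintype.card_fin]
      ring

/-- A root family of type `A_{n-1}` generates at most as much as `SL_n`. -/
theorem card_le [Fintype ι] [Nonempty ι] (htop : Subgroup.closure {g | ∃ i j, i ≠ j ∧ ∃ t, g = X i j t} = ⊤) :
    Finite G ∧ Nat.card G ≤ Nat.card SL(Fintype.card ι, F) := by
  classical
  obtain ⟨L, hLd, hLm, hLl⟩ : ∃ L : List ι, L.Nodup ∧ (∀ i, i ∈ L) ∧ L.length = Fintype.card ι :=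
    ⟨Finset.univ.toList, Finset.nodup_toList _, by simp, by simp⟩
  rcases L with _ | ⟨l, rest⟩
  · exact absurd (hLm (Classical.arbitrary ι)) (List.not_mem_nil)
  obtain ⟨-, -, -, -, hfin, hc⟩ := R.card_root_reps rest l hLd
  have e : rootSub X (l :: rest) = ⊤ := by
    rw [← htop, rootSub]
    congr 1
    ext g
    exact ⟨fun ⟨i, _, j, _, h⟩ => ⟨i, j, h⟩, fun ⟨i, j, h⟩ => ⟨i, hLm i, j, hLm j, h⟩⟩
  rw [e, Subgroup.card_top] at hc
  rw [e] at hfin
  rw [← hLl, List.length_cons]
  exact ⟨Finite.of_equiv _ Subgroup.topEquiv.toEquiv, hc⟩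

end RootFam

end CfsgLib.SLPres
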