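import Cfsg.Agent.Lib.SLPres.ThreeData

/-!
# The `SL₃` relations bound the order
-/

set_option autoImplicit false

namespace CfsgLib.SLPres

open scoped Pointwise

variable {F : Type*} [Field F] [Fintype F] {G : Type*} [Group G]

/-- The plane group as a set of pairs. -/
theorem card_le_of_pairs {X : Subgroup G} {A B : Type*} [Finite A] [Finite B] (f : A → B → G)
    (h : ∀ x ∈ X, ∃ a b, x = f a b) : Finite X ∧ Nat.card X ≤ Nat.card A * Nat.card B := by
  choose a b hab using h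
  let j : X → A × B := fun x => (a x.1 x.2, b x.1 x.2)
  have hj : Function.Injective j := fun x y e => by
    simp only [j, Prod.mk.injEq] at e
    exact Subtype.ext (by rw [hab x.1 x.2, hab y.1 y.2, e.1, e.2])
  refine ⟨Finite.of_injective j hj, ?_⟩
  rw [← Nat.card_prod]
  exact Nat.card_le_card_of_injective j hj

namespace ThreeData

variable {u h w c : G} {φ : F → G} {μ : F} {e : ℕ} (D : ThreeData u h w c φ μ e)

include D

theorem scale_exists {g : G} (hg : g ∈ Subgroup.closure ({h, kk h c} : Set G)) :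
    ∃ a b d : F, Scales φ g a ∧ Scales (rY φ c) g b ∧ Scales (rZ φ c w) g d := by
  suffices ∃ a b d : F, (a ≠ 0 ∧ b ≠ 0 ∧ d ≠ 0) ∧
      Scales φ g a ∧ Scales (rY φ c) g b ∧ Scales (rZ φ c w) g d by
    obtain ⟨a, b, d, -, h'⟩ := this
    exact ⟨a, b, d, h'⟩
  have hm := D.mu_ne
  have hmm := mul_ne_zero D.mu_ne D.mu_ne
  induction hg using Subgroup.closure_induction with
  | mem x hx =>
    rcases hx with rfl | rfl
    · exact ⟨_, _, _, ⟨hmm, inv_ne_zero hm, hm⟩, D.h_scales, D.Y_h, D.Z_h⟩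
    · exact ⟨_, _, _, ⟨hm, inv_ne_zero hmm, inv_ne_zero hm⟩, D.k_scales, D.Y_k, D.Z_k⟩
  | one => exact ⟨1, 1, 1, by simp, fun t => by simp, fun t => by simp, fun t => by simp⟩
  | mul x y _ _ ix iy =>
    obtain ⟨a, b, d, ⟨a0, b0, d0⟩, ha, hb, hd⟩ := ix
    obtain ⟨a', b', d', ⟨a0', b0', d0'⟩, ha', hb', hd'⟩ := iy
    exact ⟨_, _, _, ⟨mul_ne_zero a0 a0', mul_ne_zero b0 b0', mul_ne_zero d0 d0'⟩,
      scales_mul ha ha', scales_mul hb hb', scales_mul hd hd'⟩
  | inv x _ ix =>
    obtain ⟨a, b, d, ⟨a0, b0, d0⟩, ha, hb, hd⟩ := ix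
    exact ⟨_, _, _, ⟨inv_ne_zero a0, inv_ne_zero b0, inv_ne_zero d0⟩,
      scales_inv ha a0, scales_inv hb b0, scales_inv hd d0⟩

/-- Moving a torus element to the left across a root element. -/
theorem move_left {g : G} (hg : g ∈ Subgroup.closure ({h, kk h c} : Set G)) :
    (∀ t, ∃ s, φ t * g = g * φ s) ∧ (∀ t, ∃ s, rY φ c t * g = g * rY φ c s) ∧
      ∀ t, ∃ s, rZ φ c w t * g = g * rZ φ c w s := by
  obtain ⟨a, b, d, ha, hb, hd⟩ := D.scale_exists (inv_mem hg)
  refine ⟨fun t => ⟨a * t, ?_⟩, fun t => ⟨b * t, ?_⟩, fun t => ⟨d * t, ?_⟩⟩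
  · rw [← ha t]; group
  · rw [← hb t]; group
  · rw [← hd t]; group

theorem w_torus {g : G} (hg : g ∈ Subgroup.closure ({h, kk h c} : Set G)) :
    w * g * w⁻¹ ∈ Subgroup.closure ({h, kk h c} : Set G) ∧
      nn w c * g * (nn w c)⁻¹ ∈ Subgroup.closure ({h, kk h c} : Set G) := by
  set T := Subgroup.closure ({h, kk h c} : Set G) with hT
  have hh : h ∈ T := Subgroup.subset_closure (Or.inl rfl)
  have hk' : kk h c ∈ T := Subgroup.subset_closure (Or.inr rfl)
  have hle : T ≤ T.comap (MulAut.conj w).toMonoidHom ⊓ T.comap (MulAut.conj (nn w c)).toMonoidHom := by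
    rw [hT, Subgroup.closure_le]
    rintro x (rfl | rfl)
    · exact ⟨show w * x * w⁻¹ ∈ T by rw [D.inv]; exact inv_mem hh,
        show nn w c * x * (nn w c)⁻¹ ∈ T by rw [D.N_h]; exact mul_mem hh (inv_mem hk')⟩
    · exact ⟨show w * kk h c * w⁻¹ ∈ T by rw [D.w_k]; exact mul_mem (inv_mem hh) hk',
        show nn w c * kk h c * (nn w c)⁻¹ ∈ T by rw [D.N_k]; exact inv_mem hk'⟩
  exact hle hg

/-- The subgroup generated by the first two root directions. -/
theorem card_levi (p : ℕ) [Fact p.Prime] [Algebra (ZMod p) F]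
    (hpoly : ∀ t : F, ∃ f : Polynomial (ZMod p), Polynomial.aeval (μ * μ) f = t) :
    Finite (Subgroup.closure ({u, h, w} : Set G)) ∧
      Nat.card (Subgroup.closure ({u, h, w} : Set G)) ≤
        (Fintype.card F - 1) * Fintype.card F * (1 + Fintype.card F) ∧
      ∀ t, φ t ∈ Subgroup.closure ({u, h, w} : Set G) := by
  set L := Subgroup.closure ({u, h, w} : Set G)
  have hu : u ∈ L := Subgroup.subset_closure (Or.inl rfl)
  have hh : h ∈ L := Subgroup.subset_closure (Or.inr (Or.inl rfl))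
  have hw : w ∈ L := Subgroup.subset_closure (Or.inr (Or.inr rfl))
  have R : IsRoot φ u h (μ * μ) := ⟨D.root.add, D.root.one, D.scale⟩
  have hφ : ∀ t, φ t ∈ L := by
    intro t
    obtain ⟨f, rfl⟩ := hpoly t
    rw [← R.wv_eq]
    refine Subgroup.list_prod_mem _ fun x hx => ?_
    obtain ⟨i, -, rfl⟩ := List.mem_map.mp hx
    exact pow_mem (mul_mem (mul_mem (pow_mem hh i) hu) (inv_mem (pow_mem hh i))) _
  obtain ⟨h1, h2⟩ := SLPres.card_le (⟨u, hu⟩ : L) ⟨h, hh⟩ ⟨w, hw⟩ (fun t => ⟨φ t, hφ t⟩) (μ * μ)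
    (mul_ne_zero D.mu_ne D.mu_ne) (Fintype.card F - 1)
    (by have := Fintype.one_lt_card (α := F); omega)
    (by
      have := Subgroup.closure_closure_coe_preimage (k := ({u, h, w} : Set G))
      convert this using 2
      ext ⟨x, hx⟩
      simp [Subtype.ext_iff])
    (fun s t => Subtype.ext (D.root.add s t)) (Subtype.ext D.root.one)
    (fun t => Subtype.ext (D.scale t)) (Subtype.ext D.h_order) (Subtype.ext D.inv)
    ⟨(e : ℤ), Subtype.ext (by simpa using D.sq)⟩
    (fun t ht => by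
      obtain ⟨a, b, k, hk⟩ := D.rel_field t ht
      exact ⟨a, b, k, Subtype.ext (by simpa using hk)⟩)
  exact ⟨h1, h2, hφ⟩

/-- The parabolic subgroup. -/
theorem card_parabolic (p : ℕ) [Fact p.Prime] [Algebra (ZMod p) F]
    (hpoly : ∀ t : F, ∃ f : Polynomial (ZMod p), Polynomial.aeval (μ * μ) f = t) :
    ∃ P : Subgroup G, Finite P ∧ Nat.card P ≤ (Fintype.card F - 1) * Fintype.card F *
        (1 + Fintype.card F) * (Fintype.card F - 1) * (Fintype.card F * Fintype.card F) ∧
      Subgroup.closure ({h, kk h c} : Set G) ≤ P ∧ w ∈ P ∧ u ∈ P ∧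
      (∀ t, φ t ∈ P) ∧ (∀ t, rY φ c t ∈ P) ∧ ∀ t, rZ φ c w t ∈ P := by
  obtain ⟨hLf, hLc, hφ⟩ := D.card_levi p hpoly
  set L := Subgroup.closure ({u, h, w} : Set G) with hL
  have hu : u ∈ L := Subgroup.subset_closure (Or.inl rfl)
  have hh : h ∈ L := Subgroup.subset_closure (Or.inr (Or.inl rfl))
  have hw : w ∈ L := Subgroup.subset_closure (Or.inr (Or.inr rfl))
  set k := kk h c
  -- `k` normalises the Levi part
  have hkN : k ∈ Subgroup.normalizer (L : Set G) := by
    have hle : L ≤ L.comap (MulAut.conj k).toMonoidHom := by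
      rw [hL, Subgroup.closure_le]
      rintro x (rfl | rfl | rfl)
      · show k * x * k⁻¹ ∈ L
        rw [← D.root.one, D.k_scales 1]; exact hφ _
      · show k * x * k⁻¹ ∈ L
        rw [← D.hk.eq, mul_inv_cancel_right]; exact hh
      · show k * x * k⁻¹ ∈ L
        rw [D.k_w]; exact mul_mem hh hw
    rw [Subgroup.mem_normalizer_iff]
    have hq : k ^ (Fintype.card F - 1) = 1 := D.k_order
    have hall : ∀ i : ℕ, ∀ x ∈ L, k ^ i * x * (k ^ i)⁻¹ ∈ L := by
      intro i
      induction i with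
      | zero => simp
      | succ n ih =>
        intro x hx
        rw [show k ^ (n + 1) * x * (k ^ (n + 1))⁻¹ = k * (k ^ n * x * (k ^ n)⁻¹) * k⁻¹ by
          rw [pow_succ']; group]
        exact hle (ih x hx)
    intro x
    refine ⟨fun hx => hle hx, fun hx => ?_⟩
    have h1 := hall (Fintype.card F - 2) _ hx
    have h2 : k ^ (Fintype.card F - 2) * k = 1 := by
      rw [← pow_succ, show Fintype.card F - 2 + 1 = Fintype.card F - 1 by
        have := Fintype.one_lt_card (α := F); omega, hq]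
    rw [show k ^ (Fintype.card F - 2) = k⁻¹ from eq_inv_of_mul_eq_one_left h2] at h1
    simpa [mul_assoc] using h1
  let K := Subgroup.zpowers k
  have hKN : K ≤ Subgroup.normalizer (L : Set G) := by rw [Subgroup.zpowers_le]; exact hkN
  have hKc : Finite K ∧ Nat.card K ≤ Fintype.card F - 1 := by
    have hq1 : 0 < Fintype.card F - 1 := by have := Fintype.one_lt_card (α := F); omega
    have hfo : IsOfFinOrder k := isOfFinOrder_iff_pow_eq_one.mpr ⟨_, hq1, D.k_order⟩
    have hle' : orderOf k ≤ Fintype.card F - 1 := orderOf_le_of_pow_eq_one hq1 D.k_order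
    exact ⟨hfo.finite_zpowers.to_subtype, by rw [Nat.card_zpowers]; exact hle'⟩
  set L' := K ⊔ L with hL'
  have hL'c : Finite L' ∧ Nat.card L' ≤
      Nat.card K * Nat.card L := by
    haveI := hKc.1
    haveI := hLf
    refine card_le_of_pairs (fun (a : K) (b : L) => (a : G) * (b : G)) fun x hx => ?_
    rw [← SetLike.mem_coe, hL', Subgroup.coe_mul_of_left_le_normalizer_right K L hKN] at hx
    obtain ⟨a, ha, b, hb, rfl⟩ := Set.mem_mul.mp hx
    exact ⟨⟨a, ha⟩, ⟨b, hb⟩, rfl⟩
  let V : Subgroup G :=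
    { carrier := {x | ∃ a b, x = rY φ c a * rZ φ c w b}
      one_mem' := ⟨0, 0, by rw [D.Y_zero, D.Z_zero, one_mul]⟩
      mul_mem' := by
        rintro _ _ ⟨a, b, rfl⟩ ⟨a', b', rfl⟩
        refine ⟨a + a', b + b', ?_⟩
        rw [D.Y_add, D.Z_add, mul_assoc, ← mul_assoc (rZ φ c w b), ← D.comm_Y_Z a' b]
        group
      inv_mem' := by
        rintro _ ⟨a, b, rfl⟩
        refine ⟨-a, -b, ?_⟩
        rw [inv_eq_iff_mul_eq_one]
        calc rY φ c a * rZ φ c w b * (rY φ c (-a) * rZ φ c w (-b))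
            = rY φ c a * (rY φ c (-a) * rZ φ c w b) * rZ φ c w (-b) := by rw [D.comm_Y_Z (-a) b]; group
          _ = (rY φ c a * rY φ c (-a)) * (rZ φ c w b * rZ φ c w (-b)) := by group
          _ = 1 := by
            rw [← D.Y_add, ← D.Z_add, add_neg_cancel, add_neg_cancel, D.Y_zero, D.Z_zero, one_mul] }
  have hYV : ∀ t, rY φ c t ∈ V := fun t => ⟨t, 0, by rw [D.Z_zero, mul_one]⟩
  have hZV : ∀ t, rZ φ c w t ∈ V := fun t => ⟨0, t, by rw [D.Y_zero, one_mul]⟩
  have hVc : Finite V ∧ Nat.card V ≤ Nat.card F * Nat.card F :=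
    card_le_of_pairs (fun a b => rY φ c a * rZ φ c w b) fun x hx => hx
  -- the Levi part normalises the plane
  have hgen : ∀ g : G, (∀ t, g * rY φ c t * g⁻¹ ∈ V) → (∀ t, g * rZ φ c w t * g⁻¹ ∈ V) →
      (∀ t, g⁻¹ * rY φ c t * g ∈ V) → (∀ t, g⁻¹ * rZ φ c w t * g ∈ V) →
      g ∈ Subgroup.normalizer (V : Set G) := by
    intro g a1 a2 a3 a4
    rw [Subgroup.mem_normalizer_iff]
    intro x
    constructor
    · rintro ⟨a, b, rfl⟩
      rw [show g * (rY φ c a * rZ φ c w b) * g⁻¹ = (g * rY φ c a * g⁻¹) * (g * rZ φ c w b * g⁻¹) by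
        group]
      exact mul_mem (a1 a) (a2 b)
    · rintro ⟨a, b, hab⟩
      rw [show x = (g⁻¹ * rY φ c a * g) * (g⁻¹ * rZ φ c w b * g) by
        rw [show x = g⁻¹ * (g * x * g⁻¹) * g by group, hab]; group]
      exact mul_mem (a3 a) (a4 b)
  have hT : ∀ g ∈ Subgroup.closure ({h, k} : Set G), g ∈ Subgroup.normalizer (V : Set G) := by
    intro g hg
    obtain ⟨-, b, d, -, hb, hd⟩ := D.scale_exists hg
    obtain ⟨-, b', d', -, hb', hd'⟩ := D.scale_exists (inv_mem hg)
    refine hgen g (fun t => by rw [hb]; exact hYV _) (fun t => by rw [hd]; exact hZV _) (fun t => ?_)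
      (fun t => ?_)
    · have := hb' t; rw [inv_inv] at this; rw [this]; exact hYV _
    · have := hd' t; rw [inv_inv] at this; rw [this]; exact hZV _
  have hwN : w ∈ Subgroup.normalizer (V : Set G) := by
    refine hgen w (fun t => by rw [D.w_Y]; exact hZV _) (fun t => by rw [D.w_Z]; exact hYV _)
      (fun t => ?_) (fun t => by rw [D.winv_Z]; exact hYV _)
    have h1 := D.w_Z (-t)
    rw [neg_neg] at h1
    rw [← h1]
    convert hZV (-t) using 1
    group
  have huN : u ∈ Subgroup.normalizer (V : Set G) := by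
    rw [← D.root.one]
    have hcY : ∀ a t, φ a * rY φ c t * (φ a)⁻¹ ∈ V := fun a t => by
      rw [D.bil_all, mul_inv_cancel_right]; exact mul_mem (hZV _) (hYV _)
    have hcZ : ∀ a t, φ a * rZ φ c w t * (φ a)⁻¹ ∈ V := fun a t => by
      rw [D.comm_φ_Z, mul_inv_cancel_right]; exact hZV _
    refine hgen _ (hcY 1) (hcZ 1) (fun t => ?_) (fun t => ?_)
    · have := hcY (-1) t; rwa [D.root.neg, inv_inv] at this
    · have := hcZ (-1) t; rwa [D.root.neg, inv_inv] at this
  have hL'N : L' ≤ Subgroup.normalizer (V : Set G) := by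
    refine sup_le ?_ ?_
    · rw [Subgroup.zpowers_le]; exact hT _ (Subgroup.subset_closure (Or.inr rfl))
    · rw [hL, Subgroup.closure_le]
      rintro x (rfl | rfl | rfl)
      · exact huN
      · exact hT _ (Subgroup.subset_closure (Or.inl rfl))
      · exact hwN
  have hPc : Finite ↥(L' ⊔ V) ∧ Nat.card ↥(L' ⊔ V) ≤ Nat.card L' * Nat.card V := by
    haveI := hL'c.1
    haveI := hVc.1
    refine card_le_of_pairs (fun (a : L') (b : V) => (a : G) * (b : G)) fun x hx => ?_
    rw [← SetLike.mem_coe, Subgroup.coe_mul_of_left_le_normalizer_right L' V hL'N] at hx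
    obtain ⟨a, ha, b, hb, rfl⟩ := Set.mem_mul.mp hx
    exact ⟨⟨a, ha⟩, ⟨b, hb⟩, rfl⟩
  have inL : ∀ x ∈ L, x ∈ L' ⊔ V := fun x hx => Subgroup.mem_sup_left (Subgroup.mem_sup_right hx)
  refine ⟨L' ⊔ V, hPc.1, ?_, ?_, inL w hw, inL u hu, fun t => inL _ (hφ t),
    fun t => Subgroup.mem_sup_right (hYV t), fun t => Subgroup.mem_sup_right (hZV t)⟩
  · calc _ ≤ Nat.card L' * Nat.card V := hPc.2
      _ ≤ (Fintype.card F - 1) * ((Fintype.card F - 1) * Fintype.card F * (1 + Fintype.card F)) *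
          (Fintype.card F * Fintype.card F) :=
        Nat.mul_le_mul (hL'c.2.trans (Nat.mul_le_mul hKc.2 hLc))
          (hVc.2.trans_eq (by rw [Nat.card_eq_fintype_card]))
      _ = _ := by ring
  · rw [Subgroup.closure_le]
    rintro x (rfl | rfl)
    · exact inL _ hh
    · exact Subgroup.mem_sup_left (Subgroup.mem_sup_left (Subgroup.mem_zpowers k))

/-- The relations bound the order of the group by that of `SL₃`. -/
theorem card_le_three (p : ℕ) [Fact p.Prime] [Algebra (ZMod p) F]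
    (hpoly : ∀ t : F, ∃ f : Polynomial (ZMod p), Polynomial.aeval (μ * μ) f = t)
    (hgenG : Subgroup.closure ({u, h, w, c} : Set G) = ⊤) :
    Finite G ∧ Nat.card G ≤ (Fintype.card F - 1) * Fintype.card F * (1 + Fintype.card F) *
      (Fintype.card F - 1) * (Fintype.card F * Fintype.card F) *
      (1 + (Fintype.card F + Fintype.card F * Fintype.card F)) := by
  obtain ⟨P, hPf, hPc, hTP, hwP, huP, hφP, hYP, hZP⟩ := D.card_parabolic p hpoly
  set T := Subgroup.closure ({h, kk h c} : Set G)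
  have hhT : h ∈ T := Subgroup.subset_closure (Or.inl rfl)
  have hkT : kk h c ∈ T := Subgroup.subset_closure (Or.inr rfl)
  let rep : Unit ⊕ (F ⊕ F × F) → G :=
    Sum.elim (fun _ => 1) (Sum.elim (fun a => (nn w c) * rY φ c a)
      (fun x => (nn w c) * w * φ x.1 * rZ φ c w x.2))
  let S : Set G := {g | ∃ q ∈ P, ∃ r, g = q * rep r}
  have mk1 : ∀ q ∈ P, q ∈ S := fun q hq => ⟨q, hq, Sum.inl (), by simp [rep]⟩
  have mk2 : ∀ q ∈ P, ∀ a, q * ((nn w c) * rY φ c a) ∈ S := fun q hq a => ⟨q, hq, Sum.inr (Sum.inl a), rfl⟩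
  have mk3 : ∀ q ∈ P, ∀ a b, q * ((nn w c) * w * φ a * rZ φ c w b) ∈ S :=
    fun q hq a b => ⟨q, hq, Sum.inr (Sum.inr (a, b)), rfl⟩
  have hnT : ∀ g ∈ T, (nn w c) * g * (nn w c)⁻¹ ∈ P := fun g hg => hTP (D.w_torus hg).2
  have hmT : ∀ g ∈ T, ((nn w c) * w) * g * ((nn w c) * w)⁻¹ ∈ P := fun g hg => by
    rw [show ((nn w c) * w) * g * ((nn w c) * w)⁻¹ = (nn w c) * (w * g * w⁻¹) * (nn w c)⁻¹ by group]
    exact hnT _ (D.w_torus hg).1
  have hn2 : (nn w c) * (nn w c) ∈ P := by
    rw [D.N_sq]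
    exact hTP (inv_mem (pow_mem hkT e))
  have ST : ∀ g ∈ S, ∀ t ∈ T, g * t ∈ S := by
    rintro _ ⟨q, hq, r, rfl⟩ t ht
    obtain ⟨mφ, mY, mZ⟩ := D.move_left ht
    rcases r with _ | a | ⟨a, b⟩
    · simpa [rep] using mk1 _ (mul_mem hq (hTP ht))
    · obtain ⟨s, hs⟩ := mY a
      convert mk2 _ (mul_mem hq (hnT t ht)) s using 1
      simp only [rep, Sum.elim_inr, Sum.elim_inl]
      rw [mul_assoc, mul_assoc (nn w c), hs]; group
    · obtain ⟨s₂, hs₂⟩ := mZ b
      obtain ⟨s₁, hs₁⟩ := mφ a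
      convert mk3 _ (mul_mem hq (hmT t ht)) s₁ s₂ using 1
      simp only [rep, Sum.elim_inr]
      calc q * ((nn w c) * w * φ a * rZ φ c w b) * t = q * ((nn w c) * w) * φ a * (rZ φ c w b * t) := by group
        _ = q * ((nn w c) * w) * (φ a * t) * rZ φ c w s₂ := by rw [hs₂]; group
        _ = _ := by rw [hs₁]; group
  have Sφ : ∀ g ∈ S, ∀ s, g * φ s ∈ S := by
    rintro _ ⟨q, hq, r, rfl⟩ s
    rcases r with _ | a | ⟨a, b⟩
    · simpa [rep] using mk1 _ (mul_mem hq (hφP s))
    · have e1 : rY φ c a * φ s = φ s * rZ φ c w (-(s * a)) * rY φ c a := by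
        rw [D.comm_φ_Z]
        have := D.bil_all s a
        calc rY φ c a * φ s = rZ φ c w (-(s * a)) * (rZ φ c w (s * a) * rY φ c a * φ s) := by
              rw [← mul_assoc, ← mul_assoc, ← D.Z_add, neg_add_cancel, D.Z_zero, one_mul]
          _ = _ := by rw [← this]; group
      convert mk2 _ (mul_mem hq (mul_mem (mul_mem (hZP (-s)) (hφP (-(s * a)))) (one_mem P))) a using 1
      simp only [rep, Sum.elim_inr, Sum.elim_inl]
      rw [mul_assoc q, mul_assoc (nn w c), e1, ← D.N_φ s, ← D.N_Z (-(s * a))]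
      group
    · convert mk3 _ hq (a + s) b using 1
      simp only [rep, Sum.elim_inr]
      calc q * ((nn w c) * w * φ a * rZ φ c w b) * φ s = q * ((nn w c) * w) * φ a * (rZ φ c w b * φ s) := by group
        _ = q * ((nn w c) * w) * (φ a * φ s) * rZ φ c w b := by rw [← D.comm_φ_Z]; group
        _ = _ := by rw [← D.root.add]; group
  have SY3 : ∀ q ∈ P, ∀ a b s, q * ((nn w c) * w * φ a * rZ φ c w b) * rY φ c s ∈ S := by
    intro q hq a b s
    convert mk3 _ (mul_mem hq (hφP s)) a (a * s + b) using 1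
    calc q * ((nn w c) * w * φ a * rZ φ c w b) * rY φ c s
        = q * ((nn w c) * w) * φ a * (rZ φ c w b * rY φ c s) := by group
      _ = q * ((nn w c) * w) * (φ a * rY φ c s) * rZ φ c w b := by rw [← D.comm_Y_Z]; group
      _ = q * ((nn w c) * w) * (rZ φ c w (a * s) * rY φ c s) * φ a * rZ φ c w b := by rw [D.bil_all]; group
      _ = q * ((nn w c) * w) * rY φ c s * (rZ φ c w (a * s) * φ a) * rZ φ c w b := by
          rw [← D.comm_Y_Z]; group
      _ = q * ((nn w c) * (w * rY φ c s * w⁻¹) * (nn w c)⁻¹) * ((nn w c) * w) * φ a * (rZ φ c w (a * s) * rZ φ c w b) := by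
          rw [← D.comm_φ_Z]; group
      _ = _ := by rw [D.w_Y, D.N_Z, ← D.Z_add]; group
  have Sw : ∀ g ∈ S, g * w ∈ S := by
    rintro _ ⟨q, hq, r, rfl⟩
    rcases r with _ | a | ⟨a, b⟩
    · simpa [rep] using mk1 _ (mul_mem hq hwP)
    · convert mk3 _ hq 0 (-a) using 1
      simp only [rep, Sum.elim_inr, Sum.elim_inl, D.root.zero, mul_one]
      have := D.w_Z (-a)
      rw [neg_neg] at this
      rw [← this]; group
    · have e1 : rZ φ c w b * w = w * rY φ c b := by rw [← D.winv_Z b]; group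
      simp only [rep, Sum.elim_inr]
      rw [show q * ((nn w c) * w * φ a * rZ φ c w b) * w = q * (nn w c) * (w * φ a * (rZ φ c w b * w)) by group, e1,
        show q * (nn w c) * (w * φ a * (w * rY φ c b)) = q * (nn w c) * (w * φ a * w) * rY φ c b by group]
      by_cases ha : a = 0
      · subst ha
        rw [D.root.zero, mul_one, D.sq]
        have ht : h ^ e ∈ T := pow_mem hhT e
        convert mk2 _ (mul_mem hq (hnT _ ht)) b using 1
        group
      · obtain ⟨a', b', i, hi⟩ := D.rel_field a ha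
        have ht : h ^ i ∈ T := zpow_mem hhT i
        have hq' : q * rZ φ c w (-a') * ((nn w c) * h ^ i * (nn w c)⁻¹) ∈ P :=
          mul_mem (mul_mem hq (hZP _)) (hnT _ ht)
        convert SY3 _ hq' b' 0 b using 1
        rw [D.Z_zero, mul_one, hi, ← D.N_φ a']
        group
  have SN : ∀ g ∈ S, g * (nn w c) ∈ S := by
    rintro _ ⟨q, hq, r, rfl⟩
    rcases r with _ | a | ⟨a, b⟩
    · convert mk2 _ hq 0 using 1
      simp [rep, D.Y_zero]
    · simp only [rep, Sum.elim_inr, Sum.elim_inl]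
      by_cases ha : a = 0
      · subst ha
        rw [D.Y_zero, mul_one, mul_assoc]
        exact mk1 _ (mul_mem hq hn2)
      · obtain ⟨a', b', i, hi⟩ := D.rel_field a ha
        have e1 : (nn w c) * rY φ c a * (nn w c) = rY φ c a' * (c * h * c⁻¹) ^ i * (nn w c) * rY φ c b' := by
          simp only [nn, rY, conj_zpow]
          calc c * w * c⁻¹ * (c * φ a * c⁻¹) * (c * w * c⁻¹) = c * (w * φ a * w) * c⁻¹ := by group
            _ = _ := by rw [hi]; group
        have ht : (c * h * c⁻¹) ^ i ∈ T := by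
          rw [show c * h * c⁻¹ = (kk h c)⁻¹ by rw [kk, inv_inv]]
          exact zpow_mem (inv_mem hkT) i
        convert mk2 _ (mul_mem (mul_mem hq (hYP a')) (hTP ht)) b' using 1
        rw [mul_assoc q, e1]; group
    · have e1 : φ a * rZ φ c w b * (nn w c) = (nn w c) * rZ φ c w a * φ (-b) := by
        have f1 : rZ φ c w b * (nn w c) = (nn w c) * φ (-b) := by
          have := D.N_φ (-b)
          rw [neg_neg] at this
          rw [← this]; group
        have f2 : φ a * (nn w c) = (nn w c) * rZ φ c w a := by rw [← D.N_Z a]; group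
        calc φ a * rZ φ c w b * (nn w c) = φ a * (rZ φ c w b * (nn w c)) := by group
          _ = (φ a * (nn w c)) * φ (-b) := by rw [f1]; group
          _ = _ := by rw [f2]
      have e2 : (nn w c) * w * (nn w c) = (kk h c ^ e)⁻¹ * w * ((nn w c) * w) * (h ^ e)⁻¹ := by
        have hc1 : kk h c ^ e = c * (h ^ e)⁻¹ * c⁻¹ := by rw [kk, inv_pow, conj_pow]; group
        calc (nn w c) * w * (nn w c) = c * w * c⁻¹ * w * (w⁻¹ * kk h c ^ e * c) := by
              nth_rewrite 2 [D.N_eq]; simp only [nn]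
          _ = c * w * (c⁻¹ * kk h c ^ e * c) := by group
          _ = c * w * (h ^ e)⁻¹ := by rw [hc1]; group
          _ = (kk h c ^ e)⁻¹ * w * (nn w c) * w * (h ^ e)⁻¹ := by nth_rewrite 1 [D.c_eq]; rfl
          _ = _ := by group
      have hqm : q * ((kk h c ^ e)⁻¹ * w) ∈ P :=
        mul_mem hq (mul_mem (hTP (inv_mem (pow_mem hkT e))) hwP)
      have h1 : q * ((kk h c ^ e)⁻¹ * w) * ((nn w c) * w * φ 0 * rZ φ c w 0) * (h ^ e)⁻¹ ∈ S :=
        ST _ (mk3 _ hqm 0 0) _ (inv_mem (pow_mem hhT e))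
      obtain ⟨q₂, hq₂, r₂, hr₂⟩ := h1
      simp only [rep, Sum.elim_inr]
      have e3 : q * ((nn w c) * w * φ a * rZ φ c w b) * (nn w c) =
          q * ((kk h c ^ e)⁻¹ * w) * ((nn w c) * w * φ 0 * rZ φ c w 0) * (h ^ e)⁻¹ * rZ φ c w a * φ (-b) := by
        rw [D.root.zero, D.Z_zero, mul_one, mul_one]
        calc q * ((nn w c) * w * φ a * rZ φ c w b) * (nn w c) = q * ((nn w c) * w) * (φ a * rZ φ c w b * (nn w c)) := by group
          _ = q * ((nn w c) * w * (nn w c)) * rZ φ c w a * φ (-b) := by rw [e1]; group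
          _ = _ := by rw [e2]; group
      rw [e3]
      refine Sφ _ ?_ _
      rw [mul_assoc _ (h ^ e)⁻¹]
      have hth : (h ^ e)⁻¹ ∈ T := inv_mem (pow_mem hhT e)
      obtain ⟨-, -, mZ⟩ := D.move_left (inv_mem hth)
      obtain ⟨s, hs⟩ := mZ a
      rw [show (h ^ e)⁻¹ * rZ φ c w a = rZ φ c w s * (h ^ e)⁻¹ by
        rw [inv_inv] at hs
        rw [eq_mul_inv_iff_mul_eq, mul_assoc, hs]; group]
      rw [← mul_assoc]
      refine ST _ ?_ _ hth
      convert mk3 _ hqm 0 s using 1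
      rw [D.root.zero, D.Z_zero, mul_one, mul_one]; group
  have hall : ∀ g : G, g ∈ S := by
    set H := Subgroup.closure ({u, h, kk h c, w, (nn w c)} : Set G) with hH
    have hHtop : H = ⊤ := by
      rw [eq_top_iff, ← hgenG, Subgroup.closure_le]
      have inH : ∀ x ∈ ({u, h, kk h c, w, (nn w c)} : Set G), x ∈ H := fun x hx => Subgroup.subset_closure hx
      rintro x (rfl | rfl | rfl | rfl)
      · exact inH _ (by simp)
      · exact inH _ (by simp)
      · exact inH _ (by simp)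
      · rw [SetLike.mem_coe, D.c_eq]
        exact mul_mem (mul_mem (inv_mem (pow_mem (inH _ (by simp)) e)) (inH _ (by simp))) (inH _ (by simp))
    intro g
    have hg : g ∈ H := by rw [hHtop]; trivial
    induction hg using Subgroup.closure_induction_right with
    | one => exact mk1 _ (one_mem P)
    | mul_right x _ y hy ih =>
      rcases hy with rfl | rfl | rfl | rfl | rfl
      · rw [← D.root.one]; exact Sφ _ ih 1
      · exact ST _ ih _ hhT
      · exact ST _ ih _ hkT
      · exact Sw _ ih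
      · exact SN _ ih
    | mul_inv_cancel x _ y hy ih =>
      rcases hy with rfl | rfl | rfl | rfl | rfl
      · rw [← D.root.one, ← D.root.neg]; exact Sφ _ ih _
      · exact ST _ ih _ (inv_mem hhT)
      · exact ST _ ih _ (inv_mem hkT)
      · rw [show y⁻¹ = y * (h ^ e)⁻¹ by rw [← D.sq]; group, ← mul_assoc]
        exact ST _ (Sw _ ih) _ (inv_mem (pow_mem hhT e))
      · rw [show (nn w c)⁻¹ = (nn w c) * ((nn w c) * (nn w c))⁻¹ by group, D.N_sq, inv_inv, ← mul_assoc]
        exact ST _ (SN _ ih) _ (pow_mem hkT e)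
  let f : P × (Unit ⊕ (F ⊕ F × F)) → G := fun x => (x.1 : G) * rep x.2
  have hf : Function.Surjective f := fun g => by
    obtain ⟨q, hq, r, rfl⟩ := hall g
    exact ⟨(⟨q, hq⟩, r), rfl⟩
  haveI := hPf
  refine ⟨Finite.of_surjective f hf, (Nat.card_le_card_of_surjective f hf).trans ?_⟩
  rw [Nat.card_prod, Nat.card_sum, Nat.card_sum, Nat.card_prod, Nat.card_eq_fintype_card (α := F),
    Nat.card_eq_fintype_card (α := Unit), Fintype.card_unit]
  exact Nat.mul_le_mul_right _ hPc

end ThreeData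

end CfsgLib.SLPres
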