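import Cfsg.Agent.Lib.AltPres.Glue

/-!
# Bounded presentations: quotients and two generators
-/

set_option autoImplicit false

namespace CfsgLib.SLPres

universe u

/-- `T` is defined by at most `r` relations on `k` generators. -/
def Presents (T : Type u) [Group T] (k r : ℕ) : Prop :=
  ∃ (L : List (FreeGroup (Fin k))) (π : FreeGroup (Fin k) →* T),
    L.length ≤ r ∧ Function.Surjective π ∧ (∀ x ∈ L, π x = 1) ∧
      ∀ (G : Type) [Group G] (ψ : FreeGroup (Fin k) →* G), Function.Surjective ψ →
        (∀ x ∈ L, ψ x = 1) → Finite G ∧ Nat.card G ≤ Nat.card T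

theorem presents_of_presented {T : Type u} [Group T] [Finite T] {k r : ℕ}
    (h : ∃ rels : Finset (FreeGroup (Fin k)), rels.card ≤ r ∧
      Nonempty (PresentedGroup (↑rels : Set (FreeGroup (Fin k))) ≃* T)) : Presents T k r := by
  obtain ⟨rels, hc, ⟨e⟩⟩ := h
  set R : Set (FreeGroup (Fin k)) := ↑rels
  refine ⟨rels.toList, e.toMonoidHom.comp (PresentedGroup.mk R), by simpa using hc,
    e.surjective.comp (PresentedGroup.mk_surjective R), fun x hx => ?_, fun G _ ψ hψ hL => ?_⟩
  · simp [PresentedGroup.one_of_mem (show x ∈ R by simpa [R] using hx)]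
  · have hl : FreeGroup.lift (fun i => ψ (FreeGroup.of i)) = ψ := FreeGroup.ext_hom _ _ (fun i => by simp)
    have h1 : ∀ x ∈ R, FreeGroup.lift (fun i => ψ (FreeGroup.of i)) x = 1 := by
      intro x hx; rw [hl]; exact hL x (by simpa [R] using hx)
    have hs : Function.Surjective ((PresentedGroup.toGroup h1).comp e.symm.toMonoidHom) := by
      intro g
      obtain ⟨x, rfl⟩ := hψ g
      refine ⟨e (PresentedGroup.mk R x), ?_⟩
      have : (PresentedGroup.toGroup h1).comp (PresentedGroup.mk R) = ψ :=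
        FreeGroup.ext_hom _ _ fun i => by
          show PresentedGroup.toGroup h1 (PresentedGroup.of i) = _
          exact PresentedGroup.toGroup.of h1
      simpa using DFunLike.congr_fun this x
    exact ⟨Finite.of_surjective _ hs, Nat.card_le_card_of_surjective _ hs⟩

theorem Presents.factor {T : Type u} [Group T] [Finite T] {k : ℕ} {L : List (FreeGroup (Fin k))}
    {π : FreeGroup (Fin k) →* T} (hπ : Function.Surjective π) (hrel : ∀ r ∈ L, π r = 1)
    (hcard : ∀ (G : Type) [Group G] (ψ : FreeGroup (Fin k) →* G), Function.Surjective ψ →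
      (∀ r ∈ L, ψ r = 1) → Finite G ∧ Nat.card G ≤ Nat.card T)
    (G : Type) [Group G] (ψ : FreeGroup (Fin k) →* G) (hψ : ∀ r ∈ L, ψ r = 1) :
    ∃ θ : T →* G, ∀ x, θ (π x) = ψ x :=
  AltPres.factor_of_card L π hπ hrel hcard G ψ hψ

/-- Kill a cyclic normal subgroup by one more relation. -/
theorem Presents.quotient {T : Type u} [Group T] [Finite T] {k r : ℕ} (h : Presents T k r)
    (N : Subgroup T) [N.Normal] [IsCyclic N] : Presents (T ⧸ N) k (r + 1) := by
  obtain ⟨L, π, hL, hs, hr, hc⟩ := h
  obtain ⟨z, hz⟩ := IsCyclic.exists_generator (α := N)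
  obtain ⟨w, hw⟩ := hs (z : T)
  refine ⟨w :: L, (QuotientGroup.mk' N).comp π, by simpa using hL,
    (QuotientGroup.mk'_surjective N).comp hs, fun x hx => ?_, fun G _ ψ hψ hx => ?_⟩
  · rcases List.mem_cons.mp hx with rfl | hx
    · show (QuotientGroup.mk' N) (π x) = 1
      rw [hw]; exact (QuotientGroup.eq_one_iff _).mpr z.2
    · simp [hr x hx]
  · obtain ⟨θ, hθ⟩ := Presents.factor hs hr hc G ψ fun x h => hx x (List.mem_cons_of_mem _ h)
    have hN : N ≤ θ.ker := by
      intro y hy
      obtain ⟨i, hi⟩ := Subgroup.mem_zpowers_iff.mp (hz ⟨y, hy⟩)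
      have : y = (z : T) ^ i := by rw [← Subgroup.coe_zpow, hi]
      rw [MonoidHom.mem_ker, this, map_zpow, ← hw, hθ, hx w (List.mem_cons_self ..), one_zpow]
    have hsθ : Function.Surjective (QuotientGroup.lift N θ hN) := by
      intro g
      obtain ⟨x, rfl⟩ := hψ g
      exact ⟨QuotientGroup.mk' N (π x), by simpa using hθ x⟩
    exact ⟨Finite.of_surjective _ hsθ, Nat.card_le_card_of_surjective _ hsθ⟩

/-- Two generators cost two relations. -/
theorem Presents.two_generators {T : Type u} [Group T] [Finite T] {k r : ℕ} (h : Presents T k r)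
    {a b : T} (hab : Subgroup.closure ({a, b} : Set T) = ⊤) :
    ∃ rels : Finset (FreeGroup (Fin 2)), rels.card ≤ r + 2 ∧
      Nonempty (PresentedGroup (↑rels : Set (FreeGroup (Fin 2))) ≃* T) := by
  classical
  obtain ⟨L, π, hL, hs, hr, hc⟩ := h
  set φ := FreeGroup.lift ![a, b] with hφ
  have hφs : Function.Surjective φ := by
    rw [← MonoidHom.range_eq_top, eq_top_iff, ← hab, Subgroup.closure_le]
    rintro x (rfl | rfl)
    · exact ⟨.of 0, by simp [hφ]⟩
    · exact ⟨.of 1, by simp [hφ]⟩
  choose w hw using fun i : Fin k => hφs (π (.of i))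
  obtain ⟨wa, hwa⟩ := hs a
  obtain ⟨wb, hwb⟩ := hs b
  set sub := FreeGroup.lift w with hsub
  have hsubπ : φ.comp sub = π := FreeGroup.ext_hom _ _ fun i => by simp [hsub, hw]
  have happ : ∀ x, φ (sub x) = π x := fun x => DFunLike.congr_fun hsubπ x
  let M : List (FreeGroup (Fin 2)) := .of 0 * (sub wa)⁻¹ :: .of 1 * (sub wb)⁻¹ :: L.map sub
  refine ⟨M.toFinset, (List.toFinset_card_le M).trans (by simp [M]; omega), ?_⟩
  set R : Set (FreeGroup (Fin 2)) := ↑M.toFinset with hR
  have hmem : ∀ x ∈ M, PresentedGroup.mk R x = 1 :=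
    fun x hx => PresentedGroup.one_of_mem (by simp only [hR, List.coe_toFinset]; exact hx)
  have hlift : ∀ x ∈ R, FreeGroup.lift ![a, b] x = 1 := by
    intro x hx
    simp only [hR, List.coe_toFinset, Set.mem_setOf_eq, M, List.mem_cons, List.mem_map] at hx
    rw [← hφ]
    rcases hx with rfl | rfl | ⟨y, hy, rfl⟩
    · rw [map_mul, map_inv, happ, hwa]; simp [hφ]
    · rw [map_mul, map_inv, happ, hwb]; simp [hφ]
    · rw [happ, hr y hy]
  set ψ := (PresentedGroup.mk R).comp sub
  have hψ : Function.Surjective ψ := by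
    rw [← MonoidHom.range_eq_top, eq_top_iff, ← PresentedGroup.closure_range_of R, Subgroup.closure_le]
    rintro _ ⟨i, rfl⟩
    fin_cases i
    · refine ⟨wa, ?_⟩
      have := hmem (.of 0 * (sub wa)⁻¹) (List.mem_cons_self ..)
      rw [map_mul, map_inv, mul_inv_eq_one] at this
      exact this.symm
    · refine ⟨wb, ?_⟩
      have := hmem (.of 1 * (sub wb)⁻¹) (List.mem_cons_of_mem _ (List.mem_cons_self ..))
      rw [map_mul, map_inv, mul_inv_eq_one] at this
      exact this.symm
  obtain ⟨hfin, hle⟩ := hc (PresentedGroup R) ψ hψ fun x hx => hmem _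
    (List.mem_cons_of_mem _ (List.mem_cons_of_mem _ (List.mem_map.mpr ⟨x, hx, rfl⟩)))
  let f : PresentedGroup R →* T := PresentedGroup.toGroup hlift
  have hfs : Function.Surjective f := by
    intro t
    obtain ⟨x, rfl⟩ := hφs t
    refine ⟨PresentedGroup.mk R x, ?_⟩
    have : f.comp (PresentedGroup.mk R) = φ := FreeGroup.ext_hom _ _ fun i => by
      show f (PresentedGroup.of i) = _
      rw [PresentedGroup.toGroup.of hlift]; simp [hφ]
    exact DFunLike.congr_fun this x
  exact ⟨MulEquiv.ofBijective f ((Nat.bijective_iff_surjective_and_card _).mpr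
    ⟨hfs, le_antisymm hle (Nat.card_le_card_of_surjective f hfs)⟩)⟩

end CfsgLib.SLPres
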