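import Cfsg.Agent.Lib.SLPres.ThreeRels

/-!
# The standard generators of `SL₃(F)`
-/

set_option autoImplicit false

namespace CfsgLib.SLPres

open Polynomial Matrix
open scoped MatrixGroups

variable {F : Type*} [Field F]

/-- The first root element in dimension three. -/
def rootA (t : F) : SL(3, F) := ⟨!![1, t, 0; 0, 1, 0; 0, 0, 1], by simp [Matrix.det_fin_three]⟩

/-- The first coroot element in dimension three. -/
def torA (a : F) (ha : a ≠ 0) : SL(3, F) :=
  ⟨!![a, 0, 0; 0, a⁻¹, 0; 0, 0, 1], by simp [Matrix.det_fin_three, ha]⟩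

/-- The first Weyl element in dimension three. -/
def weylA : SL(3, F) := ⟨!![0, 1, 0; -1, 0, 0; 0, 0, 1], by simp [Matrix.det_fin_three]⟩

/-- The coordinate cycle. -/
def cycA : SL(3, F) := ⟨!![0, 0, 1; 1, 0, 0; 0, 1, 0], by simp [Matrix.det_fin_three]⟩

@[simp] theorem coe_rootA (t : F) :
    (rootA t : Matrix (Fin 3) (Fin 3) F) = !![1, t, 0; 0, 1, 0; 0, 0, 1] := rfl

@[simp] theorem coe_torA (a : F) (ha : a ≠ 0) :
    (torA a ha : Matrix (Fin 3) (Fin 3) F) = !![a, 0, 0; 0, a⁻¹, 0; 0, 0, 1] := rfl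

@[simp] theorem coe_weylA :
    ((weylA : SL(3, F)) : Matrix (Fin 3) (Fin 3) F) = !![0, 1, 0; -1, 0, 0; 0, 0, 1] := rfl

@[simp] theorem coe_cycA :
    ((cycA : SL(3, F)) : Matrix (Fin 3) (Fin 3) F) = !![0, 0, 1; 1, 0, 0; 0, 1, 0] := rfl

theorem cycA_cube : (cycA : SL(3, F)) * cycA * cycA = 1 := by
  ext i j; fin_cases i <;> fin_cases j <;> simp

theorem torA_pow (a : F) (ha : a ≠ 0) (k : ℕ) : torA a ha ^ k = torA (a ^ k) (pow_ne_zero k ha) := by
  induction k with
  | zero => ext i j; fin_cases i <;> fin_cases j <;> simp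
  | succ n ih =>
    rw [pow_succ, ih]
    ext i j; fin_cases i <;> fin_cases j <;> simp [pow_succ, mul_comm]

/-- The second torus element. -/
def torB (a : F) (ha : a ≠ 0) : SL(3, F) :=
  ⟨!![1, 0, 0; 0, a⁻¹, 0; 0, 0, a], by simp [Matrix.det_fin_three, ha]⟩

@[simp] theorem coe_torB (a : F) (ha : a ≠ 0) :
    (torB a ha : Matrix (Fin 3) (Fin 3) F) = !![1, 0, 0; 0, a⁻¹, 0; 0, 0, a] := rfl

theorem kk_model (μ : F) (hμ : μ ≠ 0) :
    ((cycA * torA μ hμ * cycA⁻¹)⁻¹ : SL(3, F)) = torB μ hμ := by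
  rw [inv_eq_iff_mul_eq_one, show (cycA : SL(3, F))⁻¹ = cycA * cycA from
    inv_eq_of_mul_eq_one_left cycA_cube]
  ext i j; fin_cases i <;> fin_cases j <;> simp [hμ]

variable [Fintype F]

set_option maxHeartbeats 2000000 in
theorem threeData_model (μ : F) (hμ : μ ≠ 0) (hgen : ∀ t : F, t ≠ 0 → ∃ i : ℕ, t = μ ^ i) (e : ℕ)
    (he : μ ^ e = -1) :
    ThreeData (rootA 1) (torA μ hμ) weylA (cycA : SL(3, F)) rootA μ e where
  mu_ne := hμ
  mu_gen := hgen
  mu_e := he
  root := by
    refine ⟨fun s t => ?_, rfl, fun t => ?_⟩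
    · ext i j; fin_cases i <;> fin_cases j <;> simp [add_comm]
    · rw [kk_model, mul_inv_eq_iff_eq_mul]
      ext i j; fin_cases i <;> fin_cases j <;> simp [hμ, mul_comm] <;> field_simp
  scale t := by
    rw [mul_inv_eq_iff_eq_mul]
    ext i j; fin_cases i <;> fin_cases j <;> simp [hμ] <;> field_simp
  comm := by
    rw [kk_model]
    refine (commute_iff_eq _ _).mpr ?_
    ext i j; fin_cases i <;> fin_cases j <;> simp [mul_comm]
  inv := by
    rw [mul_inv_eq_iff_eq_mul]; symm; rw [inv_mul_eq_iff_eq_mul]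
    ext i j; fin_cases i <;> fin_cases j <;> simp [hμ]
  sq := by
    rw [torA_pow]
    ext i j; fin_cases i <;> fin_cases j <;> simp [he]
  rel := by
    rw [torA_pow]
    ext i j; fin_cases i <;> fin_cases j <;> simp [he]
  cube := cycA_cube
  mono := by
    rw [torA_pow, show (cycA : SL(3, F))⁻¹ = cycA * cycA from
      inv_eq_of_mul_eq_one_left cycA_cube, mul_inv_eq_iff_eq_mul]
    ext i j; fin_cases i <;> fin_cases j <;> simp [he]
  tor := by
    rw [kk_model, mul_inv_eq_iff_eq_mul]; symm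
    rw [mul_assoc, inv_mul_eq_iff_eq_mul]
    ext i j; fin_cases i <;> fin_cases j <;> simp [hμ]
  bil i _ := by
    have hc : (cycA : SL(3, F))⁻¹ = cycA * cycA := inv_eq_of_mul_eq_one_left cycA_cube
    have hw : (weylA : SL(3, F))⁻¹ = weylA * weylA * weylA := by
      refine inv_eq_of_mul_eq_one_left ?_
      ext i j; fin_cases i <;> fin_cases j <;> simp
    rw [_root_.mul_inv_rev, hc, hw]
    ext a b; fin_cases a <;> fin_cases b <;> simp

set_option maxHeartbeats 1000000 in
theorem stdHom_three_surjective (μ : F) (hμ : μ ≠ 0) (p : ℕ) [Fact p.Prime] [Algebra (ZMod p) F]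
    (hν : ∀ t : F, ∃ f : (ZMod p)[X], aeval (μ * μ) f = t) :
    Function.Surjective (FreeGroup.lift ![rootA 1, torA μ hμ, weylA, (cycA : SL(3, F))]) := by
  rw [← MonoidHom.range_eq_top]
  set π := FreeGroup.lift ![rootA 1, torA μ hμ, weylA, (cycA : SL(3, F))]
  have hg : ∀ i, ![rootA 1, torA μ hμ, weylA, (cycA : SL(3, F))] i ∈ π.range :=
    fun i => ⟨FreeGroup.of i, by simp [π]⟩
  have R : IsRoot rootA (rootA 1) (torA μ hμ) (μ * μ) := by
    refine ⟨fun s t => ?_, rfl, fun t => ?_⟩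
    · ext i j; fin_cases i <;> fin_cases j <;> simp [add_comm]
    · rw [mul_inv_eq_iff_eq_mul]
      ext i j; fin_cases i <;> fin_cases j <;> simp [hμ] <;> field_simp
  have hA : ∀ t, rootA t ∈ π.range := by
    intro t
    obtain ⟨f, rfl⟩ := hν t
    exact ⟨wv p (FreeGroup.of 0) (FreeGroup.of 1) f, by
      rw [map_wv]; simpa [π] using R.wv_eq p f⟩
  have hw : (weylA : SL(3, F)) ∈ π.range := hg 2
  have hc : (cycA : SL(3, F)) ∈ π.range := hg 3
  refine Classical.eq_top_of_transvection_mem _ fun i j hij x => ?_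
  have hA' : ∀ t, weylA * rootA t * (weylA : SL(3, F))⁻¹ ∈ π.range :=
    fun t => mul_mem (mul_mem hw (hA t)) (inv_mem hw)
  have conjc : ∀ g, g ∈ π.range → cycA * g * (cycA : SL(3, F))⁻¹ ∈ π.range :=
    fun g hg' => mul_mem (mul_mem hc hg') (inv_mem hc)
  have hc3 : (cycA : SL(3, F))⁻¹ = cycA * cycA := inv_eq_of_mul_eq_one_left cycA_cube
  have hw3 : (weylA : SL(3, F))⁻¹ = weylA * weylA * weylA := by
    refine inv_eq_of_mul_eq_one_left ?_
    ext i j; fin_cases i <;> fin_cases j <;> simp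
  fin_cases i <;> fin_cases j
  · exact absurd rfl hij
  · convert hA x using 1
    ext a b; fin_cases a <;> fin_cases b <;> simp [Matrix.SpecialLinearGroup.transvection_coe]
  · convert conjc _ (conjc _ (hA' (-x))) using 1
    rw [hc3, hw3]
    ext a b; fin_cases a <;> fin_cases b <;> simp [Matrix.SpecialLinearGroup.transvection_coe]
  · convert hA' (-x) using 1
    rw [hw3]
    ext a b; fin_cases a <;> fin_cases b <;> simp [Matrix.SpecialLinearGroup.transvection_coe]
  · exact absurd rfl hij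
  · convert conjc _ (hA x) using 1
    rw [hc3]
    ext a b; fin_cases a <;> fin_cases b <;> simp [Matrix.SpecialLinearGroup.transvection_coe]
  · convert conjc _ (conjc _ (hA x)) using 1
    rw [hc3]
    ext a b; fin_cases a <;> fin_cases b <;> simp [Matrix.SpecialLinearGroup.transvection_coe]
  · convert conjc _ (hA' (-x)) using 1
    rw [hc3, hw3]
    ext a b; fin_cases a <;> fin_cases b <;> simp [Matrix.SpecialLinearGroup.transvection_coe]
  · exact absurd rfl hij

/-- `SL₃(F)` has a presentation on four generators with fourteen relations. -/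
theorem three_presentation :
    ∃ rels : Finset (FreeGroup (Fin 4)), rels.card ≤ 14 ∧
      Nonempty (PresentedGroup (↑rels : Set (FreeGroup (Fin 4))) ≃* SL(3, F)) := by
  classical
  obtain ⟨p, hp⟩ := CharP.exists F
  haveI : Fact p.Prime := ⟨CharP.char_is_prime F p⟩
  letI := ZMod.algebra F p
  obtain ⟨μ, hμ, hμq, hord, hgen⟩ := exists_primitive (F := F)
  obtain ⟨e, he⟩ := hgen (-1) (by simp)
  obtain ⟨L, hL, hT, hG⟩ := exists_rels_three p hμ hgen e he.symm
  have hpoly := exists_poly_sq p hgen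
  set π := FreeGroup.lift ![rootA 1, torA μ hμ, weylA, (cycA : SL(3, F))] with hπ
  have hsurj := stdHom_three_surjective μ hμ p hpoly
  have hrel : ∀ r ∈ L, π r = 1 := by
    refine hT _ π rootA ?_
    simpa [hπ] using threeData_model μ hμ hgen e he.symm
  set R : Set (FreeGroup (Fin 4)) := ↑L.toFinset with hR
  refine ⟨L.toFinset, (List.toFinset_card_le L).trans hL, ?_⟩
  have hmem : ∀ r ∈ L, PresentedGroup.mk R r = 1 :=
    fun r hr => PresentedGroup.one_of_mem (by simp [hR, hr])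
  obtain ⟨φ, D⟩ := hG (PresentedGroup R) (PresentedGroup.mk R) hmem
  have hcl : Subgroup.closure ({PresentedGroup.mk R (.of 0), PresentedGroup.mk R (.of 1),
      PresentedGroup.mk R (.of 2), PresentedGroup.mk R (.of 3)} : Set (PresentedGroup R)) = ⊤ := by
    rw [eq_top_iff, ← PresentedGroup.closure_range_of R, Subgroup.closure_le]
    rintro _ ⟨i, rfl⟩
    refine Subgroup.subset_closure ?_
    fin_cases i
    · exact Or.inl rfl
    · exact Or.inr (Or.inl rfl)
    · exact Or.inr (Or.inr (Or.inl rfl))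
    · exact Or.inr (Or.inr (Or.inr rfl))
  obtain ⟨hfin, hle⟩ := D.card_le_three p hpoly hcl
  have hlift : ∀ r ∈ R, FreeGroup.lift ![rootA 1, torA μ hμ, weylA, (cycA : SL(3, F))] r = 1 :=
    fun r hr => hrel r (by simpa [hR] using hr)
  let f : PresentedGroup R →* SL(3, F) := PresentedGroup.toGroup hlift
  have hfs : Function.Surjective f := by
    intro t
    obtain ⟨x, rfl⟩ := hsurj t
    refine ⟨PresentedGroup.mk R x, ?_⟩
    have : f.comp (PresentedGroup.mk R) = π := FreeGroup.ext_hom _ _ fun i => by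
      show f (PresentedGroup.of i) = _
      rw [PresentedGroup.toGroup.of hlift]; simp [hπ]
    exact DFunLike.congr_fun this x
  refine ⟨MulEquiv.ofBijective f ((Nat.bijective_iff_surjective_and_card _).mpr ⟨hfs, ?_⟩)⟩
  refine le_antisymm (hle.trans (le_of_eq ?_)) (Nat.card_le_card_of_surjective f hfs)
  have h := Classical.sub_one_mul_card_SL (F := F) (n := 3) (by omega)
  have hq : 1 < Fintype.card F := Fintype.one_lt_card
  refine (Nat.eq_of_mul_eq_mul_left (show 0 < Fintype.card F - 1 by omega) ?_).symm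
  rw [h, Fin.prod_univ_three]
  obtain ⟨m, hm⟩ := Nat.exists_eq_add_of_le (show 1 ≤ Fintype.card F by omega)
  rw [hm, Fin.val_zero, Fin.val_one, Fin.val_two, pow_zero, pow_one, Nat.add_sub_cancel_left]
  have e1 : (1 + m) ^ 3 - 1 = m * (m * m + 3 * m + 3) := by
    rw [show (1 + m) ^ 3 = 1 + m * (m * m + 3 * m + 3) by ring, Nat.add_sub_cancel_left]
  have e2 : (1 + m) ^ 3 - (1 + m) = (1 + m) * (m * (m + 2)) := by
    rw [show (1 + m) ^ 3 = (1 + m) + (1 + m) * (m * (m + 2)) by ring, Nat.add_sub_cancel_left]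
  have e3 : (1 + m) ^ 3 - (1 + m) ^ 2 = (1 + m) ^ 2 * m := by
    rw [show (1 + m) ^ 3 = (1 + m) ^ 2 + (1 + m) ^ 2 * m by ring, Nat.add_sub_cancel_left]
  rw [e1, e2, e3]
  ring

end CfsgLib.SLPres
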