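import Cfsg.Agent.Lib.SLPres.Comm

/-!
# Nine relations for `SL₂(q)` and `PSL₂(q)`, `q` odd
-/

set_option autoImplicit false

namespace CfsgLib.SLPres

open Polynomial
open scoped MatrixGroups

variable {F : Type*} [Field F] [Fintype F]

/-- What the relations say in a group. -/
structure OddData (G : Type*) [Group G] (u h w : G) (φ : F → G) (μ : F) (e k₁ k₂ : ℤ) : Prop where
  root : IsRoot φ u h (μ * μ)
  inv : w * h * w⁻¹ = h⁻¹
  sq : w * w = h ^ e
  rel_one : w * φ 1 * w = φ (-1) * h ^ k₁ * w * φ (-1)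
  rel_gen : w * φ μ * w = φ (-μ⁻¹) * h ^ k₂ * w * φ (-μ⁻¹)

theorem OddData.card_le {G : Type*} [Group G] {u h w : G} {φ : F → G} {μ : F} {e k₁ k₂ : ℤ}
    (D : OddData G u h w φ μ e k₁ k₂) (hμ : μ ≠ 0)
    (hgen : ∀ t : F, t ≠ 0 → ∃ i : ℕ, t = μ ^ i) (M : ℕ) (hM : 0 < M) (hh : h ^ M = 1)
    (hcl : Subgroup.closure ({u, h, w} : Set G) = ⊤) :
    Finite G ∧ Nat.card G ≤ M * Fintype.card F * (1 + Fintype.card F) := by
  refine SLPres.card_le u h w φ (μ * μ) (mul_ne_zero hμ hμ) M hM hcl D.root.add D.root.one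
    D.root.conj hh D.inv ⟨e, D.sq⟩ fun t ht => ?_
  obtain ⟨i, rfl⟩ := hgen t ht
  rcases Nat.even_or_odd' i with ⟨j, rfl | rfl⟩
  · have := rel_orbit φ h w (μ * μ) (mul_ne_zero hμ hμ) D.root.conj D.inv D.rel_one (j : ℤ)
    rw [mul_one, zpow_natCast] at this
    rw [show μ ^ (2 * j) = (μ * μ) ^ j by rw [pow_mul, pow_two]]
    exact ⟨_, _, _, this⟩
  · have := rel_orbit φ h w (μ * μ) (mul_ne_zero hμ hμ) D.root.conj D.inv D.rel_gen (j : ℤ)
    rw [zpow_natCast] at this
    rw [show μ ^ (2 * j + 1) = (μ * μ) ^ j * μ by rw [pow_succ, pow_mul, pow_two]]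
    exact ⟨_, _, _, this⟩

/-- With parameters `(0, 0, -1)` the torus has half the order. -/
theorem OddData.pow_half {G : Type*} [Group G] {u h w : G} {φ : F → G} {μ : F}
    (D : OddData G u h w φ μ 0 0 (-1)) (hμ : μ ≠ 0) (N : ℕ) (hN : μ ^ N = -1) : h ^ N = 1 := by
  have hw2 : w * w = 1 := by rw [D.sq, zpow_zero]
  have r := D.rel_one
  rw [zpow_zero, mul_one] at r
  -- inverting the first relation
  have hinv : w * φ (-1) * w = φ 1 * w * φ 1 := by
    have hw' : w⁻¹ = w := inv_eq_of_mul_eq_one_right hw2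
    have := congrArg (·⁻¹) r
    simp only [mul_inv_rev, hw', ← D.root.neg, neg_neg] at this
    rwa [← mul_assoc, ← mul_assoc] at this
  suffices h ^ (-(N : ℤ)) = 1 by rwa [zpow_neg, inv_eq_one, zpow_natCast] at this
  rcases Nat.even_or_odd' N with ⟨j, e | e⟩
  · have h1 := rel_orbit φ h w (μ * μ) (mul_ne_zero hμ hμ) D.root.conj D.inv D.rel_one (j : ℤ)
    have e1 : (μ * μ) ^ j = -1 := by rw [← pow_two, ← pow_mul, ← e, hN]
    rw [mul_one, zpow_natCast, e1, zpow_neg, zpow_natCast, e1] at h1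
    simp only [inv_neg, inv_one, neg_mul_neg, one_mul] at h1
    rw [hinv] at h1
    have h2 : h ^ ((0 : ℤ) - 2 * (j : ℤ)) = 1 := by
      have := mul_right_cancel (mul_right_cancel h1)
      rw [eq_comm, mul_eq_left] at this
      exact this
    rw [e]; push_cast; rwa [zero_sub] at h2
  · have h1 := rel_orbit φ h w (μ * μ) (mul_ne_zero hμ hμ) D.root.conj D.inv D.rel_gen (j : ℤ)
    have e1 : (μ * μ) ^ j * μ = -1 := by rw [← pow_two, ← pow_mul, ← pow_succ, ← e, hN]
    have e2 : ((μ * μ) ^ j)⁻¹ * -μ⁻¹ = 1 := by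
      rw [mul_neg, ← mul_inv, e1, inv_neg, inv_one, neg_neg]
    rw [zpow_natCast, e1, zpow_neg, zpow_natCast, e2, hinv] at h1
    have h2 : h ^ ((-1 : ℤ) - 2 * (j : ℤ)) = 1 := by
      have := mul_right_cancel (mul_right_cancel h1)
      rw [eq_comm, mul_eq_left] at this
      exact this
    rw [e]; push_cast; rwa [neg_add_rev, ← sub_eq_add_neg]

variable (p : ℕ) [Fact p.Prime] [Algebra (ZMod p) F]

/-- The relations with given exponents, and what they entail. -/
theorem exists_rels (hp2 : p ≠ 2) (μ : F) (hμ : μ ≠ 0)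
    (hgen : ∀ t : F, t ≠ 0 → ∃ i : ℕ, t = μ ^ i) (e k₁ k₂ : ℤ) :
    ∃ L : List (FreeGroup (Fin 3)), L.length ≤ 9 ∧
      (∀ (T : Type _) [Group T] (π : FreeGroup (Fin 3) →* T) (φ : F → T),
        OddData T (π (.of 0)) (π (.of 1)) (π (.of 2)) φ μ e k₁ k₂ → ∀ r ∈ L, π r = 1) ∧
      ∀ (G : Type) [Group G] (ψ : FreeGroup (Fin 3) →* G), (∀ r ∈ L, ψ r = 1) →
        ∃ φ : F → G, OddData G (ψ (.of 0)) (ψ (.of 1)) (ψ (.of 2)) φ μ e k₁ k₂ := by
  haveI : CharP F p := charP_of_injective_algebraMap (algebraMap (ZMod p) F).injective p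
  set U : FreeGroup (Fin 3) := .of 0
  set H : FreeGroup (Fin 3) := .of 1
  set W : FreeGroup (Fin 3) := .of 2
  obtain ⟨C, hC, hCT, hCG⟩ := exists_comm_rels p hp2 μ hgen U H
  have hpoly := exists_poly_sq p hgen
  obtain ⟨g, hg⟩ := hpoly μ
  obtain ⟨c, hc⟩ := hpoly (-μ⁻¹)
  refine ⟨[U ^ p, wv p U H (minpoly (ZMod p) (μ * μ)), W * H * W⁻¹ * H, W * W * (H ^ e)⁻¹,
    W * U * W * (U⁻¹ * H ^ k₁ * W * U⁻¹)⁻¹,
    W * wv p U H g * W * (wv p U H c * H ^ k₂ * W * wv p U H c)⁻¹] ++ C,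
    by simp only [List.length_append, List.length_cons, List.length_nil]; omega,
    fun T _ π φ D x hx => ?_, fun G _ ψ hL => ?_⟩
  · have R := D.root
    have n1 : φ (-1) = (π U)⁻¹ := by rw [R.neg, R.one]
    simp only [List.mem_append, List.mem_cons, List.not_mem_nil, or_false] at hx
    rcases hx with (rfl | rfl | rfl | rfl | rfl | rfl) | hx
    · rw [map_pow, ← R.one, R.pow, CharP.cast_eq_zero, zero_mul, R.zero]
    · rw [map_wv, R.wv_eq, minpoly.aeval, R.zero]
    · rw [map_mul, map_mul, map_mul, map_inv, D.inv, inv_mul_cancel]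
    · rw [map_mul, map_mul, map_inv, map_zpow, D.sq, mul_inv_cancel]
    · simp only [map_mul, map_inv, map_zpow, mul_inv_eq_one]
      rw [← n1, ← R.one]; exact D.rel_one
    · simp only [map_mul, map_inv, map_zpow, mul_inv_eq_one, map_wv, R.wv_eq, hg, hc]
      exact D.rel_gen
    · exact hCT T π φ R x hx
  · have hmem : ∀ r ∈ [U ^ p, wv p U H (minpoly (ZMod p) (μ * μ)), W * H * W⁻¹ * H,
        W * W * (H ^ e)⁻¹, W * U * W * (U⁻¹ * H ^ k₁ * W * U⁻¹)⁻¹,
        W * wv p U H g * W * (wv p U H c * H ^ k₂ * W * wv p U H c)⁻¹], ψ r = 1 :=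
      fun r hr => hL r (List.mem_append_left _ hr)
    simp only [List.forall_mem_cons, List.not_mem_nil, IsEmpty.forall_iff, implies_true, and_true,
      map_mul, map_inv, map_zpow, map_pow, map_wv, mul_inv_eq_one] at hmem
    obtain ⟨hup, hm, hwh, hw2, r1, r2⟩ := hmem
    have hcomm := hCG G ψ (fun r hr => hL r (List.mem_append_right _ hr)) hm
    obtain ⟨φ, hadd, hone, hconj, hwv⟩ :=
      exists_additive_hom p (ψ U) (ψ H) hcomm hup (μ * μ) hpoly hm
    have R : IsRoot φ (ψ U) (ψ H) (μ * μ) := ⟨hadd, hone, hconj⟩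
    refine ⟨φ, R, eq_inv_of_mul_eq_one_left hwh, hw2, ?_, ?_⟩
    · rw [R.neg, R.one]; exact r1
    · rw [← hwv, ← hwv, hg, hc] at r2; exact r2

/-- Both presentations in odd characteristic. -/
theorem odd_presentations (hp2 : p ≠ 2) :
    (∃ rels : Finset (FreeGroup (Fin 3)), rels.card ≤ 9 ∧
      Nonempty (PresentedGroup (↑rels : Set (FreeGroup (Fin 3))) ≃* SL(2, F))) ∧
    (∃ rels : Finset (FreeGroup (Fin 3)), rels.card ≤ 9 ∧
      Nonempty (PresentedGroup (↑rels : Set (FreeGroup (Fin 3))) ≃*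
        Matrix.ProjectiveSpecialLinearGroup (Fin 2) F)) := by
  classical
  haveI : CharP F p := charP_of_injective_algebraMap (algebraMap (ZMod p) F).injective p
  obtain ⟨μ, hμ, hμq, hord, hgen⟩ := exists_primitive (F := F)
  have h2 : (2 : F) ≠ 0 := Ring.two_ne_zero (by rw [ringChar.eq F p]; exact hp2)
  have hodd : Fintype.card F % 2 = 1 :=
    FiniteField.odd_card_of_char_ne_two (by rw [ringChar.eq F p]; exact hp2)
  have hq1 : 1 < Fintype.card F := Fintype.one_lt_card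
  set N := (Fintype.card F - 1) / 2 with hN
  have hNq : 2 * N = Fintype.card F - 1 := by omega
  have hμN : μ ^ N = -1 := by
    have h1 : μ ^ N * μ ^ N = 1 := by rw [← pow_add, ← two_mul, hNq, hμq]
    rcases mul_self_eq_one_iff.mp h1 with h | h
    · have := Nat.le_of_dvd (by omega) (hord N h); omega
    · exact h
  have hμN1 : μ ^ (N - 1) = -μ⁻¹ := by
    have : μ ^ (N - 1) * μ = -1 := by rw [← pow_succ, Nat.sub_add_cancel (by omega), hμN]
    rw [eq_mul_inv_iff_mul_eq₀ hμ |>.mpr this, neg_one_mul]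
  have hpoly := exists_poly_sq p hgen
  have hsurj := stdHom_surjective p μ hμ hpoly
  have R := isRoot_rootU μ hμ
  have hcSL : Nat.card SL(2, F) = Fintype.card F * ((Fintype.card F - 1) * (Fintype.card F + 1)) := by
    rw [SL2.card_SL_two', Nat.card_eq_fintype_card]
  have hWW : (weylW : SL(2, F)) * weylW = torD μ hμ ^ N := by
    rw [weylW_sq, torD_pow]; exact (torD_congr _ _ hμN.symm)
  have r1 : (weylW : SL(2, F)) * rootU 1 * weylW = rootU (-1) * torD μ hμ ^ N * weylW * rootU (-1) := by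
    rw [bruhat_identity 1 (-1) (by simp) (mul_one _), torD_pow, torD_congr _ _ hμN]
  have r2 : (weylW : SL(2, F)) * rootU μ * weylW =
      rootU (-μ⁻¹) * torD μ hμ ^ (N - 1) * weylW * rootU (-μ⁻¹) := by
    rw [bruhat_identity μ (-μ⁻¹) (by simpa using hμ) (by rw [neg_mul, inv_mul_cancel₀ hμ]),
      torD_pow, torD_congr _ _ hμN1]
  constructor
  · obtain ⟨L, hL, hT, hG⟩ := exists_rels p hp2 μ hμ hgen (N : ℤ) (N : ℤ) ((N - 1 : ℕ) : ℤ)
    refine presented_of_card L (stdHom μ hμ) hsurj (hT _ _ rootU ?_) (fun G _ ψ hψ hr => ?_) 9 hL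
    · simp only [stdHom_u, stdHom_h, stdHom_w]
      exact ⟨R, weylW_torD μ hμ, by rw [zpow_natCast, hWW], by rw [zpow_natCast, r1],
        by rw [zpow_natCast, r2]⟩
    · obtain ⟨φ, D⟩ := hG G ψ hr
      have hh : ψ (.of 1) ^ (2 * N) = 1 := by
        set h := ψ (.of 1)
        set w := ψ (.of 2)
        have h1 : w * h ^ (N : ℤ) * w⁻¹ = h ^ (N : ℤ) := by rw [← D.sq]; group
        rw [← conj_zpow, D.inv, inv_zpow', zpow_neg, inv_eq_iff_mul_eq_one, ← zpow_add] at h1
        rw [two_mul, ← zpow_natCast, Nat.cast_add]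
        exact h1
      obtain ⟨hfin, hle⟩ := D.card_le hμ hgen (2 * N) (by omega) hh (closure_of_surjective ψ hψ)
      refine ⟨hfin, hle.trans (le_of_eq ?_)⟩
      rw [hcSL, hNq]; ring
  · obtain ⟨L, hL, hT, hG⟩ := exists_rels p hp2 μ hμ hgen 0 0 (-1)
    have hNimg : SL2.proj (torD μ hμ) ^ N = 1 := by
      rw [← map_pow, SL2.proj_eq_one_iff, torD_pow, SL2.mem_center_iff_not_nonScalar,
        SL2.nonScalar_iff]
      simp [hμN]
    refine presented_of_card L (SL2.proj.comp (stdHom μ hμ)) (SL2.proj_surjective.comp hsurj)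
      (hT _ _ (fun t => SL2.proj (rootU t)) ?_) (fun G _ ψ hψ hr => ?_) 9 hL
    · simp only [MonoidHom.comp_apply, stdHom_u, stdHom_h, stdHom_w]
      refine ⟨R.map SL2.proj, ?_, ?_, ?_, ?_⟩
      · rw [← map_inv, ← map_mul, ← map_mul, weylW_torD, map_inv]
      · rw [← map_mul, hWW, map_pow, hNimg, zpow_zero]
      · rw [← map_mul, ← map_mul, r1, map_mul, map_mul, map_mul, map_pow, hNimg, zpow_zero]
      · rw [← map_mul, ← map_mul, r2, map_mul, map_mul, map_mul, map_pow, zpow_neg_one]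
        congr 3
        refine eq_inv_of_mul_eq_one_left ?_
        rw [← pow_succ, Nat.sub_add_cancel (by omega), hNimg]
    · obtain ⟨φ, D⟩ := hG G ψ hr
      obtain ⟨hfin, hle⟩ := D.card_le hμ hgen N (by omega) (D.pow_half hμ N hμN)
        (closure_of_surjective ψ hψ)
      refine ⟨hfin, hle.trans (le_of_eq ?_)⟩
      have hP := SL2.card_PSL (F := F)
      rw [Nat.card_eq_fintype_card (α := F),
        show Nat.gcd 2 (Fintype.card F - 1) = 2 by
          rw [← hNq]; exact Nat.gcd_eq_left (dvd_mul_right 2 N), ← hNq] at hP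
      have : 2 * (N * Fintype.card F * (1 + Fintype.card F)) =
          2 * Nat.card (Matrix.ProjectiveSpecialLinearGroup (Fin 2) F) := by rw [hP]; ring
      omega

end CfsgLib.SLPres
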