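import Cfsg.Agent.Lib.SLPres.Shift
import Cfsg.Agent.Lib.SLPres.Bruhat
import Cfsg.Agent.Lib.SLPres.Field
import Cfsg.Agent.Lib.SL2.PSL
import Cfsg.Agent.Lib.SL2.Unipotent

/-!
# The three standard generators of `SL₂(F)` and the presentation criterion
-/

set_option autoImplicit false

namespace CfsgLib.SLPres

open Polynomial Matrix
open scoped MatrixGroups

theorem map_sh {G H : Type*} [Group G] [Group H] (π : G →* H) (u h : G) (k : ℕ) :
    π (sh u h k) = sh (π u) (π h) k := by simp [sh]

/-- The additive structure shared by the model and the presented group. -/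
structure IsRoot {G F : Type*} [Group G] [Field F] (φ : F → G) (u h : G) (ν : F) : Prop where
  add : ∀ s t, φ (s + t) = φ s * φ t
  one : φ 1 = u
  conj : ∀ t, h * φ t * h⁻¹ = φ (ν * t)

namespace IsRoot

variable {G F : Type*} [Group G] [Field F] {φ : F → G} {u h : G} {ν : F}

theorem zero (R : IsRoot φ u h ν) : φ 0 = 1 := by
  have := R.add 0 0
  rw [add_zero] at this
  exact left_eq_mul.mp this

theorem neg (R : IsRoot φ u h ν) (t : F) : φ (-t) = (φ t)⁻¹ := by
  refine (inv_eq_of_mul_eq_one_right ?_).symm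
  rw [← R.add, add_neg_cancel, R.zero]

theorem pow (R : IsRoot φ u h ν) (t : F) (k : ℕ) : φ t ^ k = φ ((k : F) * t) := by
  induction k with
  | zero => simp [R.zero]
  | succ n ih => rw [pow_succ, ih, ← R.add, Nat.cast_succ, add_one_mul]

theorem shift (R : IsRoot φ u h ν) (k : ℕ) : sh u h k = φ (ν ^ k) := by
  induction k with
  | zero => simp [R.one]
  | succ n ih =>
    rw [add_comm n 1, ← sh_add, pow_one, ih, R.conj, pow_add, pow_one]

theorem shift_pow (R : IsRoot φ u h ν) (b k : ℕ) : sh u (h ^ b) k = φ ((ν ^ b) ^ k) := by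
  rw [sh_pow, R.shift, pow_mul]

theorem map {H : Type*} [Group H] (R : IsRoot φ u h ν) (π : G →* H) :
    IsRoot (fun t => π (φ t)) (π u) (π h) ν := by
  refine ⟨fun s t => ?_, ?_, fun t => ?_⟩
  · simp [R.add]
  · simp [R.one]
  · simp only [← map_inv, ← map_mul, R.conj]

theorem wv_eq (R : IsRoot φ u h ν) (p : ℕ) [Fact p.Prime] [Algebra (ZMod p) F] (f : (ZMod p)[X]) :
    wv p u h f = φ (aeval ν f) := by
  rw [aeval_eq_sum_range, wv]
  generalize f.natDegree + 1 = n
  induction n with
  | zero => simp [R.zero]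
  | succ n ih =>
    rw [Finset.sum_range_succ, List.range_succ, List.map_append, List.prod_append, R.add, ih,
      List.map_singleton, List.prod_singleton, R.shift, R.pow, Algebra.smul_def]
    congr 3
    conv_rhs => rw [← ZMod.natCast_zmod_val (f.coeff n), map_natCast]

theorem wv_pow_eq (R : IsRoot φ u h ν) (p b : ℕ) [Fact p.Prime] [Algebra (ZMod p) F]
    (f : (ZMod p)[X]) : wv p u (h ^ b) f = φ (aeval (ν ^ b) f) := by
  refine wv_eq (φ := φ) ⟨R.add, R.one, fun t => ?_⟩ p f
  by_cases hν : ν = 0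
  · subst hν
    have hall : ∀ s, φ s = 1 := fun s => by
      have h1 := R.conj s
      rw [zero_mul, R.zero, mul_inv_eq_one, mul_eq_left] at h1
      exact h1
    simp [hall]
  · have := zpow_conj_phi φ h ν hν R.conj (b : ℤ) t
    rwa [zpow_natCast, zpow_natCast] at this

end IsRoot

/-- A generated group with the relations and no larger order has this presentation. -/
theorem presented_of_card {T : Type*} [Group T] [Finite T] (L : List (FreeGroup (Fin 3)))
    (π : FreeGroup (Fin 3) →* T) (hπ : Function.Surjective π) (hrel : ∀ r ∈ L, π r = 1)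
    (hcard : ∀ (G : Type) [Group G] (ψ : FreeGroup (Fin 3) →* G), Function.Surjective ψ →
      (∀ r ∈ L, ψ r = 1) → Finite G ∧ Nat.card G ≤ Nat.card T)
    (n : ℕ) (hn : L.length ≤ n) :
    ∃ rels : Finset (FreeGroup (Fin 3)), rels.card ≤ n ∧
      Nonempty (PresentedGroup (↑rels : Set (FreeGroup (Fin 3))) ≃* T) := by
  classical
  refine ⟨L.toFinset, (List.toFinset_card_le L).trans hn, ?_⟩
  set R : Set (FreeGroup (Fin 3)) := ↑L.toFinset with hR
  obtain ⟨hfin, hle⟩ := hcard (PresentedGroup R) (PresentedGroup.mk R)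
    (PresentedGroup.mk_surjective R) fun r hr => by
      exact PresentedGroup.one_of_mem (by simp [hR, hr])
  have hlift : ∀ r ∈ R, FreeGroup.lift (fun i => π (FreeGroup.of i)) r = 1 := by
    intro r hr
    have : FreeGroup.lift (fun i => π (FreeGroup.of i)) = π := FreeGroup.ext_hom _ _ (fun i => by simp)
    rw [this]
    exact hrel r (by simpa [hR] using hr)
  let f : PresentedGroup R →* T := PresentedGroup.toGroup hlift
  have hsurj : Function.Surjective f := by
    intro t
    obtain ⟨x, rfl⟩ := hπ t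
    refine ⟨PresentedGroup.mk R x, ?_⟩
    have : f.comp (PresentedGroup.mk R) = π := FreeGroup.ext_hom _ _ fun i => by
      show f (PresentedGroup.of i) = _
      exact PresentedGroup.toGroup.of hlift
    exact DFunLike.congr_fun this x
  refine ⟨MulEquiv.ofBijective f ((Nat.bijective_iff_surjective_and_card _).mpr ⟨hsurj, ?_⟩)⟩
  exact le_antisymm hle (Nat.card_le_card_of_surjective f hsurj)

section Matrices

variable {F : Type*} [Field F]

/-- The root element `U t`. -/
def rootU (t : F) : SL(2, F) := ⟨!![1, t; 0, 1], by simp [Matrix.det_fin_two_of]⟩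

/-- The diagonal element. -/
def torD (a : F) (ha : a ≠ 0) : SL(2, F) := ⟨!![a, 0; 0, a⁻¹], by simp [Matrix.det_fin_two_of, ha]⟩

/-- The Weyl element. -/
def weylW : SL(2, F) := ⟨!![0, 1; -1, 0], by simp [Matrix.det_fin_two_of]⟩

@[simp] theorem coe_rootU (t : F) : (rootU t : Matrix (Fin 2) (Fin 2) F) = !![1, t; 0, 1] := rfl

@[simp] theorem coe_torD (a : F) (ha : a ≠ 0) :
    (torD a ha : Matrix (Fin 2) (Fin 2) F) = !![a, 0; 0, a⁻¹] := rfl

@[simp] theorem coe_weylW : ((weylW : SL(2, F)) : Matrix (Fin 2) (Fin 2) F) = !![0, 1; -1, 0] := rfl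

theorem torD_pow (a : F) (ha : a ≠ 0) (k : ℕ) :
    torD a ha ^ k = torD (a ^ k) (pow_ne_zero k ha) := by
  induction k with
  | zero => ext i j; fin_cases i <;> fin_cases j <;> simp
  | succ n ih =>
    rw [pow_succ, ih]
    ext i j; fin_cases i <;> fin_cases j <;> simp [pow_succ, mul_comm]

theorem torD_congr {a b : F} (ha : a ≠ 0) (hb : b ≠ 0) (h : a = b) : torD a ha = torD b hb := by
  subst h; rfl

theorem isRoot_rootU (μ : F) (hμ : μ ≠ 0) : IsRoot rootU (rootU 1) (torD μ hμ) (μ * μ) := by
  refine ⟨fun s t => ?_, rfl, fun t => ?_⟩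
  · ext i j; fin_cases i <;> fin_cases j <;> simp [add_comm]
  · rw [mul_inv_eq_iff_eq_mul]
    ext i j; fin_cases i <;> fin_cases j <;> simp [Matrix.mul_fin_two] <;>
      field_simp

theorem weylW_torD (a : F) (ha : a ≠ 0) : weylW * torD a ha * weylW⁻¹ = (torD a ha)⁻¹ := by
  rw [mul_inv_eq_iff_eq_mul]
  symm
  rw [inv_mul_eq_iff_eq_mul]
  ext i j; fin_cases i <;> fin_cases j <;> simp [Matrix.mul_fin_two, ha]

theorem weylW_sq : (weylW : SL(2, F)) * weylW = torD (-1) (by simp) := by
  ext i j; fin_cases i <;> fin_cases j <;> simp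

theorem bruhat_identity (t a : F) (ha : a ≠ 0) (h : a * t = -1) :
    weylW * rootU t * weylW = rootU a * torD a ha * weylW * rootU a := by
  have ht : t = -a⁻¹ := by
    field_simp
    linear_combination h
  subst ht
  ext i j; fin_cases i <;> fin_cases j <;>
    simp [Matrix.mul_fin_two, ha]

theorem rootU_eq_upperHom (t : F) :
    rootU t = SL2.upperHom (Multiplicative.ofAdd t) := by
  ext i j; fin_cases i <;> fin_cases j <;> simp [SL2.upperHom_coe]

variable (p : ℕ) [Fact p.Prime] [Algebra (ZMod p) F]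

/-- The standard map from the free group. -/
def stdHom (μ : F) (hμ : μ ≠ 0) : FreeGroup (Fin 3) →* SL(2, F) :=
  FreeGroup.lift ![rootU 1, torD μ hμ, weylW]

@[simp] theorem stdHom_u (μ : F) (hμ : μ ≠ 0) : stdHom μ hμ (FreeGroup.of 0) = rootU 1 := by
  simp [stdHom]

@[simp] theorem stdHom_h (μ : F) (hμ : μ ≠ 0) : stdHom μ hμ (FreeGroup.of 1) = torD μ hμ := by
  simp [stdHom]

@[simp] theorem stdHom_w (μ : F) (hμ : μ ≠ 0) : stdHom μ hμ (FreeGroup.of 2) = weylW := by
  simp [stdHom]

theorem stdHom_surjective (μ : F) (hμ : μ ≠ 0)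
    (hν : ∀ t : F, ∃ f : (ZMod p)[X], aeval (μ * μ) f = t) :
    Function.Surjective (stdHom μ hμ) := by
  rw [← MonoidHom.range_eq_top]
  have hU : ∀ b : F, rootU b ∈ (stdHom μ hμ).range := by
    intro b
    obtain ⟨f, rfl⟩ := hν b
    exact ⟨wv p (FreeGroup.of 0) (FreeGroup.of 1) f, by
      rw [map_wv, stdHom_u, stdHom_h, (isRoot_rootU μ hμ).wv_eq]⟩
  refine SL2.eq_top_of_upper_and_conj _ weylW (by simp) (fun b => ?_) (fun b => ?_)
  · have := hU (Multiplicative.toAdd b)
    rwa [rootU_eq_upperHom, ofAdd_toAdd] at this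
  · have hw : (weylW : SL(2, F)) ∈ (stdHom μ hμ).range := ⟨_, stdHom_w μ hμ⟩
    refine mul_mem (mul_mem hw ?_) (inv_mem hw)
    have := hU (Multiplicative.toAdd b)
    rwa [rootU_eq_upperHom, ofAdd_toAdd] at this

end Matrices

/-- Every element of a surjective image of the free group on three letters is a word in three. -/
theorem closure_of_surjective {G : Type*} [Group G] (ψ : FreeGroup (Fin 3) →* G)
    (hψ : Function.Surjective ψ) :
    Subgroup.closure ({ψ (FreeGroup.of 0), ψ (FreeGroup.of 1), ψ (FreeGroup.of 2)} : Set G) = ⊤ := by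
  rw [← MonoidHom.range_eq_top.mpr hψ, MonoidHom.range_eq_map, ← FreeGroup.closure_range_of,
    MonoidHom.map_closure, ← Set.range_comp]
  congr 1
  ext x
  simp only [Set.mem_insert_iff, Set.mem_singleton_iff, Set.mem_range, Function.comp_apply,
    Fin.exists_fin_succ, Fin.exists_fin_zero]
  simp [eq_comm]

end CfsgLib.SLPres
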