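import Mathlib

/-!
# `SL` of a subset of coordinates and even permutation matrices inside `SL`
-/

set_option autoImplicit false

namespace CfsgLib.SLPres

open Equiv

variable {κ ι F : Type*} [Fintype κ] [DecidableEq κ] [Fintype ι] [DecidableEq ι] [Field F]

/-- `SL` on the coordinates in the image of an injection. -/
def padHom (e : κ → ι) (he : Function.Injective e) :
    Matrix.SpecialLinearGroup κ F →* Matrix.SpecialLinearGroup ι F :=
  let V : Matrix ι κ F := (1 : Matrix ι ι F).submatrix id e
  let W : Matrix κ ι F := (1 : Matrix ι ι F).submatrix e id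
  have hWV : W * V = 1 := by
    rw [← Matrix.submatrix_mul _ _ e id e Function.bijective_id, Matrix.one_mul,
      Matrix.submatrix_one e he]
  have hmul : ∀ A A' : Matrix κ κ F,
      (1 : Matrix ι ι F) + V * (A * A' - 1) * W = (1 + V * (A - 1) * W) * (1 + V * (A' - 1) * W) := fun A A' => by
    rw [Matrix.add_mul, Matrix.one_mul, Matrix.mul_add (V * (A - 1) * W), Matrix.mul_one]
    rw [show V * (A - 1) * W * (V * (A' - 1) * W) = V * ((A - 1) * (W * V) * (A' - 1)) * W by
        simp only [Matrix.mul_assoc], hWV, Matrix.mul_one]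
    simp only [add_assoc, ← Matrix.add_mul, ← Matrix.mul_add]
    congr 3
    rw [Matrix.sub_mul, Matrix.mul_sub, Matrix.one_mul, Matrix.mul_one]
    abel
  { toFun := fun N => ⟨1 + V * ((N : Matrix κ κ F) - 1) * W, by
      rw [Matrix.mul_assoc, Matrix.det_one_add_mul_comm, Matrix.mul_assoc, hWV, Matrix.mul_one,
        add_sub_cancel, N.det_coe]⟩
    map_one' := Subtype.ext (by
      simp only [Matrix.SpecialLinearGroup.coe_one, sub_self, Matrix.mul_zero, Matrix.zero_mul, add_zero])
    map_mul' := fun N N' => Subtype.ext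
      ((congrArg (fun A : Matrix κ κ F => (1 : Matrix ι ι F) + V * (A - 1) * W)
        (Matrix.SpecialLinearGroup.coe_mul N N')).trans (hmul _ _)) }

theorem padHom_transvection (e : κ → ι) (he : Function.Injective e) {a b : κ} (h : a ≠ b) (t : F) :
    padHom e he (Matrix.SpecialLinearGroup.transvection h t) =
      Matrix.SpecialLinearGroup.transvection (he.ne h) t := by
  apply Subtype.ext
  show (1 : Matrix ι ι F) + (1 : Matrix ι ι F).submatrix id e *
    ((Matrix.SpecialLinearGroup.transvection h t : Matrix κ κ F) - 1) *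
    (1 : Matrix ι ι F).submatrix e id = _
  rw [Matrix.SpecialLinearGroup.transvection_coe, Matrix.SpecialLinearGroup.transvection_coe,
    add_sub_cancel_left]
  congr 1
  ext x y
  rw [Matrix.mul_apply, Finset.sum_eq_single b (fun d _ hd => by simp [Matrix.mul_apply, hd.symm])
    (fun hb => absurd (Finset.mem_univ b) hb), Matrix.mul_apply,
    Finset.sum_eq_single a (fun d _ hd => by simp [hd.symm]) (fun ha => absurd (Finset.mem_univ a) ha)]
  by_cases hx : x = e a <;> by_cases hy : y = e b <;>
    simp [Matrix.single_apply, Matrix.one_apply, hx, hy, Ne.symm, eq_comm (a := e a), eq_comm (a := e b)]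

/-- Even permutation matrices. -/
def altMatHom : alternatingGroup ι →* Matrix.SpecialLinearGroup ι F where
  toFun σ := ⟨(σ : Perm ι)⁻¹.permMatrix F, by
    rw [Matrix.det_permutation, Perm.sign_inv, Perm.mem_alternatingGroup.mp σ.2]
    simp⟩
  map_one' := Subtype.ext (by simp)
  map_mul' σ τ := Subtype.ext (by
    show ((σ : Perm ι) * (τ : Perm ι))⁻¹.permMatrix F =
      (σ : Perm ι)⁻¹.permMatrix F * (τ : Perm ι)⁻¹.permMatrix F
    rw [mul_inv_rev, Matrix.permMatrix_mul])

theorem altMat_transvection (σ : alternatingGroup ι) {i j : ι} (h : i ≠ j) (t : F) :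
    altMatHom (F := F) σ * Matrix.SpecialLinearGroup.transvection h t * (altMatHom σ)⁻¹ =
      Matrix.SpecialLinearGroup.transvection ((σ : Perm ι).injective.ne h) t := by
  rw [mul_inv_eq_iff_eq_mul]
  apply Subtype.ext
  rw [Matrix.SpecialLinearGroup.coe_mul, Matrix.SpecialLinearGroup.coe_mul,
    Matrix.SpecialLinearGroup.transvection_coe, Matrix.SpecialLinearGroup.transvection_coe]
  show (σ : Perm ι)⁻¹.permMatrix F * _ = _ * (σ : Perm ι)⁻¹.permMatrix F
  rw [Equiv.Perm.permMatrix, PEquiv.toMatrix_toPEquiv_mul, PEquiv.mul_toMatrix_toPEquiv]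
  ext x y
  simp [Matrix.single_apply, Matrix.one_apply, Perm.eq_inv_iff_eq, Perm.inv_def,
    Equiv.eq_symm_apply, Equiv.symm_apply_eq]

/-- A three-element subset and an even permutation of the ambient coordinates. -/
theorem altMat_pad (σ : alternatingGroup ι) (e : κ → ι) (he : Function.Injective e)
    (e' : κ → ι) (he' : Function.Injective e') (hσ : ∀ k, (σ : Perm ι) (e k) = e' k) {a b : κ}
    (h : a ≠ b) (t : F) :
    altMatHom (F := F) σ * padHom e he (Matrix.SpecialLinearGroup.transvection h t) * (altMatHom σ)⁻¹ =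
      padHom e' he' (Matrix.SpecialLinearGroup.transvection h t) := by
  rw [padHom_transvection, padHom_transvection, altMat_transvection]
  apply Subtype.ext
  rw [Matrix.SpecialLinearGroup.transvection_coe, Matrix.SpecialLinearGroup.transvection_coe, hσ, hσ]

end CfsgLib.SLPres

namespace CfsgLib.SLPres

open Equiv

variable {κ ι F : Type*} [Fintype κ] [DecidableEq κ] [Fintype ι] [DecidableEq ι] [Field F]

/-- The entries of an inverse permutation matrix. -/
theorem inv_permMatrix_apply {μ R : Type*} [DecidableEq μ] [Zero R] [One R] (p : Perm μ) (a b : μ) :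
    p⁻¹.permMatrix R a b = if a = p b then (1 : R) else 0 := by
  simp [Equiv.Perm.permMatrix, PEquiv.toMatrix_apply, Equiv.symm_apply_eq]

/-- A permutation of the small coordinate set is the permutation fixing the other coordinates. -/
theorem padHom_altMat (e : κ → ι) (he : Function.Injective e) (c : alternatingGroup κ)
    (σ : alternatingGroup ι) (hσ : ∀ k, (σ : Perm ι) (e k) = e ((c : Perm κ) k))
    (hfix : ∀ x, x ∉ Set.range e → (σ : Perm ι) x = x) :
    padHom (F := F) e he (altMatHom c) = altMatHom σ := by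
  apply Subtype.ext
  show (1 : Matrix ι ι F) + (1 : Matrix ι ι F).submatrix id e *
    ((c : Perm κ)⁻¹.permMatrix F - 1) * (1 : Matrix ι ι F).submatrix e id = (σ : Perm ι)⁻¹.permMatrix F
  set D := (c : Perm κ)⁻¹.permMatrix F - 1 with hD
  ext x y
  have hrow : ∀ x', x' ∉ Set.range e →
      ((1 : Matrix ι ι F).submatrix id e * D) x' = 0 := fun x' h => funext fun d => by
    rw [Matrix.mul_apply]
    exact Finset.sum_eq_zero fun a _ => by
      rw [Matrix.submatrix_apply, id_eq, Matrix.one_apply_ne (fun hh => h ⟨a, hh.symm⟩), zero_mul]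
  have hrow' : ∀ a d, ((1 : Matrix ι ι F).submatrix id e * D) (e a) d = D a d := fun a d => by
    rw [Matrix.mul_apply, Finset.sum_eq_single a (fun a' _ h => by simp [Matrix.one_apply, he.ne h.symm])
      (fun h => absurd (Finset.mem_univ a) h)]
    simp [Matrix.one_apply]
  have hD' : ∀ a b, D a b = (if a = (c : Perm κ) b then (1 : F) else 0) - if a = b then 1 else 0 := fun a b => by
    rw [hD, Matrix.sub_apply, Matrix.one_apply]
    exact congrArg₂ (fun u v : F => u - v) (inv_permMatrix_apply (c : Perm κ) a b) rfl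
  refine Eq.trans ?_ (inv_permMatrix_apply (σ : Perm ι) x y).symm
  rw [Matrix.add_apply, Matrix.mul_apply]
  by_cases hx : x ∈ Set.range e
  · obtain ⟨a, rfl⟩ := hx
    simp only [hrow', Matrix.submatrix_apply, id_eq, Matrix.one_apply]
    by_cases hy : y ∈ Set.range e
    · obtain ⟨b, rfl⟩ := hy
      rw [Finset.sum_eq_single b (fun d _ h => by simp [he.ne h])
        (fun h => absurd (Finset.mem_univ b) h), hσ, hD']
      simp only [he.eq_iff, if_true, mul_one]
      split_ifs <;> ring
    · rw [Finset.sum_eq_zero fun d _ => by rw [if_neg fun hh => hy ⟨d, hh⟩, mul_zero], hfix y hy]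
      simp
  · rw [Finset.sum_eq_zero fun d _ => by simp [hrow x hx]]
    by_cases hy : y ∈ Set.range e
    · obtain ⟨b, rfl⟩ := hy
      rw [hσ]
      rw [if_neg fun hh => hx ⟨(c : Perm κ) b, hh.symm⟩,
        Matrix.one_apply_ne fun hh => hx ⟨b, hh.symm⟩, add_zero]
    · simp [hfix y hy, Matrix.one_apply]

/-- Root elements at disjoint positions commute. -/
theorem transvection_commute {i j k l : ι} (hij : i ≠ j) (hkl : k ≠ l) (hjk : j ≠ k) (hil : i ≠ l)
    (s t : F) : Commute (Matrix.SpecialLinearGroup.transvection hij s)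
      (Matrix.SpecialLinearGroup.transvection hkl t) := by
  apply Subtype.ext
  rw [Matrix.SpecialLinearGroup.coe_mul, Matrix.SpecialLinearGroup.coe_mul,
    Matrix.SpecialLinearGroup.transvection_coe, Matrix.SpecialLinearGroup.transvection_coe]
  simp only [Matrix.add_mul, Matrix.mul_add, Matrix.one_mul, Matrix.mul_one,
    Matrix.single_mul_single_of_ne _ _ _ _ hjk, Matrix.single_mul_single_of_ne _ _ _ _ hil.symm]
  abel

end CfsgLib.SLPres
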