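import Cfsg.Agent.Lib.SLPres.SteinbergCount
import Cfsg.Agent.Lib.SLPres.Pad
import Cfsg.Agent.Lib.Classical.Transvection

/-!
# Gluing `SL₃` and `A_n` into a root family of type `A_{n-1}`
-/

set_option autoImplicit false

namespace CfsgLib.SLPres

open Equiv
open scoped MatrixGroups

variable {n : ℕ}

/-- A product of two transpositions. -/
def evenPair {α : Type*} [Fintype α] [DecidableEq α] {a b c d : α} (hab : a ≠ b) (hcd : c ≠ d) :
    alternatingGroup α :=
  ⟨swap a b * swap c d, by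
    rw [Perm.mem_alternatingGroup, Perm.sign_mul, Perm.sign_swap hab, Perm.sign_swap hcd]; decide⟩

@[simp] theorem coe_evenPair {α : Type*} [Fintype α] [DecidableEq α] {a b c d : α} (hab : a ≠ b)
    (hcd : c ≠ d) : (evenPair hab hcd : Perm α) = swap a b * swap c d := rfl

theorem pt_ne (hn : 4 ≤ n) {a b : Fin 4} (h : a ≠ b) : Fin.castLE hn a ≠ Fin.castLE hn b :=
  (Fin.castLE_injective hn).ne h

/-- The first three of four coordinates. -/
def e3 (hn : 4 ≤ n) (k : Fin 3) : Fin n := Fin.castLE hn k.castSucc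

theorem e3_injective (hn : 4 ≤ n) : Function.Injective (e3 hn) :=
  (Fin.castLE_injective hn).comp (Fin.castSucc_injective 3)

/-- The cycle `0 → 1 → 2 → 0`. -/
def sig3 (hn : 4 ≤ n) : alternatingGroup (Fin n) :=
  evenPair (pt_ne hn (a := 0) (b := 1) (by decide)) (pt_ne hn (a := 1) (b := 2) (by decide))

/-- `(0 1)(2 3)`. -/
def rho (hn : 4 ≤ n) : alternatingGroup (Fin n) :=
  evenPair (pt_ne hn (a := 0) (b := 1) (by decide)) (pt_ne hn (a := 2) (b := 3) (by decide))

/-- `(0 2)(1 3)`. -/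
def par1 (hn : 4 ≤ n) : alternatingGroup (Fin n) :=
  evenPair (pt_ne hn (a := 0) (b := 2) (by decide)) (pt_ne hn (a := 1) (b := 3) (by decide))

/-- `(0 3)(1 2)`. -/
def par2 (hn : 4 ≤ n) : alternatingGroup (Fin n) :=
  evenPair (pt_ne hn (a := 0) (b := 3) (by decide)) (pt_ne hn (a := 1) (b := 2) (by decide))

/-- The cycle in dimension three. -/
def cyc : alternatingGroup (Fin 3) :=
  evenPair (show (0 : Fin 3) ≠ 1 by decide) (show (1 : Fin 3) ≠ 2 by decide)

theorem sig3_apply (hn : 4 ≤ n) (k : Fin 3) :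
    (sig3 hn : Perm (Fin n)) (e3 hn k) = e3 hn ((cyc : Perm (Fin 3)) k) := by
  have h : ∀ a b : Fin 4, Fin.castLE hn a = Fin.castLE hn b ↔ a = b :=
    fun a b => (Fin.castLE_injective hn).eq_iff
  fin_cases k <;> simp [sig3, cyc, e3, swap_apply_def, h]

theorem sig3_fix (hn : 4 ≤ n) (x : Fin n) (hx : x ∉ Set.range (e3 hn)) :
    (sig3 hn : Perm (Fin n)) x = x := by
  have h0 : x ≠ Fin.castLE hn 0 := fun h => hx ⟨0, h.symm⟩
  have h1 : x ≠ Fin.castLE hn 1 := fun h => hx ⟨1, h.symm⟩
  have h2 : x ≠ Fin.castLE hn 2 := fun h => hx ⟨2, h.symm⟩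
  simp [sig3, swap_apply_of_ne_of_ne h1 h2, swap_apply_of_ne_of_ne h0 h1]

/-- Even permutations carry any two distinct points to any two distinct points. -/
theorem exists_even_two (hn : 4 ≤ n) {i j : Fin n} (hij : i ≠ j) :
    ∃ σ : alternatingGroup (Fin n), (σ : Perm (Fin n)) (Fin.castLE hn 0) = i ∧
      (σ : Perm (Fin n)) (Fin.castLE hn 1) = j := by
  set a := Fin.castLE hn (0 : Fin 4)
  set b := Fin.castLE hn (1 : Fin 4)
  have hab : a ≠ b := pt_ne hn (by decide)
  let g₁ : Perm (Fin n) := swap a i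
  let g : Perm (Fin n) := swap (g₁ b) j * g₁
  have hb : g b = j := by simp [g]
  have ha : g a = i := by
    have : g₁ a = i := swap_apply_left a i
    simp only [g, Perm.mul_apply, this]
    refine swap_apply_of_ne_of_ne ?_ hij
    rw [← this]; exact g₁.injective.ne hab
  rcases Int.units_eq_one_or (Perm.sign g) with h | h
  · exact ⟨⟨g, h⟩, ha, hb⟩
  · have h23 : Fin.castLE hn (2 : Fin 4) ≠ Fin.castLE hn 3 := pt_ne hn (by decide)
    refine ⟨⟨g * swap (Fin.castLE hn (2 : Fin 4)) (Fin.castLE hn 3), by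
      rw [Perm.mem_alternatingGroup, Perm.sign_mul, h, Perm.sign_swap h23]; decide⟩, ?_, ?_⟩ <;>
    simp [Perm.mul_apply, a, b, swap_apply_of_ne_of_ne, pt_ne hn] at * <;> assumption

/-- A permutation extending an injection of `k` points. -/
theorem exists_perm_extend {k : ℕ} {v w : Fin k → Fin n} (hv : Function.Injective v)
    (hw : Function.Injective w) : ∃ g : Perm (Fin n), ∀ a, g (v a) = w a := by
  classical
  let e : {x // x ∈ Set.range v} ≃ {x // x ∈ Set.range w} :=
    (Equiv.ofInjective v hv).symm.trans (Equiv.ofInjective w hw)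
  refine ⟨e.extendSubtype, fun a => ?_⟩
  rw [e.extendSubtype_apply_of_mem _ ⟨a, rfl⟩]
  show ((Equiv.ofInjective w hw) ((Equiv.ofInjective v hv).symm ⟨v a, a, rfl⟩) : Fin n) = _
  rw [Equiv.ofInjective_symm_apply]
  rfl

variable {F : Type*} [Field F] [Fintype F] {G : Type*} [Group G]

theorem tr3_conj (σ : alternatingGroup (Fin 3)) {a b : Fin 3} (h : a ≠ b) (t : F) :
    altMatHom (F := F) σ * tr3 a b t * (altMatHom σ)⁻¹ = tr3 ((σ : Perm (Fin 3)) a) ((σ : Perm (Fin 3)) b) t := by
  rw [tr3, dif_neg h, altMat_transvection, tr3, dif_neg ((σ : Perm (Fin 3)).injective.ne h)]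

theorem closure_tr3 : Subgroup.closure {g : SL(3, F) | ∃ a b, a ≠ b ∧ ∃ t, g = tr3 a b t} = ⊤ := by
  rw [← Classical.closure_transvection_eq_top (ι := Fin 3) (F := F)]
  congr 1
  ext g
  constructor
  · rintro ⟨a, b, h, t, rfl⟩
    exact ⟨a, b, h, t, dif_neg h⟩
  · rintro ⟨a, b, h, t, rfl⟩
    exact ⟨a, b, h, t, by rw [tr3, dif_neg h]⟩

variable (hn : 4 ≤ n) (θ : SL(3, F) →* G) (τ : alternatingGroup (Fin n) →* G)

/-- The glued root elements. -/
noncomputable def glueX (i j : Fin n) (t : F) : G :=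
  if h : i = j then 1 else
    τ (exists_even_two hn h).choose * θ (tr3 0 1 t) * (τ (exists_even_two hn h).choose)⁻¹

set_option maxHeartbeats 1000000 in
/-- The glued group is no larger than `SL_n`. -/
theorem card_of_glue (F1 : τ (sig3 hn) = θ (altMatHom cyc))
    (F2 : ∀ σ : alternatingGroup (Fin n), (σ : Perm (Fin n)) (Fin.castLE hn 0) = Fin.castLE hn 0 →
      (σ : Perm (Fin n)) (Fin.castLE hn 1) = Fin.castLE hn 1 → ∀ t, Commute (τ σ) (θ (tr3 0 1 t)))
    (F3 : ∀ t, τ (rho hn) * θ (tr3 0 1 t) * (τ (rho hn))⁻¹ = θ (tr3 1 0 t))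
    (F4 : ∀ s t, Commute (θ (tr3 0 1 s)) (τ (par1 hn) * θ (tr3 0 1 t) * (τ (par1 hn))⁻¹) ∧
      Commute (θ (tr3 0 1 s)) (τ (par2 hn) * θ (tr3 0 1 t) * (τ (par2 hn))⁻¹))
    (hgen : θ.range ⊔ τ.range = ⊤) :
    Finite G ∧ Nat.card G ≤ Nat.card SL(n, F) := by
  classical
  set X := glueX hn θ τ with hX
  have well : ∀ (σ : alternatingGroup (Fin n)) (t : F),
      τ σ * θ (tr3 0 1 t) * (τ σ)⁻¹ =
        X ((σ : Perm (Fin n)) (Fin.castLE hn 0)) ((σ : Perm (Fin n)) (Fin.castLE hn 1)) t := by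
    intro σ t
    have hne : (σ : Perm (Fin n)) (Fin.castLE hn 0) ≠ (σ : Perm (Fin n)) (Fin.castLE hn 1) :=
      (σ : Perm (Fin n)).injective.ne (pt_ne hn (by decide))
    obtain ⟨h0, h1⟩ := (exists_even_two hn hne).choose_spec
    simp only [hX, glueX, dif_neg hne]
    set π := (exists_even_two hn hne).choose
    have := F2 (π⁻¹ * σ) (by simp [Perm.mul_apply, ← h0]) (by simp [Perm.mul_apply, ← h1]) t
    rw [map_mul, map_inv, Commute, SemiconjBy] at this
    calc τ σ * θ (tr3 0 1 t) * (τ σ)⁻¹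
        = τ π * (((τ π)⁻¹ * τ σ) * θ (tr3 0 1 t)) * (τ σ)⁻¹ := by group
      _ = τ π * θ (tr3 0 1 t) * (τ π)⁻¹ := by rw [this]; group
  have equiv : ∀ (σ : alternatingGroup (Fin n)) {i j : Fin n}, i ≠ j → ∀ t,
      τ σ * X i j t * (τ σ)⁻¹ = X ((σ : Perm (Fin n)) i) ((σ : Perm (Fin n)) j) t := by
    intro σ i j hij t
    obtain ⟨π, rfl, rfl⟩ := exists_even_two hn hij
    rw [← well π t]
    have h := well (σ * π) t
    rw [map_mul] at h
    refine (Eq.trans ?_ h)
    group
  have inj := e3_injective hn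
  have base : ∀ a b : Fin 3, a ≠ b → ∀ t, θ (tr3 a b t) = X (e3 hn a) (e3 hn b) t := by
    have b01 : ∀ t, θ (tr3 0 1 t) = X (e3 hn 0) (e3 hn 1) t := fun t => by
      simpa [e3] using well 1 t
    have b10 : ∀ t, θ (tr3 1 0 t) = X (e3 hn 1) (e3 hn 0) t := fun t => by
      rw [← F3, well]
      simp [rho, e3, swap_apply_def, (Fin.castLE_injective hn).eq_iff]
    have step : ∀ a b : Fin 3, a ≠ b → (∀ t, θ (tr3 a b t) = X (e3 hn a) (e3 hn b) t) →
        ∀ t, θ (tr3 ((cyc : Perm (Fin 3)) a) ((cyc : Perm (Fin 3)) b) t) =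
          X (e3 hn ((cyc : Perm (Fin 3)) a)) (e3 hn ((cyc : Perm (Fin 3)) b)) t := by
      intro a b hab h t
      rw [← tr3_conj cyc hab, map_mul, map_mul, map_inv, ← F1, h, equiv _ (inj.ne hab), sig3_apply,
        sig3_apply]
    have b12 := step 0 1 (by decide) b01
    have b20 := step _ _ (by decide) b12
    have b21 := step 1 0 (by decide) b10
    have b02 := step _ _ (by decide) b21
    simp only [cyc, coe_evenPair, Perm.mul_apply, swap_apply_def, Fin.reduceEq, if_true, if_false]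
      at b12 b20 b21 b02
    intro a b hab
    fin_cases a <;> fin_cases b
    exacts [absurd rfl hab, b01, b02, b10, absurd rfl hab, b12, b20, b21, absurd rfl hab]
  have R : RootFam X := by
    refine ⟨fun v hv => ?_, fun i j k l hij hkl hik hil hjk hjl s t => ?_, fun i j => ?_⟩
    · obtain ⟨g, hg⟩ := exists_perm_extend inj hv
      rcases Int.units_eq_one_or (Perm.sign g) with h | h
      · refine ⟨(MulAut.conj (τ ⟨g, h⟩)).toMonoidHom.comp θ, fun a b hab t => ?_⟩
        show τ ⟨g, h⟩ * θ (tr3 a b t) * (τ ⟨g, h⟩)⁻¹ = _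
        rw [base a b hab, equiv _ (inj.ne hab), hg, hg]
      · let ε : Perm (Fin 3) := swap 0 1
        have hε : ∀ a, ε (ε a) = a := fun a => swap_apply_self _ _ a
        have h01 : e3 hn 0 ≠ e3 hn 1 := inj.ne (by decide)
        let σ : alternatingGroup (Fin n) := ⟨g * swap (e3 hn 0) (e3 hn 1), by
          rw [Perm.mem_alternatingGroup, Perm.sign_mul, h, Perm.sign_swap h01]; decide⟩
        refine ⟨((MulAut.conj (τ σ)).toMonoidHom.comp θ).comp (padHom ε ε.injective), fun a b hab t => ?_⟩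
        show τ σ * θ (padHom ε ε.injective (tr3 a b t)) * (τ σ)⁻¹ = _
        have e : padHom ε ε.injective (tr3 a b t : SL(3, F)) = tr3 (ε a) (ε b) t := by
          rw [tr3, dif_neg hab, padHom_transvection, tr3, dif_neg (ε.injective.ne hab)]
        have hs : ∀ x, (σ : Perm (Fin n)) (e3 hn (ε x)) = v x := fun x => by
          rw [← hg]
          show g (swap (e3 hn 0) (e3 hn 1) (e3 hn (ε x))) = g (e3 hn x)
          rw [← inj.map_swap, hε]
        rw [e, base _ _ (ε.injective.ne hab), equiv _ (inj.ne (ε.injective.ne hab)), hs, hs]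
    · have hv : Function.Injective ![i, j, k, l] := by
        intro a b hab
        fin_cases a <;> fin_cases b <;> simp_all [eq_comm]
      obtain ⟨g, hg⟩ := exists_perm_extend (Fin.castLE_injective hn) hv
      have g0 := hg 0
      have g1 := hg 1
      have g2 := hg 2
      have g3 := hg 3
      simp only [Matrix.cons_val_zero, Matrix.cons_val_one, Matrix.cons_val] at g0 g1 g2 g3
      have key : ∀ (σ p : alternatingGroup (Fin n)),
          (∀ s t, Commute (θ (tr3 0 1 s)) (τ p * θ (tr3 0 1 t) * (τ p)⁻¹)) →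
          (σ : Perm (Fin n)) (Fin.castLE hn 0) = i → (σ : Perm (Fin n)) (Fin.castLE hn 1) = j →
          (σ : Perm (Fin n)) ((p : Perm (Fin n)) (Fin.castLE hn 0)) = k →
          (σ : Perm (Fin n)) ((p : Perm (Fin n)) (Fin.castLE hn 1)) = l →
          Commute (X i j s) (X k l t) := by
        intro σ p hp s0 s1 s2 s3
        have e1 := well σ s
        rw [s0, s1] at e1
        have e2 := well (σ * p) t
        rw [Subgroup.coe_mul, Perm.mul_apply, Perm.mul_apply, s2, s3, map_mul] at e2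
        rw [← e1, ← e2,
          show τ σ * τ p * θ (tr3 0 1 t) * (τ σ * τ p)⁻¹ =
            τ σ * (τ p * θ (tr3 0 1 t) * (τ p)⁻¹) * (τ σ)⁻¹ by group]
        exact (hp s t).map (MulAut.conj (τ σ)).toMonoidHom
      have pne := fun {a b : Fin 4} (h : a ≠ b) => pt_ne hn h
      rcases Int.units_eq_one_or (Perm.sign g) with h | h
      · refine key ⟨g, h⟩ (par1 hn) (fun s t => (F4 s t).1) g0 g1 ?_ ?_ <;>
        simp [par1, swap_apply_def, (Fin.castLE_injective hn).eq_iff, g2, g3]
      · refine key ⟨g * swap (Fin.castLE hn 2) (Fin.castLE hn 3), by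
          rw [Perm.mem_alternatingGroup, Perm.sign_mul, h,
            Perm.sign_swap (pne (a := 2) (b := 3) (by decide))]; decide⟩ (par2 hn)
          (fun s t => (F4 s t).2) ?_ ?_ ?_ ?_ <;>
        simp [par2, swap_apply_def, (Fin.castLE_injective hn).eq_iff, g0, g1, g2, g3]
    · obtain ⟨k, hk⟩ : ∃ k : Fin n, k ∉ ({i, j} : Finset (Fin n)) := by
        by_contra! h
        have := (Finset.card_le_card (fun x _ => h x : (Finset.univ : Finset (Fin n)) ⊆ {i, j})).trans
          Finset.card_le_two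
        simp at this
        omega
      simp at hk
      exact ⟨k, hk.1, hk.2⟩
  haveI : Nonempty (Fin n) := ⟨⟨0, by omega⟩⟩
  suffices htop : Subgroup.closure {g : G | ∃ i j, i ≠ j ∧ ∃ t, g = X i j t} = ⊤ by
    obtain ⟨hfin, hc⟩ := R.card_le htop
    refine ⟨hfin, ?_⟩
    rw [Fintype.card_fin] at hc
    exact hc
  · set N := Subgroup.closure {g : G | ∃ i j, i ≠ j ∧ ∃ t, g = X i j t}
    have hXN : ∀ i j, i ≠ j → ∀ t, X i j t ∈ N := fun i j h t => Subgroup.subset_closure ⟨i, j, h, t, rfl⟩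
    have hθ : θ.range ≤ N := by
      rw [MonoidHom.range_eq_map, ← closure_tr3, MonoidHom.map_closure, Subgroup.closure_le]
      rintro _ ⟨_, ⟨a, b, hab, t, rfl⟩, rfl⟩
      rw [base a b hab]
      exact hXN _ _ (inj.ne hab) t
    have hnorm : ∀ σ, ∀ x ∈ N, τ σ * x * (τ σ)⁻¹ ∈ N := by
      intro σ
      have hle : N ≤ N.comap (MulAut.conj (τ σ)).toMonoidHom := by
        rw [Subgroup.closure_le]
        rintro _ ⟨i, j, hij, t, rfl⟩
        show τ σ * X i j t * (τ σ)⁻¹ ∈ N
        rw [equiv σ hij]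
        exact hXN _ _ ((σ : Perm (Fin n)).injective.ne hij) t
      exact fun x hx => hle hx
    have hτ : τ.range ≤ N := by
      have h3 : sig3 hn ∈ N.comap τ := by
        rw [Subgroup.mem_comap, F1]; exact hθ ⟨_, rfl⟩
      let S : Subgroup (Perm (Fin n)) := (N.comap τ).map (alternatingGroup (Fin n)).subtype
      have hS : alternatingGroup (Fin n) ≤ S := by
        rw [← Perm.closure_three_cycles_eq_alternating, Subgroup.closure_le]
        intro ν hν
        have hs3 : ((sig3 hn : alternatingGroup (Fin n)) : Perm (Fin n)).IsThreeCycle := by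
          rw [sig3, coe_evenPair, swap_comm (Fin.castLE hn 0)]
          exact Perm.isThreeCycle_swap_mul_swap_same (pt_ne hn (by decide)) (pt_ne hn (by decide))
            (pt_ne hn (by decide))
        obtain ⟨g, hg⟩ := isConj_iff.mp (Perm.isConj_iff_cycleType_eq.mpr (hs3.trans hν.symm))
        have hin : ∀ g : alternatingGroup (Fin n),
            (g * sig3 hn * g⁻¹ : alternatingGroup (Fin n)) ∈ N.comap τ := fun g => by
          rw [Subgroup.mem_comap, map_mul, map_mul, map_inv]
          exact hnorm g _ h3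
        rcases Int.units_eq_one_or (Perm.sign g) with h | h
        · exact ⟨_, hin ⟨g, h⟩, by simpa using hg⟩
        · have h01 : Fin.castLE hn (0 : Fin 4) ≠ Fin.castLE hn 1 := pt_ne hn (by decide)
          refine ⟨_, inv_mem (hin ⟨g * swap (Fin.castLE hn 0) (Fin.castLE hn 1), by
            rw [Perm.mem_alternatingGroup, Perm.sign_mul, h, Perm.sign_swap h01]; decide⟩), ?_⟩
          rw [← hg]
          show ((g * swap (Fin.castLE hn 0) (Fin.castLE hn 1)) * _ *
            (g * swap (Fin.castLE hn 0) (Fin.castLE hn 1))⁻¹)⁻¹ = _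
          have e : swap (Fin.castLE hn (0 : Fin 4)) (Fin.castLE hn 1) *
              ((sig3 hn : alternatingGroup (Fin n)) : Perm (Fin n))⁻¹ *
              swap (Fin.castLE hn 0) (Fin.castLE hn 1) = sig3 hn := by
            simp [sig3, mul_inv_rev, swap_inv, mul_assoc, swap_mul_self]
          calc _ = g * (swap (Fin.castLE hn 0) (Fin.castLE hn 1) *
                ((sig3 hn : alternatingGroup (Fin n)) : Perm (Fin n))⁻¹ *
                (swap (Fin.castLE hn 0) (Fin.castLE hn 1))⁻¹) * g⁻¹ := by group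
            _ = _ := by rw [swap_inv, e]
      rintro _ ⟨σ, rfl⟩
      obtain ⟨σ', hσ', he⟩ := hS σ.2
      rwa [Subtype.ext he] at hσ'
    rw [eq_top_iff, ← hgen]
    exact sup_le hθ hτ

end CfsgLib.SLPres
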