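import Cfsg.Agent.Lib.SLPres.Model

/-!
# Few relations making all shifts commute
-/

set_option autoImplicit false

namespace CfsgLib.SLPres

open Polynomial
open scoped commutatorElement

variable {F : Type*} [Field F] [Fintype F]

/-- The highest shift allowed by a monic relation lies in the span of the lower ones. -/
theorem sh_natDegree_mem (p : ℕ) [Fact p.Prime] {G : Type*} [Group G] (u h : G) (f : (ZMod p)[X])
    (hf : f.Monic) (hr : wv p u h f = 1) :
    sh u h f.natDegree ∈ Subgroup.closure (sh u h '' Set.Iio f.natDegree) := by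
  rw [wv, List.range_succ, List.map_append, List.prod_append, List.map_singleton,
    List.prod_singleton, hf.coeff_natDegree, ZMod.val_one, pow_one] at hr
  rw [eq_inv_of_mul_eq_one_right hr]
  refine inv_mem (Subgroup.list_prod_mem _ fun x hx => ?_)
  obtain ⟨i, hi, rfl⟩ := List.mem_map.mp hx
  exact Subgroup.pow_mem _ (Subgroup.subset_closure (Set.mem_image_of_mem _ (Set.mem_Iio.mpr (List.mem_range.mp hi)))) _

/-- Degree at most two: one commutator suffices. -/
theorem commute_small (p : ℕ) [Fact p.Prime] [Algebra (ZMod p) F] {G : Type*} [Group G] (u h : G)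
    (ν : F) (hd : (minpoly (ZMod p) ν).natDegree ≤ 2)
    (hm : wv p u h (minpoly (ZMod p) ν) = 1)
    (hc : (minpoly (ZMod p) ν).natDegree = 2 → Commute u (sh u h 1)) (i j : ℕ) :
    Commute (sh u h i) (sh u h j) := by
  have hint : IsIntegral (ZMod p) ν := IsIntegral.of_finite _ _
  have h1 : 0 < (minpoly (ZMod p) ν).natDegree := minpoly.natDegree_pos hint
  have hlast := sh_natDegree_mem p u h _ (minpoly.monic hint) hm
  set d := (minpoly (ZMod p) ν).natDegree
  refine commute_all (Set.Iio d) (fun a ha b hb => ?_) h1 (fun a ha => ?_) i j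
  · simp only [Set.mem_Iio] at ha hb
    rcases Nat.lt_or_ge d 2 with hlt | hge
    · rw [show a = b by omega]
    · have hd2 : d = 2 := by omega
      have hc' := hc hd2
      rcases (show a = 0 ∨ a = 1 by omega) with rfl | rfl <;>
        rcases (show b = 0 ∨ b = 1 by omega) with rfl | rfl
      · exact Commute.refl _
      · simpa using hc'
      · simpa using hc'.symm
      · exact Commute.refl _
  · simp only [Set.mem_Iio] at ha
    rcases Nat.lt_or_ge (a + 1) d with hlt | hge
    · exact Subgroup.subset_closure ⟨a + 1, hlt, rfl⟩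
    · rw [show a + 1 = d by omega]; exact hlast

/-- The relation family in which all shifts commute. -/
theorem commute_long (p : ℕ) {G : Type*} [Group G] (u h : G) (a b : ℕ) (f : (ZMod p)[X])
    (h1 : sh u h a = u * sh u h b) (h2 : sh u h a = sh u h b * u)
    (h3 : sh u h 1 = wv p u (h ^ b) f) (i j : ℕ) : Commute (sh u h i) (sh u h j) := by
  refine commute_all (Set.range (b * ·)) ?_ ⟨0, mul_zero b⟩ ?_ i j
  · rintro _ ⟨x, rfl⟩ _ ⟨y, rfl⟩
    beta_reduce
    wlog hxy : x ≤ y generalizing x y
    · exact (this y x (by omega)).symm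
    have := commute_shift (u := u) (h := h) (i := 0) (j := b * (y - x))
      (by rw [sh_zero]; exact commute_triangle h1 h2 (y - x)) (b * x)
    rwa [add_zero, ← Nat.mul_add, Nat.add_sub_cancel' hxy] at this
  · rintro _ ⟨x, rfl⟩
    beta_reduce
    set S := Subgroup.closure (sh u h '' Set.range (b * ·))
    have hle : Subgroup.closure (Set.range (sh u (h ^ b))) ≤
        S.comap (MulAut.conj (h ^ (b * x))).toMonoidHom := by
      rw [Subgroup.closure_le]
      rintro _ ⟨k, rfl⟩
      show h ^ (b * x) * sh u (h ^ b) k * (h ^ (b * x))⁻¹ ∈ S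
      rw [sh_pow, sh_add, ← Nat.mul_add]
      exact Subgroup.subset_closure ⟨_, ⟨x + k, rfl⟩, rfl⟩
    have h4 : h ^ (b * x) * sh u h 1 * (h ^ (b * x))⁻¹ ∈ S := by
      have h5 := hle (wv_mem_closure p u (h ^ b) f)
      rw [← h3] at h5
      exact h5
    rwa [sh_add] at h4

/-- In odd characteristic at most three relations make the shifts commute. -/
theorem exists_comm_rels (p : ℕ) [Fact p.Prime] [Algebra (ZMod p) F] (hp2 : p ≠ 2) (μ : F)
    (hgen : ∀ t : F, t ≠ 0 → ∃ i : ℕ, t = μ ^ i) (U H : FreeGroup (Fin 3)) :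
    ∃ L : List (FreeGroup (Fin 3)), L.length ≤ 3 ∧
      (∀ (T : Type _) [Group T] (π : FreeGroup (Fin 3) →* T) (φ : F → T),
        IsRoot φ (π U) (π H) (μ * μ) → ∀ r ∈ L, π r = 1) ∧
      ∀ (G : Type) [Group G] (ψ : FreeGroup (Fin 3) →* G), (∀ r ∈ L, ψ r = 1) →
        wv p (ψ U) (ψ H) (minpoly (ZMod p) (μ * μ)) = 1 →
        ∀ i j, Commute (sh (ψ U) (ψ H) i) (sh (ψ U) (ψ H) j) := by
  classical
  haveI : CharP F p := charP_of_injective_algebraMap (algebraMap (ZMod p) F).injective p
  obtain ⟨n, -, hq⟩ := FiniteField.card F p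
  have hq' : Fintype.card F = p ^ (n : ℕ) := hq
  by_cases hn : 3 ≤ (n : ℕ)
  · obtain ⟨y, r, hr0, hy0, ⟨s, hs⟩, hyr, hpoly⟩ := exists_consecutive_squares p hp2 hq' hn
    obtain ⟨a, ha⟩ := hgen r hr0
    have hs0 : s ≠ 0 := by rintro rfl; simp [hs] at hy0
    obtain ⟨b, hb⟩ := hgen s hs0
    obtain ⟨f, hf⟩ := hpoly (μ * μ)
    have hyb : y = (μ * μ) ^ b := by rw [hs, hb, mul_pow]
    have hya : (μ * μ) ^ a = 1 + y := by rw [mul_pow, ← ha, ← hyr, add_comm]
    refine ⟨[sh U H a * (U * sh U H b)⁻¹, sh U H a * (sh U H b * U)⁻¹,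
      sh U H 1 * (wv p U (H ^ b) f)⁻¹], by simp, fun T _ π φ R x hx => ?_, fun G _ ψ hL _ => ?_⟩
    · have e0 : π U = φ 1 := R.one.symm
      simp only [List.mem_cons, List.not_mem_nil, or_false] at hx
      rcases hx with rfl | rfl | rfl
      · rw [map_mul, map_inv, mul_inv_eq_one, map_mul, map_sh, map_sh, R.shift, R.shift, e0, hya,
          R.add, ← hyb]
      · rw [map_mul, map_inv, mul_inv_eq_one, map_mul, map_sh, map_sh, R.shift, R.shift, e0, hya,
          add_comm, R.add, ← hyb]
      · rw [map_mul, map_inv, mul_inv_eq_one, map_sh, map_wv, map_pow, R.shift, R.wv_pow_eq, ← hyb,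
          hf, pow_one]
    · have h1 := hL _ (List.mem_cons_self ..)
      have h2 := hL _ (List.mem_cons_of_mem _ (List.mem_cons_self ..))
      have h3 := hL _ (List.mem_cons_of_mem _ (List.mem_cons_of_mem _ (List.mem_cons_self ..)))
      simp only [map_mul, map_inv, mul_inv_eq_one, map_sh, map_wv, map_pow] at h1 h2 h3
      exact commute_long p _ _ a b f h1 h2 h3
  · have hd : (minpoly (ZMod p) (μ * μ)).natDegree ≤ 2 := by
      refine le_trans (minpoly.natDegree_le _) ?_
      have hc := Module.card_eq_pow_finrank (K := ZMod p) (V := F)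
      rw [hq', ZMod.card] at hc
      have := Nat.pow_right_injective (Fact.out : p.Prime).two_le hc
      omega
    refine ⟨[U * sh U H 1 * (sh U H 1 * U)⁻¹], by simp, fun T _ π φ R x hx => ?_,
      fun G _ ψ hL hm i j => ?_⟩
    · rw [List.mem_singleton] at hx
      subst hx
      rw [map_mul, map_inv, mul_inv_eq_one, map_mul, map_mul, map_sh, R.shift, ← R.one, ← R.add,
        ← R.add, add_comm]
    · refine commute_small p _ _ (μ * μ) hd hm (fun _ => ?_) i j
      have h1 := hL _ (List.mem_singleton_self _)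
      simp only [map_mul, map_inv, mul_inv_eq_one, map_sh] at h1
      exact h1

end CfsgLib.SLPres
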