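import Cfsg.Agent.Lib.SLPres.NGlue
import Cfsg.Agent.Lib.SLPres.Presents
import Cfsg.Agent.Lib.SLPres.ThreeModel
import Cfsg.Agent.Lib.AltPres.General

/-!
# Nine generators and sixty-seven relations for every `SL_n`
-/

set_option autoImplicit false

namespace CfsgLib.SLPres

open Equiv
open scoped MatrixGroups

variable {n : ℕ}

/-- Five elements generate the even permutations fixing two points. -/
theorem exists_stab_gens (hn : 4 ≤ n) :
    ∃ K : List (alternatingGroup (Fin n)), K.length ≤ 5 ∧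
      (∀ σ ∈ K, (σ : Perm (Fin n)) (Fin.castLE hn 0) = Fin.castLE hn 0 ∧
        (σ : Perm (Fin n)) (Fin.castLE hn 1) = Fin.castLE hn 1) ∧
      ∀ σ : alternatingGroup (Fin n), (σ : Perm (Fin n)) (Fin.castLE hn 0) = Fin.castLE hn 0 →
        (σ : Perm (Fin n)) (Fin.castLE hn 1) = Fin.castLE hn 1 → σ ∈ Subgroup.closure {x | x ∈ K} := by
  classical
  set a := Fin.castLE hn (0 : Fin 4)
  set b := Fin.castLE hn (1 : Fin 4)
  have hab : a ≠ b := pt_ne hn (by decide)
  let f : alternatingGroup {x : Fin n // x ∉ ({a, b} : Finset (Fin n))} →* alternatingGroup (Fin n) :=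
    { toFun := fun σ => ⟨Perm.ofSubtype (σ : Perm {x : Fin n // x ∉ ({a, b} : Finset (Fin n))}), by
        rw [Perm.mem_alternatingGroup, Perm.sign_ofSubtype]; exact Perm.mem_alternatingGroup.mp σ.2⟩
      map_one' := Subtype.ext (map_one _)
      map_mul' := fun σ τ => Subtype.ext (map_mul _ _ _) }
  have hfix : ∀ σ, ∀ x ∈ ({a, b} : Finset (Fin n)), (f σ : Perm (Fin n)) x = x := fun σ x hx =>
    Perm.ofSubtype_apply_of_not_mem _ (not_not_intro hx)
  have hm : Fintype.card {x : Fin n // x ∉ ({a, b} : Finset (Fin n))} = n - 2 := by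
    rw [Fintype.card_subtype_compl, Fintype.card_coe, Finset.card_pair hab, Fintype.card_fin]
  let e := Equiv.altCongrHom (Fintype.equivOfCardEq (show Fintype.card (Fin (n - 2)) =
    Fintype.card {x : Fin n // x ∉ ({a, b} : Finset (Fin n))} by rw [hm, Fintype.card_fin]))
  obtain ⟨K₀, hK, hK₀⟩ : ∃ K₀ : List (alternatingGroup (Fin (n - 2))), K₀.length ≤ 5 ∧
      Subgroup.closure {x | x ∈ K₀} = ⊤ := by
    rcases Nat.lt_or_ge n 6 with h | h
    · refine ⟨Finset.univ.toList, ?_, ?_⟩
      · rw [Finset.length_toList, Finset.card_univ]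
        rcases (show n - 2 = 2 ∨ n - 2 = 3 by omega) with h' | h' <;> rw [h'] <;> decide
      · rw [eq_top_iff]; exact fun x _ => Subgroup.subset_closure (by simp)
    · obtain ⟨L, π, -, hπ, -, -⟩ := AltPres.alt_presentation (n - 2) (by omega)
      refine ⟨List.ofFn fun i => π (.of i), by simp, ?_⟩
      rw [eq_top_iff]
      rintro x -
      obtain ⟨w, rfl⟩ := hπ x
      set N := Subgroup.closure {x | x ∈ List.ofFn fun i => π (.of i)}
      induction w using FreeGroup.induction_on with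
      | C1 => simpa using one_mem N
      | of i => exact Subgroup.subset_closure (List.mem_ofFn.mpr ⟨i, rfl⟩)
      | inv_of i ih => rw [map_inv]; exact inv_mem ih
      | mul x y hx hy => rw [map_mul]; exact mul_mem hx hy
  refine ⟨K₀.map (f.comp e.toMonoidHom), by simpa using hK, fun σ hσ => ?_, fun σ ha hb => ?_⟩
  · obtain ⟨τ, -, rfl⟩ := List.mem_map.mp hσ
    exact ⟨hfix (e τ) a (by simp), hfix (e τ) b (by simp)⟩
  · have hp : ∀ x, (σ : Perm (Fin n)) x ∉ ({a, b} : Finset (Fin n)) ↔ x ∉ ({a, b} : Finset (Fin n)) := by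
      intro x
      simp only [Finset.mem_insert, Finset.mem_singleton, not_or]
      conv_lhs => rw [← ha, ← hb]
      simp [(σ : Perm (Fin n)).injective.eq_iff]
    have hmoved : ∀ x, (σ : Perm (Fin n)) x ≠ x → x ∉ ({a, b} : Finset (Fin n)) := by
      intro x hx hxm
      simp only [Finset.mem_insert, Finset.mem_singleton] at hxm
      rcases hxm with rfl | rfl
      exacts [hx ha, hx hb]
    let σ' : alternatingGroup {x : Fin n // x ∉ ({a, b} : Finset (Fin n))} :=
      ⟨(σ : Perm (Fin n)).subtypePerm hp, by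
        rw [Perm.mem_alternatingGroup, Perm.sign_subtypePerm _ _ hmoved]
        exact Perm.mem_alternatingGroup.mp σ.2⟩
    have hσ : σ = f (e (e.symm σ')) := by
      rw [e.apply_symm_apply]
      exact Subtype.ext (Perm.ofSubtype_subtypePerm hp hmoved).symm
    rw [hσ, show {x | x ∈ K₀.map (f.comp e.toMonoidHom)} = (f.comp e.toMonoidHom) '' {x | x ∈ K₀} by
      ext x; simp, ← MonoidHom.map_closure, hK₀]
    exact ⟨e.symm σ', Subgroup.mem_top _, rfl⟩

variable {F : Type*} [Field F] [Fintype F]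

theorem exists_sq_add (S : Set F) (h0 : (0 : F) ∈ S) (h1 : (1 : F) ∈ S)
    (hadd : ∀ x ∈ S, ∀ y ∈ S, x + y ∈ S) (hneg : ∀ x ∈ S, -x ∈ S) (hsq : ∀ a : F, a ≠ 0 → a * a ∈ S)
    (t : F) : t ∈ S := by
  have hsq' : ∀ a : F, a * a ∈ S := fun a => by
    by_cases ha : a = 0
    · rwa [ha, mul_zero]
    · exact hsq a ha
  by_cases h2 : (2 : F) = 0
  · have : ringChar F = 2 := by
      haveI := ringChar.charP F
      have hd : ringChar F ∣ 2 := (CharP.cast_eq_zero_iff F (ringChar F) 2).mp (by exact_mod_cast h2)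
      rcases (Nat.dvd_prime Nat.prime_two).mp hd with h | h
      · exact absurd h (CharP.ringChar_ne_one)
      · exact h
    obtain ⟨a, ha⟩ := FiniteField.isSquare_of_char_two this t
    exact ha ▸ hsq' a
  · have : t = ((t + 1) / 2) * ((t + 1) / 2) + -(((t - 1) / 2) * ((t - 1) / 2)) := by
      field_simp; ring
    rw [this]
    exact hadd _ (hsq' _) _ (hneg _ (hsq' _))

/-- The first root group lies in the subgroup generated by one root element and the torus. -/
theorem tr3_mem_closure (μ : F) (hμ : μ ≠ 0) (hgen : ∀ t : F, t ≠ 0 → ∃ i : ℕ, t = μ ^ i) (t : F) :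
    (tr3 0 1 t : SL(3, F)) ∈ Subgroup.closure {tr3 0 1 1, hel tr3 0 1 μ} := by
  set S := Subgroup.closure ({tr3 0 1 1, hel tr3 0 1 μ} : Set SL(3, F))
  have hu : (tr3 0 1 1 : SL(3, F)) ∈ S := Subgroup.subset_closure (Or.inl rfl)
  have hh : (hel tr3 0 1 μ : SL(3, F)) ∈ S := Subgroup.subset_closure (Or.inr rfl)
  have hadd : ∀ x y : F, (tr3 0 1 (x + y) : SL(3, F)) = tr3 0 1 x * tr3 0 1 y := fun x y => by
    apply Subtype.ext
    simp only [Matrix.SpecialLinearGroup.coe_mul, ne_eq, Fin.reduceEq, not_false_eq_true, coe_tr3]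
    ext a b; fin_cases a <;> fin_cases b <;>
      simp [Matrix.mul_apply, Fin.sum_univ_three, Matrix.one_apply, add_comm]
  have h0 : (tr3 0 1 0 : SL(3, F)) = 1 := by
    have := hadd 0 0
    rw [add_zero] at this
    exact left_eq_mul.mp this
  have hsc : ∀ x : F, (tr3 0 1 (μ * μ * x) : SL(3, F)) = hel tr3 0 1 μ * tr3 0 1 x * (hel tr3 0 1 μ)⁻¹ := by
    intro x
    rw [eq_mul_inv_iff_mul_eq]
    apply Subtype.ext
    simp only [Matrix.SpecialLinearGroup.coe_mul, ne_eq, Fin.reduceEq, not_false_eq_true, coe_tr3,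
      hel_zero_one _ hμ]
    ext a b; fin_cases a <;> fin_cases b <;>
      simp [Matrix.mul_apply, Fin.sum_univ_three, Matrix.one_apply] <;> field_simp
  have hpow : ∀ i : ℕ, (tr3 0 1 (μ ^ i * μ ^ i) : SL(3, F)) ∈ S := by
    intro i
    induction i with
    | zero => simpa using hu
    | succ k ih =>
      rw [show μ ^ (k + 1) * μ ^ (k + 1) = μ * μ * (μ ^ k * μ ^ k) by ring, hsc]
      exact mul_mem (mul_mem hh ih) (inv_mem hh)
  refine exists_sq_add {x : F | (tr3 0 1 x : SL(3, F)) ∈ S} ?_ hu (fun x hx y hy => ?_) (fun x hx => ?_)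
    (fun a ha => ?_) t
  · show (tr3 0 1 0 : SL(3, F)) ∈ S
    rw [h0]; exact one_mem _
  · show (tr3 0 1 (x + y) : SL(3, F)) ∈ S
    rw [hadd]; exact mul_mem hx hy
  · show (tr3 0 1 (-x) : SL(3, F)) ∈ S
    have : (tr3 0 1 (-x) : SL(3, F)) = (tr3 0 1 x)⁻¹ := by
      refine (inv_eq_of_mul_eq_one_right ?_).symm
      rw [← hadd, add_neg_cancel, h0]
    rw [this]; exact inv_mem hx
  · obtain ⟨i, rfl⟩ := hgen a ha
    exact hpow i

/-- Agreement on two opposite root groups passes to the torus element. -/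
theorem agree_two {H : Type*} [Group H] (f g : SL(3, F) →* H)
    (h : ∀ t, f (tr3 0 1 t) = g (tr3 0 1 t) ∧ f (tr3 1 0 t) = g (tr3 1 0 t)) (μ : F) :
    f (tr3 0 1 1) = g (tr3 0 1 1) ∧ f (hel tr3 0 1 μ) = g (hel tr3 0 1 μ) :=
  ⟨(h 1).1, by simp only [hel, wel, map_mul, (h _).1, (h _).2]⟩

theorem pad_tr3 (hn : 4 ≤ n) {a b : Fin 3} (h : a ≠ b) (t : F) :
    padHom (e3 hn) (e3_injective hn) (tr3 a b t) =
      Matrix.SpecialLinearGroup.transvection ((e3_injective hn).ne h) t := by
  rw [tr3, dif_neg h, padHom_transvection]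

set_option maxHeartbeats 1000000 in
/-- `SL_n(q)`, `n ≥ 4`, has nine generators and at most sixty-seven relations. -/
theorem n_presents (hn : 4 ≤ n) : Presents SL(n, F) 9 67 := by
  classical
  obtain ⟨μ, hμ, -, -, hgen⟩ := exists_primitive (F := F)
  obtain ⟨La, πa, hLa, hsa, hra, hca⟩ := presents_of_presented (three_presentation (F := F))
  obtain ⟨Lb, πb, hLb, hsb, hrb, hcb⟩ := AltPres.alt_presentation n hn
  obtain ⟨K, hK, hKfix, hKgen⟩ := exists_stab_gens hn
  set ia : FreeGroup (Fin 4) →* FreeGroup (Fin 9) := FreeGroup.map (Fin.castAdd 5) with hia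
  set ib : FreeGroup (Fin 5) →* FreeGroup (Fin 9) := FreeGroup.map (Fin.natAdd 4) with hib
  set emb := padHom (F := F) (e3 hn) (e3_injective hn) with hemb
  set prm := altMatHom (ι := Fin n) (F := F) with hprm
  set π : FreeGroup (Fin 9) →* SL(n, F) := FreeGroup.lift
    (Fin.append (fun i => emb (πa (.of i))) fun i => prm (πb (.of i))) with hπdef
  have hπa : ∀ x, π (ia x) = emb (πa x) := fun x => by
    have : π.comp ia = emb.comp πa := FreeGroup.ext_hom _ _ fun i => by
      simp only [MonoidHom.comp_apply, hia, FreeGroup.map.of, hπdef, FreeGroup.lift_apply_of,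
        Fin.append_left]
    exact DFunLike.congr_fun this x
  have hπb : ∀ x, π (ib x) = prm (πb x) := fun x => by
    have : π.comp ib = prm.comp πb := FreeGroup.ext_hom _ _ fun i => by
      simp only [MonoidHom.comp_apply, hib, FreeGroup.map.of, hπdef, FreeGroup.lift_apply_of,
        Fin.append_right]
    exact DFunLike.congr_fun this x
  choose pa hpa using hsa
  choose pb hpb using hsb
  let cj : alternatingGroup (Fin n) → SL(3, F) → FreeGroup (Fin 9) :=
    fun σ x => ib (pb σ) * ia (pa x) * (ib (pb σ))⁻¹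
  have hπcj : ∀ σ x, π (cj σ x) = prm σ * emb x * (prm σ)⁻¹ := fun σ x => by
    simp only [cj, map_mul, map_inv, hπa, hπb, hpa, hpb]
  let P : List SL(3, F) := [tr3 0 1 1, hel tr3 0 1 μ]
  let σ₀ := swap (0 : Fin 3) 1
  let Ls := K.flatMap fun σ => P.map fun x => cj σ x * (ia (pa x))⁻¹
  let Lr := P.map fun x => cj (rho hn) x * (ia (pa (padHom σ₀ σ₀.injective x)))⁻¹
  let Ld := [par1 hn, par2 hn].flatMap fun p => P.flatMap fun x =>
    P.map fun y => ia (pa x) * cj p y * (cj p y * ia (pa x))⁻¹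
  refine ⟨La.map ia ++ Lb.map ib ++ [ib (pb (sig3 hn)) * (ia (pa (altMatHom cyc)))⁻¹] ++ Ls ++ Lr ++ Ld,
    π, ?_, ?_, fun z hz => ?_, fun G _ ψ hψ hL => ?_⟩
  · simp only [List.length_append, List.length_map, List.length_cons, List.length_nil, Ls, Lr, Ld,
      List.length_flatMap, List.map_cons, List.map_nil, List.sum_cons, List.sum_nil, P,
      List.map_const', List.sum_replicate, smul_eq_mul]
    omega
  · haveI : Nontrivial (Fin n) := Fin.nontrivial_iff_two_le.mpr (by omega)
    rw [← MonoidHom.range_eq_top, eq_top_iff, ← Classical.closure_transvection_eq_top (ι := Fin n) (F := F)]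
    rw [Subgroup.closure_le]
    rintro _ ⟨i, j, hij, t, rfl⟩
    obtain ⟨σ, hi, hj⟩ := exists_even_two hn hij
    have e := altMat_transvection (F := F) σ ((e3_injective hn).ne (show (0 : Fin 3) ≠ 1 by decide)) t
    simp only [show (σ : Perm (Fin n)) (e3 hn 0) = i from hi, show (σ : Perm (Fin n)) (e3 hn 1) = j from hj] at e
    rw [← e, ← pad_tr3 hn (show (0 : Fin 3) ≠ 1 by decide)]
    refine ⟨cj σ (tr3 0 1 t), ?_⟩
    rw [hπcj]
  · have hconj : ∀ (σ : alternatingGroup (Fin n)) (a b c d : Fin 3) (hab : a ≠ b) (hcd : c ≠ d) (t : F),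
        (σ : Perm (Fin n)) (e3 hn a) = e3 hn c → (σ : Perm (Fin n)) (e3 hn b) = e3 hn d →
        prm σ * emb (tr3 a b t) * (prm σ)⁻¹ = emb (tr3 c d t) := by
      intro σ a b c d hab hcd t hi hj
      rw [hemb, pad_tr3 hn hab, pad_tr3 hn hcd, hprm, altMat_transvection]
      apply Subtype.ext
      rw [Matrix.SpecialLinearGroup.transvection_coe, Matrix.SpecialLinearGroup.transvection_coe, hi, hj]
    simp only [List.mem_append, List.mem_map, List.mem_singleton] at hz
    rcases hz with ((((⟨x, hx, rfl⟩ | ⟨x, hx, rfl⟩) | rfl) | hz) | hz) | hz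
    · rw [hπa, hra x hx, map_one]
    · rw [hπb, hrb x hx, map_one]
    · rw [map_mul, map_inv, hπa, hπb, hpa, hpb, hemb, hprm,
        padHom_altMat (e3 hn) (e3_injective hn) cyc (sig3 hn) (sig3_apply hn) (sig3_fix hn), mul_inv_cancel]
    · obtain ⟨σ, hσ, x, hx, rfl⟩ : ∃ σ ∈ K, ∃ x ∈ P, cj σ x * (ia (pa x))⁻¹ = z := by
        simpa [Ls] using hz
      obtain ⟨h0, h1⟩ := hKfix σ hσ
      obtain ⟨a1, a2⟩ := agree_two ((MulAut.conj (prm σ)).toMonoidHom.comp emb) emb (fun t =>
        ⟨hconj σ 0 1 0 1 (by decide) (by decide) t h0 h1,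
          hconj σ 1 0 1 0 (by decide) (by decide) t h1 h0⟩) μ
      rw [map_mul, map_inv, hπcj, hπa, hpa, mul_inv_eq_one]
      simp only [P, List.mem_cons, List.not_mem_nil, or_false] at hx
      rcases hx with rfl | rfl
      exacts [a1, a2]
    · obtain ⟨x, hx, rfl⟩ : ∃ x ∈ P, cj (rho hn) x * (ia (pa (padHom σ₀ σ₀.injective x)))⁻¹ = z := by
        simpa [Lr] using hz
      have hr0 : ((rho hn : alternatingGroup (Fin n)) : Perm (Fin n)) (e3 hn 0) = e3 hn 1 := by
        simp [rho, e3, swap_apply_def, (Fin.castLE_injective hn).eq_iff]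
      have hr1 : ((rho hn : alternatingGroup (Fin n)) : Perm (Fin n)) (e3 hn 1) = e3 hn 0 := by
        simp [rho, e3, swap_apply_def, (Fin.castLE_injective hn).eq_iff]
      have hpd : ∀ (a b : Fin 3), a ≠ b → ∀ t : F,
          padHom σ₀ σ₀.injective (tr3 a b t) = tr3 (σ₀ a) (σ₀ b) t := fun a b hab t => by
        rw [tr3, dif_neg hab, padHom_transvection, tr3, dif_neg (σ₀.injective.ne hab)]
      obtain ⟨a1, a2⟩ := agree_two ((MulAut.conj (prm (rho hn))).toMonoidHom.comp emb)
        (emb.comp (padHom σ₀ σ₀.injective)) (fun t => by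
        refine ⟨(hconj _ 0 1 1 0 (by decide) (by decide) t hr0 hr1).trans ?_,
          (hconj _ 1 0 0 1 (by decide) (by decide) t hr1 hr0).trans ?_⟩ <;>
        rw [MonoidHom.comp_apply, hpd _ _ (by decide)] <;>
        simp only [σ₀, swap_apply_left, swap_apply_right]) μ
      rw [map_mul, map_inv, hπcj, hπa, hpa, mul_inv_eq_one]
      simp only [P, List.mem_cons, List.not_mem_nil, or_false] at hx
      rcases hx with rfl | rfl
      exacts [a1, a2]
    · obtain ⟨p, hp, x, hx, y, hy, rfl⟩ : ∃ p ∈ [par1 hn, par2 hn], ∃ x ∈ P, ∃ y ∈ P,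
          ia (pa x) * cj p y * (cj p y * ia (pa x))⁻¹ = z := by
        simpa [Ld, List.mem_flatMap] using hz
      rw [map_mul, map_inv, mul_inv_eq_one, map_mul, map_mul π (cj p y), hπcj, hπa, hpa]
      set S : Set SL(3, F) := {g | ∃ t, g = tr3 0 1 t ∨ g = tr3 1 0 t}
      have hS : ∀ w ∈ P, w ∈ Subgroup.closure S := by
        intro w hw
        have m1 : ∀ t, (tr3 0 1 t : SL(3, F)) ∈ Subgroup.closure S :=
          fun t => Subgroup.subset_closure ⟨t, Or.inl rfl⟩
        have m2 : ∀ t, (tr3 1 0 t : SL(3, F)) ∈ Subgroup.closure S :=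
          fun t => Subgroup.subset_closure ⟨t, Or.inr rfl⟩
        simp only [P, List.mem_cons, List.not_mem_nil, or_false] at hw
        rcases hw with rfl | rfl
        · exact m1 1
        · exact mul_mem (mul_mem (mul_mem (m1 _) (m2 _)) (m1 _)) (mul_mem (mul_mem (m1 _) (m2 _)) (m1 _))
      have key : ∀ u ∈ S, ∀ v ∈ S, Commute (emb u) (prm p * emb v * (prm p)⁻¹) := by
        have hp4 : (((p : Perm (Fin n)) (e3 hn 0) = Fin.castLE hn 2 ∧
            (p : Perm (Fin n)) (e3 hn 1) = Fin.castLE hn 3)) ∨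
            ((p : Perm (Fin n)) (e3 hn 0) = Fin.castLE hn 3 ∧
            (p : Perm (Fin n)) (e3 hn 1) = Fin.castLE hn 2) := by
          simp only [List.mem_cons, List.not_mem_nil, or_false] at hp
          rcases hp with rfl | rfl
          · left; simp [par1, e3, swap_apply_def, (Fin.castLE_injective hn).eq_iff]
          · right; simp [par2, e3, swap_apply_def, (Fin.castLE_injective hn).eq_iff]
        rintro u ⟨s, hu⟩ v ⟨t, hv⟩
        rcases hu with rfl | rfl <;> rcases hv with rfl | rfl <;>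
          rw [hemb, pad_tr3 hn (by decide), pad_tr3 hn (by decide), hprm, altMat_transvection] <;>
          refine transvection_commute _ _ ?_ ?_ s t <;>
          rcases hp4 with ⟨q0, q1⟩ | ⟨q0, q1⟩ <;> simp only [q0, q1] <;>
          exact pt_ne hn (by decide)
      have hc : Commute (emb x) (prm p * emb y * (prm p)⁻¹) := by
        have step : ∀ u ∈ S, Commute (emb u) (prm p * emb y * (prm p)⁻¹) := fun u hu => by
          refine (commute_of_closure (s := ((MulAut.conj (prm p)).toMonoidHom.comp emb) '' S) ?_ ?_).symm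
          · rintro _ ⟨v, hv, rfl⟩; exact (key u hu v hv).symm
          · rw [← MonoidHom.map_closure]; exact ⟨y, hS y hy, rfl⟩
        refine commute_of_closure (s := emb '' S) ?_ ?_
        · rintro _ ⟨u, hu, rfl⟩; exact step u hu
        · rw [← MonoidHom.map_closure]; exact ⟨x, hS x hx, rfl⟩
      exact hc.eq
  · have hmem : ∀ z, (z ∈ La.map ia ∨ z ∈ Lb.map ib ∨
        z = ib (pb (sig3 hn)) * (ia (pa (altMatHom cyc)))⁻¹ ∨ z ∈ Ls ∨ z ∈ Lr ∨ z ∈ Ld) → ψ z = 1 := by
      intro z hz
      refine hL z ?_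
      simp only [List.mem_append, List.mem_singleton]
      tauto
    obtain ⟨θ, hθ⟩ := Presents.factor (fun x => ⟨pa x, hpa x⟩) hra hca G (ψ.comp ia)
      (fun r hr => hmem _ (Or.inl (List.mem_map_of_mem hr)))
    obtain ⟨τ, hτ⟩ := Presents.factor (fun x => ⟨pb x, hpb x⟩) hrb hcb G (ψ.comp ib)
      (fun r hr => hmem _ (Or.inr (Or.inl (List.mem_map_of_mem hr))))
    have hψa : ∀ x, ψ (ia (pa x)) = θ x := fun x => by
      rw [← MonoidHom.comp_apply ψ ia, ← hθ, hpa]
    have hψb : ∀ σ, ψ (ib (pb σ)) = τ σ := fun σ => by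
      rw [← MonoidHom.comp_apply ψ ib, ← hτ, hpb]
    have hψcj : ∀ σ x, ψ (cj σ x) = τ σ * θ x * (τ σ)⁻¹ := fun σ x => by
      simp only [cj, map_mul, map_inv, hψa, hψb]
    have hP : ∀ x ∈ ({tr3 0 1 1, hel tr3 0 1 μ} : Set SL(3, F)), x ∈ P := by
      rintro x (rfl | rfl) <;> simp [P]
    have hlift := fun t => tr3_mem_closure μ hμ hgen t
    refine card_of_glue hn θ τ ?_ ?_ ?_ ?_ ?_
    · have := hmem _ (Or.inr (Or.inr (Or.inl rfl)))
      rwa [map_mul, map_inv, hψa, hψb, mul_inv_eq_one] at this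
    · intro σ h0 h1 t
      have hgen' : ∀ k ∈ K, ∀ x ∈ P, Commute (τ k) (θ x) := by
        intro k hk x hx
        have := hmem (cj k x * (ia (pa x))⁻¹) (Or.inr (Or.inr (Or.inr (Or.inl (by
          simp only [Ls, List.mem_flatMap, List.mem_map]
          exact ⟨k, hk, x, hx, rfl⟩)))))
        rw [map_mul, map_inv, hψcj, hψa, mul_inv_eq_one, mul_inv_eq_iff_eq_mul] at this
        exact this
      have hσ : ∀ x ∈ P, Commute (τ σ) (θ x) := fun x hx =>
        commute_of_closure (s := τ '' {k | k ∈ K}) (by rintro _ ⟨k, hk, rfl⟩; exact hgen' k hk x hx)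
          (by rw [← MonoidHom.map_closure]; exact ⟨σ, hKgen σ h0 h1, rfl⟩)
      refine (commute_of_closure (s := θ '' ({tr3 0 1 1, hel tr3 0 1 μ} : Set SL(3, F))) ?_ ?_).symm
      · rintro _ ⟨x, hx, rfl⟩; exact (hσ x (hP x hx)).symm
      · rw [← MonoidHom.map_closure]; exact ⟨_, hlift t, rfl⟩
    · intro t
      have he := MonoidHom.eqOn_closure
        (f := (MulAut.conj (τ (rho hn))).toMonoidHom.comp θ) (g := θ.comp (padHom σ₀ σ₀.injective))
        (s := ({tr3 0 1 1, hel tr3 0 1 μ} : Set SL(3, F))) (fun x hx => by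
          have := hmem (cj (rho hn) x * (ia (pa (padHom σ₀ σ₀.injective x)))⁻¹)
            (Or.inr (Or.inr (Or.inr (Or.inr (Or.inl (List.mem_map.mpr ⟨x, hP x hx, rfl⟩))))))
          rw [map_mul, map_inv, hψcj, hψa, mul_inv_eq_one] at this
          exact this) (hlift t)
      refine Eq.trans he ?_
      rw [MonoidHom.comp_apply]
      congr 1
      rw [tr3, dif_neg (by decide : (0 : Fin 3) ≠ 1), padHom_transvection, tr3,
        dif_neg (by decide : (1 : Fin 3) ≠ 0)]
      rfl
    · intro s t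
      have hd : ∀ p ∈ [par1 hn, par2 hn], ∀ x ∈ P, ∀ y ∈ P,
          Commute (θ x) (τ p * θ y * (τ p)⁻¹) := by
        intro p hp x hx y hy
        have := hmem (ia (pa x) * cj p y * (cj p y * ia (pa x))⁻¹)
          (Or.inr (Or.inr (Or.inr (Or.inr (Or.inr (by
            simp only [Ld, List.mem_flatMap, List.mem_map]
            exact ⟨p, hp, x, hx, y, hy, rfl⟩))))))
        rw [map_mul, map_inv, mul_inv_eq_one, map_mul, map_mul ψ (cj p y), hψcj, hψa] at this
        exact this
      have hfull : ∀ p ∈ [par1 hn, par2 hn],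
          Commute (θ (tr3 0 1 s)) (τ p * θ (tr3 0 1 t) * (τ p)⁻¹) := by
        intro p hp
        have step : ∀ x ∈ P, Commute (θ x) (τ p * θ (tr3 0 1 t) * (τ p)⁻¹) := fun x hx => by
          refine (commute_of_closure (s := ((MulAut.conj (τ p)).toMonoidHom.comp θ) ''
            ({tr3 0 1 1, hel tr3 0 1 μ} : Set SL(3, F))) ?_ ?_).symm
          · rintro _ ⟨y, hy, rfl⟩; exact (hd p hp x hx y (hP y hy)).symm
          · rw [← MonoidHom.map_closure]; exact ⟨_, hlift t, rfl⟩
        refine commute_of_closure (s := θ '' ({tr3 0 1 1, hel tr3 0 1 μ} : Set SL(3, F))) ?_ ?_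
        · rintro _ ⟨x, hx, rfl⟩; exact step x (hP x hx)
        · rw [← MonoidHom.map_closure]; exact ⟨_, hlift s, rfl⟩
      exact ⟨hfull _ (by simp), hfull _ (by simp)⟩
    · rw [eq_top_iff, ← MonoidHom.range_eq_top.mpr hψ]
      rintro _ ⟨x, rfl⟩
      induction x using FreeGroup.induction_on with
      | C1 => rw [map_one]; exact one_mem _
      | of i =>
        show ψ (.of i) ∈ _
        induction i using Fin.addCases (m := 4) (n := 5) with
        | left i =>
          refine Subgroup.mem_sup_left ⟨πa (.of i), ?_⟩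
          rw [hθ]; simp [hia]
        | right i =>
          refine Subgroup.mem_sup_right ⟨πb (.of i), ?_⟩
          rw [hτ]; simp [hib]
      | inv_of i ih => rw [map_inv]; exact inv_mem ih
      | mul a b ha hb => rw [map_mul]; exact mul_mem ha hb

end CfsgLib.SLPres
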