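import Mathlib

/-!
# Additive groups generated by the shifts of one element

If `u` is conjugated by powers of `h`, few relations make the shifts commute and turn their
subgroup into a quotient of the polynomial ring.
-/

set_option autoImplicit false

namespace CfsgLib.SLPres

open Polynomial

variable {G : Type*} [Group G]

/-- The shift `h ^ k * u * h ^ (-k)`. -/
def sh (u h : G) (k : ℕ) : G := h ^ k * u * (h ^ k)⁻¹

/-- The word of a polynomial over `ZMod p` in the shifts of `u`. -/
def wv (p : ℕ) (u h : G) (f : (ZMod p)[X]) : G :=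
  ((List.range (f.natDegree + 1)).map fun i => sh u h i ^ (f.coeff i).val).prod

theorem map_wv {H : Type*} [Group H] (π : G →* H) (p : ℕ) (u h : G) (f : (ZMod p)[X]) :
    π (wv p u h f) = wv p (π u) (π h) f := by
  simp only [wv, map_list_prod, List.map_map]
  congr 1
  refine List.map_congr_left fun i _ => ?_
  simp [sh]

@[simp] theorem sh_zero (u h : G) : sh u h 0 = u := by simp [sh]

theorem sh_one (u h : G) : sh u h 1 = h * u * h⁻¹ := by simp [sh]

theorem sh_add (u h : G) (i j : ℕ) : h ^ i * sh u h j * (h ^ i)⁻¹ = sh u h (i + j) := by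
  simp only [sh, pow_add, mul_inv_rev]; group

theorem sh_pow (u h : G) (b k : ℕ) : sh u (h ^ b) k = sh u h (b * k) := by
  simp only [sh, ← pow_mul]

theorem commute_shift {u h : G} {i j : ℕ} (hc : Commute (sh u h i) (sh u h j)) (k : ℕ) :
    Commute (sh u h (k + i)) (sh u h (k + j)) := by
  rw [← sh_add, ← sh_add]
  exact (Commute.conj_iff (h ^ k)).mpr hc

/-- The triangle argument: `v a = u * v b = v b * u` makes `u` commute with all `v (b * n)`. -/
theorem commute_triangle {u h : G} {a b : ℕ} (h1 : sh u h a = u * sh u h b)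
    (h2 : sh u h a = sh u h b * u) (n : ℕ) : Commute u (sh u h (b * n)) := by
  induction n using Nat.strong_induction_on with
  | _ n ih =>
    rcases n with _ | _ | m
    · simp
    · rw [zero_add, mul_one]; exact h1.symm.trans h2
    · set v : ℕ → G := fun k => sh u h (b * k) with hv
      have hvv : ∀ i j, i ≤ j → j - i < m + 2 → Commute (v i) (v j) := by
        intro i j hij hlt
        have := commute_shift (u := u) (h := h) (i := 0) (j := b * (j - i))
          (by rw [sh_zero]; exact ih _ hlt) (b * i)
        rwa [add_zero, ← Nat.mul_add, Nat.add_sub_cancel' hij] at this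
      -- the shifted relation
      have hs : sh u h (a + b * (m + 1)) = v (m + 1) * v (m + 2) := by
        rw [add_comm, ← sh_add, h1]
        show _ = sh u h (b * (m + 1)) * sh u h (b * (m + 2))
        rw [show b * (m + 2) = b * (m + 1) + b by ring, ← sh_add u h (b * (m + 1)) b]
        simp only [sh]
        group
      have hc := commute_shift (u := u) (h := h) (i := 0) (j := b * (m + 1))
        (by rw [sh_zero]; exact ih _ (by omega)) a
      rw [add_zero, h1, hs, show sh u h b = v 1 by simp [hv]] at hc
      have h0 : v 0 = u := by simp [hv]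
      have c1 : Commute (v 1) (v (m + 1)) := hvv 1 (m + 1) (by omega) (by omega)
      have c2 : Commute (v 1) (v (m + 2)) := hvv 1 (m + 2) (by omega) (by omega)
      have c3 : Commute u (v (m + 1)) := h0 ▸ hvv 0 (m + 1) (by omega) (by omega)
      have c4 : Commute (v 1) u := (h0 ▸ hvv 0 1 (by omega) (by omega) : Commute u (v 1)).symm
      -- strip the letters that commute with everything
      have e1 : u * v 1 * (v (m + 1) * v (m + 2)) = v (m + 1) * v (m + 2) * (u * v 1) := hc
      have e2 : u * v 1 * (v (m + 1) * v (m + 2)) = v (m + 1) * (u * v (m + 2)) * v 1 := by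
        rw [mul_assoc u, (c1.mul_right c2).eq, ← mul_assoc, ← mul_assoc, c3.eq]
        group
      have e3 : v (m + 1) * v (m + 2) * (u * v 1) = v (m + 1) * (v (m + 2) * u) * v 1 := by group
      rw [e2, e3] at e1
      exact mul_left_cancel (mul_right_cancel e1)

/-- Pairwise commutation of the shifts from commutation on a stable generating family. -/
theorem commute_all {u h : G} (s : Set ℕ) (hcomm : ∀ i ∈ s, ∀ j ∈ s, Commute (sh u h i) (sh u h j))
    (h0 : 0 ∈ s) (hstep : ∀ i ∈ s, sh u h (i + 1) ∈ Subgroup.closure (sh u h '' s)) (i j : ℕ) :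
    Commute (sh u h i) (sh u h j) := by
  have hmem : ∀ k, sh u h k ∈ Subgroup.closure (sh u h '' s) := by
    intro k
    induction k with
    | zero => exact Subgroup.subset_closure ⟨0, h0, rfl⟩
    | succ n ih =>
      rw [add_comm n 1, ← sh_add, pow_one]
      have : Subgroup.closure (sh u h '' s) ≤
          (Subgroup.closure (sh u h '' s)).comap (MulAut.conj h).toMonoidHom := by
        rw [Subgroup.closure_le]
        rintro _ ⟨i, hi, rfl⟩
        show h * sh u h i * h⁻¹ ∈ Subgroup.closure (sh u h '' s)
        have := sh_add u h 1 i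
        rw [pow_one] at this
        rw [this, add_comm]
        exact hstep i hi
      exact this ih
  haveI : IsMulCommutative (Subgroup.closure (sh u h '' s)) :=
    Subgroup.isMulCommutative_closure (by
      rintro _ ⟨a, ha, rfl⟩ _ ⟨b, hb, rfl⟩; exact hcomm a ha b hb)
  have := mul_comm' (⟨_, hmem i⟩ : Subgroup.closure (sh u h '' s)) ⟨_, hmem j⟩
  exact congrArg Subtype.val this

theorem wv_mem_closure (p : ℕ) (u h : G) (f : (ZMod p)[X]) :
    wv p u h f ∈ Subgroup.closure (Set.range (sh u h)) := by
  refine Subgroup.list_prod_mem _ fun x hx => ?_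
  obtain ⟨i, -, rfl⟩ := List.mem_map.mp hx
  exact Subgroup.pow_mem _ (Subgroup.subset_closure (Set.mem_range_self i)) _

/-- The action of the polynomial ring on the shift subgroup. -/
theorem exists_poly_hom (p : ℕ) [Fact p.Prime] (u h : G)
    (hcomm : ∀ i j, Commute (sh u h i) (sh u h j)) (hu : u ^ p = 1) :
    ∃ ψ : (ZMod p)[X] → G, (∀ f g, ψ (f + g) = ψ f * ψ g) ∧ ψ 1 = u ∧
      (∀ f, h * ψ f * h⁻¹ = ψ (X * f)) ∧ (∀ f, ψ f = wv p u h f) ∧
      ∀ P f, ψ P = 1 → ψ (f * P) = 1 := by
  set A := Subgroup.closure (Set.range (sh u h))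
  haveI : IsMulCommutative A := Subgroup.isMulCommutative_closure (by
    rintro _ ⟨a, rfl⟩ _ ⟨b, rfl⟩; exact hcomm a b)
  letI : CommGroup A := { (inferInstance : Group A) with mul_comm := fun a b => mul_comm' a b }
  have hAp : ∀ x : A, x ^ p = 1 := by
    have : ∀ x : G, x ∈ A → x ^ p = 1 := by
      intro x hx
      induction hx using Subgroup.closure_induction with
      | mem x hx =>
        obtain ⟨i, rfl⟩ := hx
        rw [sh, conj_pow, hu, mul_one, mul_inv_cancel]
      | one => exact one_pow p
      | mul x y hx hy ihx ihy =>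
        rw [Commute.mul_pow (congrArg Subtype.val (mul_comm' (⟨x, hx⟩ : A) ⟨y, hy⟩)), ihx, ihy,
          one_mul]
      | inv x _ ih => rw [inv_pow, ih, inv_one]
    exact fun x => Subtype.ext (by rw [SubgroupClass.coe_pow]; exact this x x.2)
  haveI : Module (ZMod p) (Additive A) := AddCommGroup.zmodModule fun x => hAp (Additive.toMul x)
  have hA : ∀ x ∈ A, h * x * h⁻¹ ∈ A := by
    intro x hx
    have : A ≤ A.comap (MulAut.conj h).toMonoidHom := by
      rw [Subgroup.closure_le]
      rintro _ ⟨i, rfl⟩
      show h * sh u h i * h⁻¹ ∈ A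
      have := sh_add u h 1 i
      rw [pow_one] at this
      rw [this]; exact Subgroup.subset_closure ⟨_, rfl⟩
    exact this hx
  let c : A →* A :=
    { toFun := fun x => ⟨h * x * h⁻¹, hA x x.2⟩
      map_one' := Subtype.ext (by simp)
      map_mul' := fun x y => Subtype.ext (by simp [mul_assoc]) }
  let L : Module.End (ZMod p) (Additive A) :=
    (MonoidHom.toAdditive c).toZModLinearMap p
  let u₀ : Additive A := Additive.ofMul ⟨u, Subgroup.subset_closure ⟨0, sh_zero u h⟩⟩
  let ψ : (ZMod p)[X] → G := fun f => ((Additive.toMul (aeval L f u₀) : A) : G)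
  have hL : ∀ i, ((Additive.toMul ((L ^ i) u₀) : A) : G) = sh u h i := by
    intro i
    induction i with
    | zero => simp [u₀]
    | succ n ih =>
      rw [pow_succ', Module.End.mul_apply]
      show h * ((Additive.toMul ((L ^ n) u₀) : A) : G) * h⁻¹ = _
      have := sh_add u h 1 n
      rw [pow_one] at this
      rw [ih, this, add_comm]
  have hψ : ∀ f, ψ f = wv p u h f := by
    intro f
    show ((Additive.toMul (aeval L f u₀) : A) : G) = _
    rw [aeval_eq_sum_range, LinearMap.sum_apply, wv]
    generalize f.natDegree + 1 = n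
    induction n with
    | zero => simp
    | succ n ih =>
      rw [Finset.sum_range_succ, List.range_succ, List.map_append, List.prod_append, toMul_add,
        Subgroup.coe_mul, ih]
      congr 1
      rw [LinearMap.smul_apply, List.map_singleton, List.prod_singleton, ← hL n]
      conv_lhs => rw [← ZMod.natCast_zmod_val (f.coeff n), Nat.cast_smul_eq_nsmul]
      rfl
  refine ⟨ψ, fun f g => ?_, ?_, fun f => ?_, hψ, fun P f hP => ?_⟩
  · simp [ψ, LinearMap.add_apply]
  · simp [ψ, u₀]
  · simp only [ψ, map_mul, aeval_X, Module.End.mul_apply]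
    rfl
  · have h0 : aeval L P u₀ = 0 := Additive.toMul.injective (Subtype.ext hP)
    simp only [ψ, map_mul, Module.End.mul_apply, h0, map_zero]
    rfl

/-- The homomorphism from the field to the shift subgroup. -/
theorem exists_additive_hom {F : Type*} [Field F] [Finite F] (p : ℕ) [Fact p.Prime] [Algebra (ZMod p) F]
    (u h : G) (hcomm : ∀ i j, Commute (sh u h i) (sh u h j)) (hu : u ^ p = 1) (ν : F)
    (hν : ∀ t : F, ∃ f : (ZMod p)[X], aeval ν f = t)
    (hm : wv p u h (minpoly (ZMod p) ν) = 1) :
    ∃ φ : F → G, (∀ s t, φ (s + t) = φ s * φ t) ∧ φ 1 = u ∧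
      (∀ t, h * φ t * h⁻¹ = φ (ν * t)) ∧ ∀ f : (ZMod p)[X], φ (aeval ν f) = wv p u h f := by
  obtain ⟨ψ, hadd, hone, hconj, hψ, hmul⟩ := exists_poly_hom p u h hcomm hu
  have hker : ∀ f g, aeval ν f = aeval ν g → ψ f = ψ g := by
    intro f g hfg
    obtain ⟨k, hk⟩ := minpoly.dvd (ZMod p) ν (show aeval ν (f - g) = 0 by rw [map_sub, hfg, sub_self])
    have h1 : ψ (f - g) = 1 := by rw [hk, mul_comm]; exact hmul _ _ ((hψ _).trans hm)
    calc ψ f = ψ ((f - g) + g) := by rw [sub_add_cancel]
      _ = ψ g := by rw [hadd, h1, one_mul]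
  choose F₀ hF₀ using hν
  refine ⟨fun t => ψ (F₀ t), fun s t => ?_, ?_, fun t => ?_, fun f => ?_⟩
  · beta_reduce
    rw [hker (F₀ (s + t)) (F₀ s + F₀ t) (by rw [map_add, hF₀, hF₀, hF₀]), hadd]
  · beta_reduce
    rw [hker (F₀ 1) 1 (by rw [hF₀, map_one]), hone]
  · beta_reduce
    rw [hker (F₀ (ν * t)) (X * F₀ t) (by rw [map_mul, hF₀, aeval_X, hF₀]), hconj]
  · beta_reduce
    rw [hker (F₀ _) f (hF₀ _)]; exact hψ f

end CfsgLib.SLPres
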