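import Cfsg.Agent.Lib.SLPres.Model

/-!
# Consequences of the `SL₃` relations
-/

set_option autoImplicit false

namespace CfsgLib.SLPres

variable {F : Type*} [Field F] [Fintype F] {G : Type*} [Group G]

/-- What the relations on `u`, `h`, `w` and the monomial element `c` say. -/
structure ThreeData (u h w c : G) (φ : F → G) (μ : F) (e : ℕ) : Prop where
  mu_ne : μ ≠ 0
  mu_gen : ∀ t : F, t ≠ 0 → ∃ i : ℕ, t = μ ^ i
  mu_e : μ ^ e = -1
  root : IsRoot φ u (c * h * c⁻¹)⁻¹ μ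
  scale : ∀ t, h * φ t * h⁻¹ = φ (μ * μ * t)
  comm : Commute h (c * h * c⁻¹)⁻¹
  inv : w * h * w⁻¹ = h⁻¹
  sq : w * w = h ^ e
  rel : w * φ 1 * w = φ (-1) * h ^ e * w * φ (-1)
  cube : c * c * c = 1
  mono : w * c * w⁻¹ = h ^ e * c⁻¹
  tor : (c * c) * h * (c * c)⁻¹ = h⁻¹ * (c * h * c⁻¹)⁻¹
  bil : ∀ i, i < 3 → φ 1 * (c * φ (μ ^ i) * c⁻¹) =
    (c * c) * (w * φ (-μ ^ i) * w⁻¹) * (c * c)⁻¹ * (c * φ (μ ^ i) * c⁻¹) * φ 1

namespace ThreeData

variable {u h w c : G} {φ : F → G} {μ : F} {e : ℕ}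

/-- The second torus generator. -/
def kk (h c : G) : G := (c * h * c⁻¹)⁻¹

/-- The root group of `(2,3)`. -/
def rY (φ : F → G) (c : G) (t : F) : G := c * φ t * c⁻¹

/-- The root group of `(1,3)`. -/
def rZ (φ : F → G) (c w : G) (t : F) : G := (c * c) * (w * φ (-t) * w⁻¹) * (c * c)⁻¹

/-- The second simple reflection. -/
def nn (w c : G) : G := c * w * c⁻¹

/-- Scaling a root group. -/
def Scales (X : F → G) (g : G) (a : F) : Prop := ∀ t, g * X t * g⁻¹ = X (a * t)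

theorem scales_mul {X : F → G} {g g' : G} {a a' : F} (h1 : Scales X g a) (h2 : Scales X g' a') :
    Scales X (g * g') (a * a') := fun t => by
  rw [mul_assoc a, ← h1, ← h2]; group

theorem scales_inv {X : F → G} {g : G} {a : F} (h1 : Scales X g a) (ha : a ≠ 0) :
    Scales X g⁻¹ a⁻¹ := fun t => by
  have := h1 (a⁻¹ * t)
  rw [← mul_assoc, mul_inv_cancel₀ ha, one_mul] at this
  rw [← this]; group

theorem scales_zpow {X : F → G} {g : G} {a : F} (h1 : Scales X g a) (ha : a ≠ 0) (i : ℤ) :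
    Scales X (g ^ i) (a ^ i) :=
  fun t => zpow_conj_phi X g a ha h1 i t

theorem swap {X : F → G} {g : G} {a : F} (h1 : Scales X g a) (t : F) :
    g * X t = X (a * t) * g := by rw [← h1]; group

variable (D : ThreeData u h w c φ μ e)

include D

theorem hk : Commute h (kk h c) := D.comm

theorem tor' : (c * c) * h * (c * c)⁻¹ = h⁻¹ * kk h c := D.tor

theorem c_inv : c⁻¹ = c * c := inv_eq_of_mul_eq_one_left D.cube

theorem c_k : c * kk h c * c⁻¹ = h * (kk h c)⁻¹ := by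
  have e1 : c * kk h c * c⁻¹ = ((c * c) * h * (c * c)⁻¹)⁻¹ := by simp only [kk, mul_inv_rev, inv_inv, mul_assoc]
  rw [e1, D.tor', mul_inv_rev, inv_inv]
  exact (D.hk.inv_right).eq.symm

theorem cinv_h : c⁻¹ * h * c = h⁻¹ * kk h c := by
  have := D.tor'
  rw [← D.c_inv, inv_inv] at this
  exact this

theorem cinv_k : c⁻¹ * kk h c * c = h⁻¹ := by simp only [kk]; group

theorem commute_pow (i j : ℤ) : Commute (h ^ i) (kk h c ^ j) := (D.hk.zpow_left i).zpow_right j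

theorem w_k : w * kk h c * w⁻¹ = h⁻¹ * kk h c := by
  have e1 : w * kk h c * w⁻¹ = (w * c * w⁻¹) * (w * h * w⁻¹)⁻¹ * (w * c * w⁻¹)⁻¹ := by
    simp only [kk]; group
  rw [e1, D.mono, D.inv, inv_inv]
  calc h ^ e * c⁻¹ * h * (h ^ e * c⁻¹)⁻¹ = h ^ e * (c⁻¹ * h * c) * (h ^ e)⁻¹ := by group
    _ = h⁻¹ * kk h c := by
      rw [D.cinv_h, ← mul_assoc, ((Commute.refl h).inv_right.pow_left e).eq, mul_assoc h⁻¹,
        (D.hk.pow_left e).eq]
      group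

theorem k_w : kk h c * w * (kk h c)⁻¹ = h * w := by
  have hk : kk h c = h * (w * kk h c * w⁻¹) := by rw [D.w_k]; group
  calc kk h c * w * (kk h c)⁻¹ = h * (w * kk h c * w⁻¹) * w * (kk h c)⁻¹ := by rw [← hk]
    _ = h * w := by group

theorem k_scales : Scales φ (kk h c) μ := D.root.conj

theorem h_scales : Scales φ h (μ * μ) := D.scale

theorem pow_kw (i : ℕ) : kk h c ^ i * w * (kk h c ^ i)⁻¹ = h ^ i * w := by
  induction i with
  | zero => simp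
  | succ n ih =>
    calc kk h c ^ (n + 1) * w * (kk h c ^ (n + 1))⁻¹
        = kk h c * (kk h c ^ n * w * (kk h c ^ n)⁻¹) * (kk h c)⁻¹ := by rw [pow_succ']; group
      _ = (kk h c * h ^ n) * w * (kk h c)⁻¹ := by rw [ih]; group
      _ = h ^ n * (kk h c * w * (kk h c)⁻¹) := by
          rw [← (D.hk.pow_left n).eq]; group
      _ = h ^ (n + 1) * w := by rw [D.k_w, ← mul_assoc, ← pow_succ]

theorem w_hpow (i : ℤ) : w * h ^ i = h ^ (-i) * w := zpow_conj_inverted D.inv i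

/-- The Bruhat relation at every parameter. -/
theorem rel_all (i : ℕ) :
    w * φ (μ ^ i)⁻¹ * w = φ (-μ ^ i) * h ^ ((e : ℤ) + i) * w * φ (-μ ^ i) := by
  set k := kk h c
  have hs := scales_zpow D.k_scales D.mu_ne (i : ℤ)
  have s1 : k ^ i * φ 1 * (k ^ i)⁻¹ = φ (μ ^ i) := by
    have := hs 1; rwa [zpow_natCast, zpow_natCast, mul_one] at this
  have s2 : k ^ i * φ (-1) * (k ^ i)⁻¹ = φ (-μ ^ i) := by
    have := hs (-1); rwa [zpow_natCast, zpow_natCast, mul_neg_one] at this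
  have s3 : k ^ i * h ^ e * (k ^ i)⁻¹ = h ^ e := by
    rw [← ((D.hk.pow_left e).pow_right i).eq, mul_inv_cancel_right]
  have e1 : (k ^ i * w * (k ^ i)⁻¹) * (k ^ i * φ 1 * (k ^ i)⁻¹) * (k ^ i * w * (k ^ i)⁻¹) =
      (k ^ i * φ (-1) * (k ^ i)⁻¹) * (k ^ i * h ^ e * (k ^ i)⁻¹) * (k ^ i * w * (k ^ i)⁻¹) *
        (k ^ i * φ (-1) * (k ^ i)⁻¹) := by
    calc _ = k ^ i * (w * φ 1 * w) * (k ^ i)⁻¹ := by group
      _ = _ := by rw [D.rel]; group
  rw [D.pow_kw, s1, s2, s3] at e1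
  have hh := scales_zpow D.h_scales (mul_ne_zero D.mu_ne D.mu_ne) (i : ℤ)
  have s4 : φ (μ ^ i) * h ^ i = h ^ i * φ (μ ^ i)⁻¹ := by
    have hne := pow_ne_zero i D.mu_ne
    have := hh (μ ^ i)⁻¹
    rw [zpow_natCast, zpow_natCast, mul_pow, mul_inv_cancel_right₀ hne,
      mul_inv_eq_iff_eq_mul] at this
    exact this.symm
  calc w * φ (μ ^ i)⁻¹ * w = h ^ i * (h ^ (-(i : ℤ)) * w) * φ (μ ^ i)⁻¹ * w := by group
    _ = h ^ i * w * (h ^ (i : ℤ) * φ (μ ^ i)⁻¹) * w := by rw [← D.w_hpow]; group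
    _ = h ^ i * w * φ (μ ^ i) * (h ^ i * w) := by rw [zpow_natCast, ← s4]; group
    _ = φ (-μ ^ i) * h ^ ((e : ℤ) + i) * w * φ (-μ ^ i) := by rw [e1, zpow_add]; group

theorem h_order : h ^ (Fintype.card F - 1) = 1 := by
  have := D.rel_all (Fintype.card F - 1)
  rw [FiniteField.pow_card_sub_one_eq_one μ D.mu_ne, inv_one, D.rel] at this
  have h2 := mul_left_cancel (mul_right_cancel (mul_right_cancel this) |>.trans (by rw [zpow_add, zpow_natCast]))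
  rw [eq_comm, ← mul_right_inj (h ^ (e : ℕ))] at h2
  simpa using h2

theorem k_order : kk h c ^ (Fintype.card F - 1) = 1 := by
  rw [kk, inv_pow, conj_pow, D.h_order, mul_one, mul_inv_cancel, inv_one]

theorem rel_field (t : F) (ht : t ≠ 0) :
    ∃ (a b : F) (k : ℤ), w * φ t * w = φ a * h ^ k * w * φ b := by
  obtain ⟨i, hi⟩ := D.mu_gen t⁻¹ (inv_ne_zero ht)
  have := D.rel_all i
  rw [← hi, inv_inv] at this
  exact ⟨_, _, _, this⟩

theorem h_e_fix (t : F) : h ^ (e : ℤ) * φ t * (h ^ (e : ℤ))⁻¹ = φ t := by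
  rw [scales_zpow D.h_scales (mul_ne_zero D.mu_ne D.mu_ne) (e : ℤ) t, zpow_natCast, mul_pow, D.mu_e]
  simp

theorem Y_h : Scales (rY φ c) h μ⁻¹ := fun t => by
  have e1 : h * rY φ c t * h⁻¹ = c * ((c⁻¹ * h * c) * φ t * (c⁻¹ * h * c)⁻¹) * c⁻¹ := by
    simp only [rY]; group
  rw [e1, D.cinv_h, scales_mul (scales_inv D.h_scales (mul_ne_zero D.mu_ne D.mu_ne)) D.k_scales t,
    mul_inv, mul_assoc μ⁻¹, inv_mul_cancel₀ D.mu_ne, mul_one]
  rfl

theorem Y_k : Scales (rY φ c) (kk h c) (μ * μ)⁻¹ := fun t => by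
  have e1 : kk h c * rY φ c t * (kk h c)⁻¹ =
      c * ((c⁻¹ * kk h c * c) * φ t * (c⁻¹ * kk h c * c)⁻¹) * c⁻¹ := by simp only [rY]; group
  rw [e1, D.cinv_k, scales_inv D.h_scales (mul_ne_zero D.mu_ne D.mu_ne) t]
  rfl

theorem winv_k : w⁻¹ * kk h c * w = h⁻¹ * kk h c := by
  have e1 : w * (h⁻¹ * kk h c) * w⁻¹ = kk h c := by
    calc _ = (w * h * w⁻¹)⁻¹ * (w * kk h c * w⁻¹) := by group
      _ = _ := by rw [D.inv, D.w_k]; group
  calc w⁻¹ * kk h c * w = w⁻¹ * (w * (h⁻¹ * kk h c) * w⁻¹) * w := by rw [e1]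
    _ = _ := by group

theorem Z_h : Scales (rZ φ c w) h μ := fun t => by
  have e1 : h * rZ φ c w t * h⁻¹ = (c * c) * (w * ((w⁻¹ * ((c * c)⁻¹ * h * (c * c)) * w) * φ (-t) *
      (w⁻¹ * ((c * c)⁻¹ * h * (c * c)) * w)⁻¹) * w⁻¹) * (c * c)⁻¹ := by simp only [rZ]; group
  have e2 : (c * c)⁻¹ * h * (c * c) = (kk h c)⁻¹ := by
    rw [← D.c_inv, inv_inv, kk, inv_inv]
  have e3 : w⁻¹ * (kk h c)⁻¹ * w = h * (kk h c)⁻¹ := by
    rw [show w⁻¹ * (kk h c)⁻¹ * w = (w⁻¹ * kk h c * w)⁻¹ by group, D.winv_k, mul_inv_rev, inv_inv]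
    exact D.hk.inv_right.eq.symm
  rw [e1, e2, e3, scales_mul D.h_scales (scales_inv D.k_scales D.mu_ne) (-t),
    mul_inv_cancel_right₀ D.mu_ne, mul_neg]
  rfl

theorem Z_k : Scales (rZ φ c w) (kk h c) μ⁻¹ := fun t => by
  have e1 : kk h c * rZ φ c w t * (kk h c)⁻¹ = (c * c) * (w * ((w⁻¹ * ((c * c)⁻¹ * kk h c * (c * c)) * w) *
      φ (-t) * (w⁻¹ * ((c * c)⁻¹ * kk h c * (c * c)) * w)⁻¹) * w⁻¹) * (c * c)⁻¹ := by
    simp only [rZ]; group
  have e2 : (c * c)⁻¹ * kk h c * (c * c) = h * (kk h c)⁻¹ := by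
    rw [← D.c_inv, inv_inv, D.c_k]
  have e3 : w⁻¹ * (h * (kk h c)⁻¹) * w = (kk h c)⁻¹ := by
    rw [show w⁻¹ * (h * (kk h c)⁻¹) * w = (w⁻¹ * h * w) * (w⁻¹ * kk h c * w)⁻¹ by group, D.winv_k]
    have : w⁻¹ * h * w = h⁻¹ := by
      calc w⁻¹ * h * w = (w⁻¹ * (w * h * w⁻¹) * w)⁻¹ := by rw [D.inv]; group
        _ = h⁻¹ := by group
    rw [this, mul_inv_rev, inv_inv, ← mul_assoc, D.hk.inv_left.inv_right.eq]
    group
  rw [e1, e2, e3, scales_inv D.k_scales D.mu_ne (-t), mul_neg]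
  rfl

theorem Y_add (s t : F) : rY φ c (s + t) = rY φ c s * rY φ c t := by
  simp only [rY, D.root.add]; group

theorem Z_add (s t : F) : rZ φ c w (s + t) = rZ φ c w s * rZ φ c w t := by
  simp only [rZ, neg_add, D.root.add]; group

theorem Y_zero : rY φ c 0 = 1 := by simp [rY, D.root.zero]

theorem Z_zero : rZ φ c w 0 = 1 := by simp [rZ, D.root.zero]

/-- The commutator relation at all parameters. -/
theorem bil_all (a b : F) : φ a * rY φ c b = rZ φ c w (a * b) * rY φ c b * φ a := by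
  by_cases ha : a = 0
  · subst ha; simp [D.root.zero, D.Z_zero]
  by_cases hb : b = 0
  · subst hb; simp [D.Y_zero, D.Z_zero]
  obtain ⟨A, rfl⟩ := D.mu_gen a ha
  obtain ⟨B, rfl⟩ := D.mu_gen b hb
  set r : ℤ := ((B : ℤ) - A) % 3 with hr
  obtain ⟨s, hs⟩ : ∃ s : ℤ, (A : ℤ) - B + r = 3 * s := ⟨-(((B : ℤ) - A) / 3), by omega⟩
  obtain ⟨r', hr'⟩ : ∃ r' : ℕ, (r' : ℤ) = r := ⟨r.toNat, by omega⟩
  set g := h ^ ((A : ℤ) - s) * kk h c ^ (2 * s - A) with hg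
  have hm := D.mu_ne
  have hmm := mul_ne_zero D.mu_ne D.mu_ne
  have gφ : Scales φ g (μ ^ (A : ℤ)) := by
    have := scales_mul (scales_zpow D.h_scales hmm ((A : ℤ) - s)) (scales_zpow D.k_scales hm (2 * s - A))
    rw [mul_zpow, ← zpow_add₀ hm, ← zpow_add₀ hm] at this
    rwa [show (A : ℤ) - s + ((A : ℤ) - s) + (2 * s - A) = A by ring] at this
  have gY : Scales (rY φ c) g (μ ^ ((B : ℤ) - r)) := by
    have := scales_mul (scales_zpow D.Y_h (inv_ne_zero hm) ((A : ℤ) - s))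
      (scales_zpow D.Y_k (inv_ne_zero hmm) (2 * s - A))
    rw [inv_zpow', inv_zpow', mul_zpow, ← zpow_add₀ hm, ← zpow_add₀ hm] at this
    rwa [show -((A : ℤ) - s) + (-(2 * s - A) + -(2 * s - A)) = (B : ℤ) - r by linarith] at this
  have gZ : Scales (rZ φ c w) g (μ ^ ((A : ℤ) + B - r)) := by
    have := scales_mul (scales_zpow D.Z_h hm ((A : ℤ) - s)) (scales_zpow D.Z_k (inv_ne_zero hm) (2 * s - A))
    rw [inv_zpow', ← zpow_add₀ hm] at this
    rwa [show (A : ℤ) - s + -(2 * s - A) = (A : ℤ) + B - r by linarith] at this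
  have key := congrArg (fun x => g * x * g⁻¹) (D.bil r' (by omega))
  have conj3 : ∀ x y z : G, g * (x * y * z) * g⁻¹ = (g * x * g⁻¹) * (g * y * g⁻¹) * (g * z * g⁻¹) :=
    fun x y z => by group
  have conj2 : ∀ x y : G, g * (x * y) * g⁻¹ = (g * x * g⁻¹) * (g * y * g⁻¹) := fun x y => by group
  change g * (φ 1 * rY φ c (μ ^ r')) * g⁻¹ = g * (rZ φ c w (μ ^ r') * rY φ c (μ ^ r') * φ 1) * g⁻¹ at key
  rw [conj2, conj3, gφ, gY, gZ, mul_one, ← zpow_natCast μ r', hr', ← zpow_add₀ hm, ← zpow_add₀ hm,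
    sub_add_cancel, sub_add_cancel] at key
  rw [← zpow_natCast μ A, ← zpow_natCast μ B, ← zpow_add₀ hm]
  exact key

theorem comm_φ_Z (a t : F) : φ a * rZ φ c w t = rZ φ c w t * φ a := by
  have h1 := D.bil_all (a + t) 1
  have h2 := D.bil_all a 1
  have h3 := D.bil_all t 1
  simp only [mul_one] at h1 h2 h3
  rw [D.root.add, D.Z_add] at h1
  have h4 : φ a * φ t * rY φ c 1 = φ a * rZ φ c w t * (φ a)⁻¹ * (φ a * rY φ c 1) * φ t := by
    rw [mul_assoc, h3]; group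
  rw [h4, h2] at h1
  have h5 : φ a * rZ φ c w t * (φ a)⁻¹ * rZ φ c w a = rZ φ c w a * rZ φ c w t := by
    have : φ a * rZ φ c w t * (φ a)⁻¹ * rZ φ c w a * (rY φ c 1 * φ a * φ t) =
        rZ φ c w a * rZ φ c w t * (rY φ c 1 * φ a * φ t) := by
      calc _ = φ a * rZ φ c w t * (φ a)⁻¹ * (rZ φ c w a * rY φ c 1 * φ a) * φ t := by group
        _ = rZ φ c w a * rZ φ c w t * rY φ c 1 * (φ a * φ t) := h1
        _ = _ := by group
    exact mul_right_cancel this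
  rw [show rZ φ c w a * rZ φ c w t = rZ φ c w t * rZ φ c w a by
    rw [← D.Z_add, add_comm, D.Z_add]] at h5
  exact mul_inv_eq_iff_eq_mul.mp (mul_right_cancel h5)

theorem comm_Y_Z (b t : F) : rY φ c b * rZ φ c w t = rZ φ c w t * rY φ c b := by
  have h1 := D.bil_all 1 (b + t)
  have h2 := D.bil_all 1 b
  have h3 := D.bil_all 1 t
  simp only [one_mul] at h1 h2 h3
  rw [D.Y_add, D.Z_add, ← mul_assoc (φ 1), h2] at h1
  have h4 : rZ φ c w b * rY φ c b * φ 1 * rY φ c t =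
      rZ φ c w b * (rY φ c b * rZ φ c w t) * (rY φ c t * φ 1) := by
    rw [mul_assoc _ (φ 1), h3]; group
  rw [h4] at h1
  have : rY φ c b * rZ φ c w t * (rY φ c t * φ 1) = rZ φ c w t * rY φ c b * (rY φ c t * φ 1) := by
    refine mul_left_cancel (a := rZ φ c w b) ?_
    calc _ = rZ φ c w b * (rY φ c b * rZ φ c w t) * (rY φ c t * φ 1) := by group
      _ = rZ φ c w b * rZ φ c w t * (rY φ c b * rY φ c t) * φ 1 := h1
      _ = _ := by group
  exact mul_right_cancel this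

theorem w_cinv : w * c⁻¹ = c * (h ^ e)⁻¹ * w := by
  calc w * c⁻¹ = (w * c * w⁻¹)⁻¹ * w := by group
    _ = _ := by rw [D.mono]; group

theorem w_Z (t : F) : w * rZ φ c w t * w⁻¹ = rY φ c (-t) := by
  have e1 : w * rZ φ c w t * w⁻¹ = (w * c⁻¹) * (w * φ (-t) * w⁻¹) * (w * c⁻¹)⁻¹ := by
    simp only [rZ, ← D.c_inv]; group
  rw [e1, D.w_cinv]
  calc c * (h ^ e)⁻¹ * w * (w * φ (-t) * w⁻¹) * (c * (h ^ e)⁻¹ * w)⁻¹
      = c * (h ^ e)⁻¹ * (w * w) * φ (-t) * (w * w)⁻¹ * (h ^ e) * c⁻¹ := by group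
    _ = c * φ (-t) * c⁻¹ := by rw [D.sq]; group

theorem w_Y (t : F) : w * rY φ c t * w⁻¹ = rZ φ c w t := by
  have h1 := D.w_Z (-t)
  rw [neg_neg] at h1
  rw [← h1, show w * (w * rZ φ c w (-t) * w⁻¹) * w⁻¹ = (w * w) * rZ φ c w (-t) * (w * w)⁻¹ by group,
    D.sq, ← zpow_natCast, scales_zpow D.Z_h D.mu_ne (e : ℤ) (-t), zpow_natCast, D.mu_e, neg_mul_neg,
    one_mul]

theorem winv_Z (t : F) : w⁻¹ * rZ φ c w t * w = rY φ c t := by rw [← D.w_Y]; group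

theorem N_eq : nn w c = w⁻¹ * kk h c ^ e * c := by
  have hc : c = w⁻¹ * (h ^ e * c⁻¹) * w := by rw [← D.mono]; group
  calc nn w c = w⁻¹ * (h ^ e * c⁻¹) * w * w * c⁻¹ := by simp only [nn]; nth_rewrite 1 [hc]; group
    _ = w⁻¹ * h ^ e * (c⁻¹ * (w * w) * c) * (c⁻¹ * c⁻¹) := by group
    _ = w⁻¹ * h ^ e * (h⁻¹ * kk h c) ^ e * c := by
        rw [D.sq]
        have : c⁻¹ * h ^ e * c = (h⁻¹ * kk h c) ^ e := by
          rw [← D.cinv_h]
          have := (conj_pow (i := e) (a := c⁻¹) (b := h)).symm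
          rwa [inv_inv] at this
        rw [this]
        congr 1
        rw [D.c_inv, ← mul_assoc, mul_assoc c c c, mul_assoc c (c * c) c, D.cube, mul_one]
    _ = _ := by
        rw [D.hk.inv_left.mul_pow, inv_pow]; group

theorem c_eq : c = (kk h c ^ e)⁻¹ * w * nn w c := by rw [D.N_eq]; group

theorem N_sq : nn w c * nn w c = (kk h c ^ e)⁻¹ := by
  calc nn w c * nn w c = c * (w * w) * c⁻¹ := by simp only [nn]; group
    _ = _ := by rw [D.sq, kk, inv_pow, inv_inv, conj_pow]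

theorem N_h : nn w c * h * (nn w c)⁻¹ = h * (kk h c)⁻¹ := by
  calc nn w c * h * (nn w c)⁻¹ = c * (w * (c⁻¹ * h * c) * w⁻¹) * c⁻¹ := by simp only [nn]; group
    _ = c * ((w * h * w⁻¹)⁻¹ * (w * kk h c * w⁻¹)) * c⁻¹ := by rw [D.cinv_h]; group
    _ = c * kk h c * c⁻¹ := by rw [D.inv, D.w_k]; group
    _ = _ := D.c_k

theorem N_k : nn w c * kk h c * (nn w c)⁻¹ = (kk h c)⁻¹ := by
  calc nn w c * kk h c * (nn w c)⁻¹ = c * (w * (c⁻¹ * kk h c * c) * w⁻¹) * c⁻¹ := by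
        simp only [nn]; group
    _ = c * (w * h * w⁻¹)⁻¹ * c⁻¹ := by rw [D.cinv_k]; group
    _ = c * h * c⁻¹ := by rw [D.inv, inv_inv]
    _ = _ := by rw [kk, inv_inv]

theorem N_φ (t : F) : nn w c * φ t * (nn w c)⁻¹ = rZ φ c w (-t) := by
  calc nn w c * φ t * (nn w c)⁻¹ = c * ((w * c⁻¹) * φ t * (w * c⁻¹)⁻¹) * c⁻¹ := by simp only [nn]; group
    _ = (c * c) * ((h ^ e)⁻¹ * (w * φ t * w⁻¹) * h ^ e) * (c * c)⁻¹ := by rw [D.w_cinv]; group
    _ = _ := by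
        have h1 : (h ^ e)⁻¹ * (w * φ t * w⁻¹) * h ^ e =
            w * (h ^ (e : ℤ) * φ t * (h ^ (e : ℤ))⁻¹) * w⁻¹ := by
          have h2 : (h ^ e)⁻¹ * w = w * h ^ (e : ℤ) := by rw [D.w_hpow, zpow_neg, zpow_natCast]
          calc (h ^ e)⁻¹ * (w * φ t * w⁻¹) * h ^ e
              = ((h ^ e)⁻¹ * w) * φ t * ((h ^ e)⁻¹ * w)⁻¹ := by group
            _ = _ := by rw [h2]; group
        rw [h1, D.h_e_fix]
        simp only [rZ, neg_neg]

theorem N_Z (t : F) : nn w c * rZ φ c w t * (nn w c)⁻¹ = φ t := by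
  have h1 := D.N_φ (-t)
  rw [neg_neg] at h1
  rw [← h1, show nn w c * (nn w c * φ (-t) * (nn w c)⁻¹) * (nn w c)⁻¹ =
    (nn w c * nn w c) * φ (-t) * (nn w c * nn w c)⁻¹ by group, D.N_sq, ← zpow_natCast, ← zpow_neg,
    scales_zpow D.k_scales D.mu_ne (-(e : ℤ)) (-t), zpow_neg, zpow_natCast, D.mu_e]
  simp

end ThreeData

end CfsgLib.SLPres
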