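import Cfsg.Agent.Lib.SLPres.ThreeCount
import Cfsg.Agent.Lib.SLPres.Comm
import Cfsg.Agent.Lib.Classical.Card
import Cfsg.Agent.Lib.Classical.Transvection

/-!
# Fourteen relations for `SL₃(q)`
-/

set_option autoImplicit false

namespace CfsgLib.SLPres

open Polynomial

variable {F : Type*} [Field F] [Fintype F] (p : ℕ) [Fact p.Prime] [Algebra (ZMod p) F]

/-- Two relations that make the shifts commute and are killed by a separable polynomial. -/
theorem exists_tri_rels {μ : F} (hgen : ∀ t : F, t ≠ 0 → ∃ i : ℕ, t = μ ^ i)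
    (U K : FreeGroup (Fin 4)) :
    ∃ (L : List (FreeGroup (Fin 4))) (R : (ZMod p)[X]), L.length ≤ 2 ∧
      IsCoprime (minpoly (ZMod p) μ) R ∧
      (∀ (T : Type _) [Group T] (π : FreeGroup (Fin 4) →* T) (φ : F → T),
        IsRoot φ (π U) (π K) μ → ∀ r ∈ L, π r = 1) ∧
      ∀ (G : Type) [Group G] (ψ : FreeGroup (Fin 4) →* G), (∀ r ∈ L, ψ r = 1) → ψ U ^ p = 1 →
        (∀ i j, Commute (sh (ψ U) (ψ K) i) (sh (ψ U) (ψ K) j)) ∧
          wv p (ψ U) (ψ K) (minpoly (ZMod p) μ * R) = 1 := by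
  classical
  haveI : CharP F p := charP_of_injective_algebraMap (algebraMap (ZMod p) F).injective p
  have hint : IsIntegral (ZMod p) μ := IsIntegral.of_finite _ _
  by_cases hd : (minpoly (ZMod p) μ).natDegree ≤ 1
  · refine ⟨[wv p U K (minpoly (ZMod p) μ)], 1, by simp, isCoprime_one_right,
      fun T _ π φ R x hx => ?_, fun G _ ψ hL _ => ?_⟩
    · rw [List.mem_singleton] at hx
      subst hx
      rw [map_wv, R.wv_eq, minpoly.aeval, R.zero]
    · have h1 := hL _ (List.mem_singleton_self _)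
      rw [map_wv] at h1
      exact ⟨commute_small p _ _ μ (by omega) h1 (fun h => by omega), by rw [mul_one]; exact h1⟩
  · push Not at hd
    have hμ1 : μ + 1 ≠ 0 := by
      intro h0
      have : μ = algebraMap (ZMod p) F (-1) := by
        rw [map_neg, map_one]; exact eq_neg_of_add_eq_zero_left h0
      rw [this, minpoly.eq_X_sub_C, natDegree_X_sub_C] at hd
      omega
    obtain ⟨a₀, ha₀⟩ := hgen _ hμ1
    set a := a₀ * Fintype.card F with ha
    have hμa : μ ^ a = μ + 1 := by rw [ha, pow_mul, FiniteField.pow_card, ← ha₀]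
    set P : (ZMod p)[X] := X ^ a - (X + C 1) with hP
    have hPμ : aeval μ P = 0 := by
      rw [hP, map_sub, map_pow, map_add, aeval_X, aeval_C, map_one, hμa, sub_self]
    obtain ⟨R, hR⟩ := minpoly.dvd (ZMod p) μ hPμ
    have hsep : ¬ minpoly (ZMod p) μ ∣ R := by
      rintro ⟨S, rfl⟩
      have hd' : aeval μ (derivative P) = 0 := by
        rw [hR, derivative_mul, derivative_mul]
        simp [minpoly.aeval]
      have hcast : ((a : ℕ) : F) = 0 := by
        rw [ha, Nat.cast_mul, FiniteField.cast_card_eq_zero, mul_zero]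
      rw [hP] at hd'
      simp [derivative_X_pow, hcast] at hd'
    refine ⟨[sh U K a * (U * sh U K 1)⁻¹, sh U K a * (sh U K 1 * U)⁻¹], R, by simp,
      (minpoly.irreducible hint).coprime_iff_not_dvd.mpr hsep, fun T _ π φ Rt x hx => ?_,
      fun G _ ψ hL hu => ?_⟩
    · simp only [List.mem_cons, List.not_mem_nil, or_false] at hx
      rcases hx with rfl | rfl <;>
        rw [map_mul, map_inv, mul_inv_eq_one, map_mul, map_sh, map_sh, Rt.shift, Rt.shift, ← Rt.one,
          ← Rt.add, pow_one, hμa]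
      rw [add_comm]
    · have h1 := hL _ (List.mem_cons_self ..)
      have h2 := hL _ (List.mem_cons_of_mem _ (List.mem_cons_self ..))
      simp only [map_mul, map_inv, mul_inv_eq_one, map_sh] at h1 h2
      have hc : ∀ i j, Commute (sh (ψ U) (ψ K) i) (sh (ψ U) (ψ K) j) := by
        intro i j
        wlog hij : i ≤ j generalizing i j
        · exact (this j i (by omega)).symm
        have := commute_triangle h1 h2 (j - i)
        rw [one_mul] at this
        have := commute_shift (u := ψ U) (h := ψ K) (i := 0) (j := j - i)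
          (by rw [sh_zero]; exact this) i
        rwa [add_zero, Nat.add_sub_cancel' hij] at this
      refine ⟨hc, ?_⟩
      obtain ⟨η, hadd, hone, hconj, hη, -⟩ := exists_poly_hom p (ψ U) (ψ K) hc hu
      have hX : ∀ k, η (X ^ k) = sh (ψ U) (ψ K) k := by
        intro k
        induction k with
        | zero => rw [pow_zero, hone, sh_zero]
        | succ n ih => rw [pow_succ', ← hconj, ih, add_comm n 1, ← sh_add, pow_one]
      rw [← hR, ← hη]
      have e := hadd P (X ^ 1 + 1)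
      rw [hadd (X ^ 1) 1, hX, hone, ← h2] at e
      rw [show P + (X ^ 1 + 1) = X ^ a by rw [hP, pow_one, C_1, sub_add_cancel], hX] at e
      exact right_eq_mul.mp e

/-- A second element commuting with the shift generator acts by a scalar. -/
theorem scale_of_rels {G : Type*} [Group G] (u k h : G) (μ ν : F)
    (hpoly : ∀ t : F, ∃ f : (ZMod p)[X], aeval μ f = t) (R g : (ZMod p)[X])
    (hg : aeval μ g = ν) (hRg : R ∣ g) (hc : ∀ i j, Commute (sh u k i) (sh u k j)) (hu : u ^ p = 1)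
    (hP : wv p u k (minpoly (ZMod p) μ * R) = 1) (hcomm : Commute h k)
    (hh : h * u * h⁻¹ = wv p u k g) :
    ∃ φ : F → G, IsRoot φ u k μ ∧ (∀ t, h * φ t * h⁻¹ = φ (ν * t)) ∧
      ∀ f : (ZMod p)[X], φ (aeval μ f) = wv p u k f := by
  obtain ⟨η, hadd, hone, hconj, hη, hmul⟩ := exists_poly_hom p u k hc hu
  have h0 : η 0 = 1 := by
    have := hadd 0 0
    rw [add_zero] at this
    exact left_eq_mul.mp this
  have hnsmul : ∀ (n : ℕ) (f : (ZMod p)[X]), η ((n : (ZMod p)[X]) * f) = η f ^ n := by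
    intro n f
    induction n with
    | zero => simp [h0]
    | succ m ih => rw [Nat.cast_succ, add_one_mul, hadd, ih, pow_succ]
  have hscal : ∀ f, h * η f * h⁻¹ = η (g * f) := by
    intro f
    induction f using Polynomial.induction_on' with
    | add a b ha hb => rw [mul_add, hadd, hadd, ← ha, ← hb]; group
    | monomial n a =>
      rw [← C_mul_X_pow_eq_monomial, ← ZMod.natCast_zmod_val a, map_natCast, mul_left_comm, hnsmul,
        hnsmul, ← conj_pow]
      congr 1
      induction n with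
      | zero => rw [pow_zero, hone, mul_one, hη, hh]
      | succ m ih =>
        rw [pow_succ', ← hconj, mul_left_comm, ← hconj, ← ih]
        calc h * (k * η (X ^ m) * k⁻¹) * h⁻¹ = (h * k) * η (X ^ m) * (h * k)⁻¹ := by group
          _ = _ := by rw [hcomm.eq]; group
  have hm : wv p u k (minpoly (ZMod p) μ) = 1 := by
    rw [← hη]
    obtain ⟨r, rfl⟩ := hRg
    have h1 := hscal (minpoly (ZMod p) μ)
    rw [show R * r * minpoly (ZMod p) μ = r * (minpoly (ZMod p) μ * R) by ring,
      hmul _ _ ((hη _).trans hP), mul_inv_eq_one, mul_eq_left] at h1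
    exact h1
  obtain ⟨φ, fadd, fone, fconj, fwv⟩ := exists_additive_hom p u k hc hu μ hpoly hm
  refine ⟨φ, ⟨fadd, fone, fconj⟩, fun t => ?_, fwv⟩
  obtain ⟨f, rfl⟩ := hpoly t
  rw [fwv, ← hη, hscal, hη, ← fwv, map_mul, hg]

include p in
theorem exists_rels_three {μ : F} (hμ : μ ≠ 0) (hgen : ∀ t : F, t ≠ 0 → ∃ i : ℕ, t = μ ^ i) (e : ℕ)
    (he : μ ^ e = -1) :
    ∃ L : List (FreeGroup (Fin 4)), L.length ≤ 14 ∧
      (∀ (T : Type _) [Group T] (π : FreeGroup (Fin 4) →* T) (φ : F → T),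
        ThreeData (π (.of 0)) (π (.of 1)) (π (.of 2)) (π (.of 3)) φ μ e → ∀ r ∈ L, π r = 1) ∧
      ∀ (G : Type) [Group G] (ψ : FreeGroup (Fin 4) →* G), (∀ r ∈ L, ψ r = 1) →
        ∃ φ : F → G, ThreeData (ψ (.of 0)) (ψ (.of 1)) (ψ (.of 2)) (ψ (.of 3)) φ μ e := by
  haveI : CharP F p := charP_of_injective_algebraMap (algebraMap (ZMod p) F).injective p
  set U : FreeGroup (Fin 4) := .of 0
  set H : FreeGroup (Fin 4) := .of 1
  set W : FreeGroup (Fin 4) := .of 2
  set C₀ : FreeGroup (Fin 4) := .of 3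
  set K := (C₀ * H * C₀⁻¹)⁻¹ with hK
  obtain ⟨C, R, hC, hcop, hCT, hCG⟩ := exists_tri_rels p hgen U K
  obtain ⟨x, y, hxy⟩ := hcop
  set g : (ZMod p)[X] := X ^ 2 * y * R with hgdef
  have hg : aeval μ g = μ * μ := by
    have h1 := congrArg (aeval μ) hxy
    rw [map_add, map_mul, map_mul, minpoly.aeval, mul_zero, zero_add, map_one] at h1
    rw [hgdef, mul_assoc, map_mul, map_mul, h1, mul_one, map_pow, aeval_X, pow_two]
  have hpoly : ∀ t : F, ∃ f : (ZMod p)[X], aeval μ f = t := fun t => by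
    by_cases ht : t = 0
    · exact ⟨0, by simp [ht]⟩
    · obtain ⟨i, rfl⟩ := hgen t ht
      exact ⟨X ^ i, by simp⟩
  let bilW : ℕ → FreeGroup (Fin 4) := fun i =>
    U * (C₀ * sh U K i * C₀⁻¹) * ((C₀ * C₀) * (W * (sh U K i)⁻¹ * W⁻¹) * (C₀ * C₀)⁻¹ *
      (C₀ * sh U K i * C₀⁻¹) * U)⁻¹
  refine ⟨[U ^ p, H * U * H⁻¹ * (wv p U K g)⁻¹, H * K * (K * H)⁻¹, W * H * W⁻¹ * H,
    W * W * (H ^ e)⁻¹, W * U * W * (U⁻¹ * H ^ e * W * U⁻¹)⁻¹, C₀ * C₀ * C₀,
    W * C₀ * W⁻¹ * (H ^ e * C₀⁻¹)⁻¹, (C₀ * C₀) * H * (C₀ * C₀)⁻¹ * (H⁻¹ * K)⁻¹,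
    bilW 0, bilW 1, bilW 2] ++ C,
    by simp only [List.length_append, List.length_cons, List.length_nil]; omega,
    fun T _ π φ D z hz => ?_, fun G _ ψ hL => ?_⟩
  · have Rt : IsRoot φ (π U) (π K) μ := by
      have := D.root
      simpa only [hK, map_inv, map_mul] using this
    have hbil : ∀ i, i < 3 → π (bilW i) = 1 := by
      intro i hi
      simp only [bilW, map_mul, map_inv, map_sh, mul_inv_eq_one, Rt.shift]
      rw [← Rt.one, ← Rt.neg]
      exact D.bil i hi
    simp only [List.mem_append, List.mem_cons, List.not_mem_nil, or_false] at hz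
    rcases hz with (rfl | rfl | rfl | rfl | rfl | rfl | rfl | rfl | rfl | rfl | rfl | rfl) | hz
    · rw [map_pow, ← Rt.one, Rt.pow, CharP.cast_eq_zero, zero_mul, Rt.zero]
    · rw [map_mul, map_inv, mul_inv_eq_one, map_wv, Rt.wv_eq, hg, map_mul, map_mul, map_inv,
        ← Rt.one, D.scale, mul_one]
    · simp only [hK, map_mul, map_inv, mul_inv_eq_one]; exact D.comm.eq
    · rw [map_mul, map_mul, map_mul, map_inv, D.inv, inv_mul_cancel]
    · rw [map_mul, map_mul, map_inv, map_pow, D.sq, mul_inv_cancel]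
    · simp only [map_mul, map_inv, map_pow, mul_inv_eq_one]
      have n1 : φ (-1) = (π U)⁻¹ := by rw [Rt.neg, Rt.one]
      rw [← n1, ← Rt.one]; exact D.rel
    · rw [map_mul, map_mul]; exact D.cube
    · simp only [map_mul, map_inv, map_pow, mul_inv_eq_one]; exact D.mono
    · simp only [hK, map_mul, map_inv, mul_inv_eq_one]; exact D.tor
    · exact hbil 0 (by omega)
    · exact hbil 1 (by omega)
    · exact hbil 2 (by omega)
    · exact hCT T π φ Rt z hz
  · have hmem := fun r hr => hL r (List.mem_append_left C hr)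
    simp only [List.forall_mem_cons, List.not_mem_nil, IsEmpty.forall_iff, implies_true, and_true,
      map_mul, map_inv, map_pow, map_wv, mul_inv_eq_one] at hmem
    obtain ⟨hup, hscale, hcomm, hinv, hsq, hrel, hcube, hmono, htor, b0, b1, b2⟩ := hmem
    obtain ⟨hc, hP⟩ := hCG G ψ (fun r hr => hL r (List.mem_append_right _ hr)) hup
    obtain ⟨φ, Rt, hsc, hwv⟩ := scale_of_rels p (ψ U) (ψ K) (ψ H) μ (μ * μ) hpoly R g hg
      ⟨X ^ 2 * y, by rw [hgdef]; ring⟩ hc hup hP hcomm hscale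
    have hK' : ψ K = (ψ C₀ * ψ H * (ψ C₀)⁻¹)⁻¹ := by rw [hK, map_inv, map_mul, map_mul, map_inv]
    have hbil : ∀ i, ψ (bilW i) = 1 → φ 1 * (ψ C₀ * φ (μ ^ i) * (ψ C₀)⁻¹) =
        (ψ C₀ * ψ C₀) * (ψ W * φ (-μ ^ i) * (ψ W)⁻¹) * (ψ C₀ * ψ C₀)⁻¹ *
          (ψ C₀ * φ (μ ^ i) * (ψ C₀)⁻¹) * φ 1 := by
      intro i hi
      simp only [bilW, map_mul, map_inv, map_sh, mul_inv_eq_one, Rt.shift] at hi
      rw [Rt.neg, Rt.one]
      exact hi
    have hb : ∀ i, i < 3 → ψ (bilW i) = 1 := by
      intro i hi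
      refine hL _ (List.mem_append_left C ?_)
      rcases (show i = 0 ∨ i = 1 ∨ i = 2 by omega) with rfl | rfl | rfl <;> simp
    refine ⟨φ,
      { mu_ne := hμ
        mu_gen := hgen
        mu_e := he
        root := hK' ▸ Rt
        scale := hsc
        comm := by rw [← hK']; exact hcomm
        inv := eq_inv_of_mul_eq_one_left hinv
        sq := hsq
        rel := by rw [Rt.neg, Rt.one]; exact hrel
        cube := hcube
        mono := hmono
        tor := by rw [← hK']; exact htor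
        bil := fun i hi => hbil i (hb i hi) }⟩

end CfsgLib.SLPres
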